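import Mathlib
import Cfsg.Agent.Lib.GHA.Defs
import Cfsg.Agent.Lib.SL2.PSL
import Cfsg.Agent.Lib.Gold.Defs

/-!
Vocabulary for Hayden's characterisation of `PSp₄(q)` by the centraliser of a `p`-central element.
See `plans/HAY.md`.
-/

set_option autoImplicit false

namespace CfsgLib.Hay

open Subgroup CfsgLib.W2 CfsgLib.Tech
open CfsgLib.GHA (xu hd wn xu_add xu_zero xu_neg hd_mul hd_one hd_inv)
open scoped MatrixGroups

/-- The group `q^(1+2) : SL₂(q)` in coordinates. -/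
@[ext] structure Jac (F : Type*) [Field F] where
  c : F
  d : F
  s : F
  A : SL(2, F)

section model

variable {F : Type*} [Field F]

theorem detA (A : SL(2, F)) : A 0 0 * A 1 1 - A 0 1 * A 1 0 = 1 := by
  have := A.2
  rwa [Matrix.det_fin_two] at this

theorem mulA (A B : SL(2, F)) (i j : Fin 2) : (A * B) i j = A i 0 * B 0 j + A i 1 * B 1 j := by
  simp [Matrix.mul_apply, Fin.sum_univ_two]

theorem extA {A B : SL(2, F)} (h00 : A 0 0 = B 0 0) (h01 : A 0 1 = B 0 1) (h10 : A 1 0 = B 1 0)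
    (h11 : A 1 1 = B 1 1) : A = B :=
  Matrix.SpecialLinearGroup.ext _ _ fun i j => by fin_cases i <;> fin_cases j <;> assumption

@[simp] theorem one00 : (1 : SL(2, F)) 0 0 = 1 := rfl
@[simp] theorem one01 : (1 : SL(2, F)) 0 1 = 0 := rfl
@[simp] theorem one10 : (1 : SL(2, F)) 1 0 = 0 := rfl
@[simp] theorem one11 : (1 : SL(2, F)) 1 1 = 1 := rfl
@[simp] theorem neg00 : (-1 : SL(2, F)) 0 0 = -1 := by simp
@[simp] theorem neg01 : (-1 : SL(2, F)) 0 1 = 0 := by simp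
@[simp] theorem neg10 : (-1 : SL(2, F)) 1 0 = 0 := by simp
@[simp] theorem neg11 : (-1 : SL(2, F)) 1 1 = -1 := by simp
@[simp] theorem inv00 (A : SL(2, F)) : A⁻¹ 0 0 = A 1 1 := by
  rw [Matrix.SpecialLinearGroup.SL2_inv_expl]; rfl
@[simp] theorem inv01 (A : SL(2, F)) : A⁻¹ 0 1 = -A 0 1 := by
  rw [Matrix.SpecialLinearGroup.SL2_inv_expl]; rfl
@[simp] theorem inv10 (A : SL(2, F)) : A⁻¹ 1 0 = -A 1 0 := by
  rw [Matrix.SpecialLinearGroup.SL2_inv_expl]; rfl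
@[simp] theorem inv11 (A : SL(2, F)) : A⁻¹ 1 1 = A 0 0 := by
  rw [Matrix.SpecialLinearGroup.SL2_inv_expl]; rfl
@[simp] theorem xu00 (b : F) : xu b 0 0 = 1 := rfl
@[simp] theorem xu01 (b : F) : xu b 0 1 = b := rfl
@[simp] theorem xu10 (b : F) : xu b 1 0 = 0 := rfl
@[simp] theorem xu11 (b : F) : xu b 1 1 = 1 := rfl
@[simp] theorem hd00 (a : Fˣ) : hd a 0 0 = a := rfl
@[simp] theorem hd01 (a : Fˣ) : hd a 0 1 = 0 := rfl
@[simp] theorem hd10 (a : Fˣ) : hd a 1 0 = 0 := rfl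
@[simp] theorem hd11 (a : Fˣ) : hd a 1 1 = (a : F)⁻¹ := Units.val_inv_eq_inv_val a
@[simp] theorem wn00 : wn F 0 0 = 0 := rfl
@[simp] theorem wn01 : wn F 0 1 = 1 := rfl
@[simp] theorem wn10 : wn F 1 0 = -1 := rfl
@[simp] theorem wn11 : wn F 1 1 = 0 := rfl

theorem xu_inj {b b' : F} : xu b = xu b' ↔ b = b' :=
  ⟨fun h => by simpa using congrArg (fun A : SL(2, F) => A 0 1) h, fun h => h ▸ rfl⟩

theorem xu_eq_one {b : F} : xu b = 1 ↔ b = 0 := by rw [← xu_zero, xu_inj]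

theorem hd_neg_one : hd (-1 : Fˣ) = (-1 : SL(2, F)) := extA (by simp) (by simp) (by simp) (by simp)

theorem hd_xu (a : Fˣ) (b : F) : hd a * xu b * (hd a)⁻¹ = xu (a ^ 2 * b) :=
  extA (by simp [mulA]) (by simp [mulA]; ring) (by simp [mulA]) (by simp [mulA])

namespace Jac

instance : Mul (Jac F) := ⟨fun x y => ⟨x.c + (x.A 0 0 * y.c + x.A 0 1 * y.d),
  x.d + (x.A 1 0 * y.c + x.A 1 1 * y.d),
  x.s + y.s + (x.c * (x.A 1 0 * y.c + x.A 1 1 * y.d) - x.d * (x.A 0 0 * y.c + x.A 0 1 * y.d)),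
  x.A * y.A⟩⟩

instance : One (Jac F) := ⟨⟨0, 0, 0, 1⟩⟩

instance : Inv (Jac F) := ⟨fun x => ⟨-(x.A 1 1 * x.c - x.A 0 1 * x.d), -(x.A 0 0 * x.d - x.A 1 0 * x.c),
  -x.s, x.A⁻¹⟩⟩

@[simp] theorem mul_c (x y : Jac F) : (x * y).c = x.c + (x.A 0 0 * y.c + x.A 0 1 * y.d) := rfl
@[simp] theorem mul_d (x y : Jac F) : (x * y).d = x.d + (x.A 1 0 * y.c + x.A 1 1 * y.d) := rfl
@[simp] theorem mul_s (x y : Jac F) : (x * y).s = x.s + y.s +
    (x.c * (x.A 1 0 * y.c + x.A 1 1 * y.d) - x.d * (x.A 0 0 * y.c + x.A 0 1 * y.d)) := rfl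
@[simp] theorem mul_A (x y : Jac F) : (x * y).A = x.A * y.A := rfl
@[simp] theorem one_c : (1 : Jac F).c = 0 := rfl
@[simp] theorem one_d : (1 : Jac F).d = 0 := rfl
@[simp] theorem one_s : (1 : Jac F).s = 0 := rfl
@[simp] theorem one_A : (1 : Jac F).A = 1 := rfl
@[simp] theorem inv_c (x : Jac F) : x⁻¹.c = -(x.A 1 1 * x.c - x.A 0 1 * x.d) := rfl
@[simp] theorem inv_d (x : Jac F) : x⁻¹.d = -(x.A 0 0 * x.d - x.A 1 0 * x.c) := rfl
@[simp] theorem inv_s (x : Jac F) : x⁻¹.s = -x.s := rfl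
@[simp] theorem inv_A (x : Jac F) : x⁻¹.A = x.A⁻¹ := rfl

instance : Group (Jac F) := Group.ofLeftAxioms
  (fun x y z => by
    have h := detA x.A
    refine Jac.ext ?_ ?_ ?_ (mul_assoc _ _ _) <;> simp only [mul_c, mul_d, mul_s, mul_A, mulA]
    · ring
    · ring
    · linear_combination (y.c * (y.A 1 0 * z.c + y.A 1 1 * z.d) - y.d * (y.A 0 0 * z.c + y.A 0 1 * z.d)) * h)
  (fun x => Jac.ext (by simp) (by simp) (by simp) (one_mul _))
  (fun x => Jac.ext (by simp; ring) (by simp) (by simp; ring) (inv_mul_cancel _))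

/-- `Jac F` as a product of sets -/
def equiv (F : Type*) [Field F] : Jac F ≃ F × F × F × SL(2, F) where
  toFun x := (x.c, x.d, x.s, x.A)
  invFun x := ⟨x.1, x.2.1, x.2.2.1, x.2.2.2⟩
  left_inv _ := rfl
  right_inv _ := rfl

instance [Finite F] : Finite (Jac F) := Finite.of_equiv _ (equiv F).symm

/-- the projection to `SL₂` -/
def prj : Jac F →* SL(2, F) := MonoidHom.mk' (fun x => x.A) fun _ _ => rfl

/-- the complement `SL₂` -/
def inl : SL(2, F) →* Jac F :=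
  MonoidHom.mk' (fun A => ⟨0, 0, 0, A⟩) fun _ _ => Jac.ext (by simp) (by simp) (by simp) rfl

end Jac

end model

variable {G : Type*} [Group G] {F : Type*} [Field F]

/-- the elements of `M` -/
def m (φ : Jac F →* G) (s c b : F) : G := φ ⟨c, 0, s, xu b⟩
/-- the elements of `Y` -/
def y (φ : Jac F →* G) (d : F) : G := φ ⟨0, d, 0, 1⟩
/-- the elements of `Q` -/
def qq (φ : Jac F →* G) (c d s : F) : G := φ ⟨c, d, s, 1⟩
/-- the embedding of `L = SL₂` -/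
def l (φ : Jac F →* G) : SL(2, F) →* G := φ.comp Jac.inl
/-- the torus -/
def hh (φ : Jac F →* G) (a : Fˣ) : G := l φ (hd a)
/-- the involution -/
def t (φ : Jac F →* G) : G := l φ (-1)

section calculus

variable (φ : Jac F →* G)

theorem l_apply (A : SL(2, F)) : l φ A = φ ⟨0, 0, 0, A⟩ := rfl

theorem m_mul (s c b s' c' b' : F) : m φ s c b * m φ s' c' b' = m φ (s + s') (c + c') (b + b') := by
  rw [m, m, m, ← map_mul]
  exact congrArg φ (Jac.ext (by simp) (by simp) (by simp) (xu_add _ _).symm)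

@[simp] theorem m_zero : m φ 0 0 0 = 1 := by
  rw [m, xu_zero]; exact φ.map_one

theorem m_inv (s c b : F) : (m φ s c b)⁻¹ = m φ (-s) (-c) (-b) :=
  inv_eq_of_mul_eq_one_right (by rw [m_mul]; simp)

theorem m_pow (s c b : F) (n : ℕ) : m φ s c b ^ n = m φ (n * s) (n * c) (n * b) := by
  induction n with
  | zero => simp
  | succ n ih => rw [pow_succ, ih, m_mul]; congr 1 <;> push_cast <;> ring

theorem m_comm (s c b s' c' b' : F) : m φ s c b * m φ s' c' b' = m φ s' c' b' * m φ s c b := by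
  rw [m_mul, m_mul, add_comm s, add_comm c, add_comm b]

theorem qq_mul (c d s c' d' s' : F) :
    qq φ c d s * qq φ c' d' s' = qq φ (c + c') (d + d') (s + s' + (c * d' - d * c')) := by
  rw [qq, qq, qq, ← map_mul]
  exact congrArg φ (Jac.ext (by simp) (by simp) (by simp) (mul_one _))

@[simp] theorem qq_zero : qq φ 0 0 0 = 1 := φ.map_one

theorem qq_inv (c d s : F) : (qq φ c d s)⁻¹ = qq φ (-c) (-d) (-s) :=
  inv_eq_of_mul_eq_one_right (by rw [qq_mul]; simp [mul_comm])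

theorem qq_pow (c d s : F) (n : ℕ) : qq φ c d s ^ n = qq φ (n * c) (n * d) (n * s) := by
  induction n with
  | zero => simp
  | succ n ih => rw [pow_succ, ih, qq_mul]; congr 1 <;> push_cast <;> ring

theorem qq_m (c s : F) : qq φ c 0 s = m φ s c 0 := by rw [m, xu_zero]; rfl

theorem qq_y (d : F) : qq φ 0 d 0 = y φ d := rfl

theorem y_mul (d d' : F) : y φ d * y φ d' = y φ (d + d') := by
  simpa [qq_y] using qq_mul φ 0 d 0 0 d' 0

@[simp] theorem y_zero : y φ 0 = 1 := φ.map_one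

theorem y_inv (d : F) : (y φ d)⁻¹ = y φ (-d) :=
  inv_eq_of_mul_eq_one_right (by rw [y_mul]; simp)

theorem y_pow (d : F) (n : ℕ) : y φ d ^ n = y φ (n * d) := by
  simpa [qq_y] using qq_pow φ 0 d 0 n

theorem y_conj (d s c b : F) :
    y φ d * m φ s c b * (y φ d)⁻¹ = m φ (s - 2 * c * d + b * d ^ 2) (c - b * d) b := by
  rw [y, m, m, ← map_inv, ← map_mul, ← map_mul]
  exact congrArg φ (Jac.ext (by simp; ring) (by simp) (by simp; ring) (by simp))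

theorem l_xu (b : F) : l φ (xu b) = m φ 0 0 b := rfl

theorem l_conj_qq (A : SL(2, F)) (c d s : F) : l φ A * qq φ c d s * (l φ A)⁻¹ =
    qq φ (A 0 0 * c + A 0 1 * d) (A 1 0 * c + A 1 1 * d) s := by
  rw [l_apply, qq, qq, ← map_inv, ← map_mul, ← map_mul]
  exact congrArg φ (Jac.ext (by simp) (by simp) (by simp) (by simp))

theorem qq_mul_l (c d s : F) (A : SL(2, F)) : qq φ c d s * l φ A = φ ⟨c, d, s, A⟩ := by
  rw [l_apply, qq, ← map_mul]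
  exact congrArg φ (Jac.ext (by simp) (by simp) (by simp) (by simp))

theorem m_mul_y (s c b d : F) :
    m φ s c b * y φ d = φ ⟨c + b * d, d, s + c * d, xu b⟩ := by
  rw [m, y, ← map_mul]
  exact congrArg φ (Jac.ext (by simp) (by simp) (by simp) (by simp))

theorem z_comm (s : F) (x : Jac F) : φ x * m φ s 0 0 = m φ s 0 0 * φ x := by
  rw [m, ← map_mul, ← map_mul, xu_zero]
  exact congrArg φ (Jac.ext (by simp) (by simp) (by simp [add_comm]) (by simp))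

theorem hh_mul (a a' : Fˣ) : hh φ a * hh φ a' = hh φ (a * a') := by rw [hh, hh, hh, hd_mul, map_mul]

@[simp] theorem hh_one : hh φ 1 = 1 := by rw [hh, hd_one, map_one]

theorem hh_inv (a : Fˣ) : (hh φ a)⁻¹ = hh φ a⁻¹ := by rw [hh, hh, hd_inv, map_inv]

theorem hh_pow (a : Fˣ) (n : ℕ) : hh φ a ^ n = hh φ (a ^ n) := by
  induction n with
  | zero => simp
  | succ n ih => rw [pow_succ, ih, hh_mul, pow_succ]

theorem hh_neg_one : hh φ (-1) = t φ := by rw [hh, hd_neg_one, t]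

theorem hh_conj_m (a : Fˣ) (s c b : F) :
    hh φ a * m φ s c b * (hh φ a)⁻¹ = m φ s (a * c) (a ^ 2 * b) := by
  rw [hh, l_apply, m, m, ← map_inv, ← map_mul, ← map_mul]
  exact congrArg φ (Jac.ext (by simp) (by simp) (by simp) (hd_xu a b))

theorem hh_conj_y (a : Fˣ) (d : F) : hh φ a * y φ d * (hh φ a)⁻¹ = y φ ((a : F)⁻¹ * d) := by
  simpa [qq_y, hh] using l_conj_qq φ (hd a) 0 d 0

theorem t_mul_t : t φ * t φ = 1 := by rw [t, ← map_mul]; simp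

theorem t_inv : (t φ)⁻¹ = t φ := inv_eq_of_mul_eq_one_right (t_mul_t φ)

theorem t_l (A : SL(2, F)) : l φ A * t φ = t φ * l φ A := by rw [t, ← map_mul, ← map_mul]; simp

theorem t_conj_m (s c b : F) : t φ * m φ s c b * (t φ)⁻¹ = m φ s (-c) b := by
  simpa [hh_neg_one] using hh_conj_m φ (-1) s c b

theorem t_conj_qq (c d s : F) : t φ * qq φ c d s * (t φ)⁻¹ = qq φ (-c) (-d) s := by
  simpa [t] using l_conj_qq φ (-1) c d s

theorem t_conj_y (d : F) : t φ * y φ d * (t φ)⁻¹ = y φ (-d) := by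
  simpa [qq_y] using t_conj_qq φ 0 d 0

end calculus

/-- a subgroup of `M` given by an additive subgroup of `F³` -/
def sub (φ : Jac F →* G) (A : AddSubgroup (F × F × F)) : Subgroup G where
  carrier := {g | ∃ s c b, (s, c, b) ∈ A ∧ m φ s c b = g}
  one_mem' := ⟨0, 0, 0, A.zero_mem, m_zero φ⟩
  mul_mem' := by
    rintro _ _ ⟨s, c, b, h, rfl⟩ ⟨s', c', b', h', rfl⟩
    exact ⟨_, _, _, A.add_mem h h', (m_mul φ ..).symm⟩
  inv_mem' := by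
    rintro _ ⟨s, c, b, h, rfl⟩
    exact ⟨_, _, _, A.neg_mem h, (m_inv φ ..).symm⟩

/-- `M`, of order `q³` -/
def sM (φ : Jac F →* G) : Subgroup G := sub φ ⊤
/-- `Z = Z(C)` -/
def sZ (φ : Jac F →* G) : Subgroup G := sub φ ((⊤ : AddSubgroup F).prod ⊥)
/-- `R = [M, t]` -/
def sR (φ : Jac F →* G) : Subgroup G := sub φ ((⊥ : AddSubgroup F).prod ((⊤ : AddSubgroup F).prod ⊥))
/-- `X = M ∩ L` -/
def sX (φ : Jac F →* G) : Subgroup G := sub φ ((⊥ : AddSubgroup F).prod ((⊥ : AddSubgroup F).prod ⊤))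
/-- `V = Z X = C_M(t)` -/
def sV (φ : Jac F →* G) : Subgroup G := sub φ ((⊤ : AddSubgroup F).prod ((⊥ : AddSubgroup F).prod ⊤))
/-- `L = SL₂(q)` -/
def sL (φ : Jac F →* G) : Subgroup G := (l φ).range
/-- `Q = O_p(C)` -/
def sQ (φ : Jac F →* G) : Subgroup G := (Jac.prj (F := F)).ker.map φ
/-- the upper unitriangular group -/
def uU (F : Type*) [Field F] : Subgroup SL(2, F) where
  carrier := {A | ∃ b, xu b = A}
  one_mem' := ⟨0, xu_zero⟩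
  mul_mem' := by rintro _ _ ⟨b, rfl⟩ ⟨b', rfl⟩; exact ⟨_, xu_add b b'⟩
  inv_mem' := by rintro _ ⟨b, rfl⟩; exact ⟨_, xu_neg b⟩
/-- the upper triangular group -/
def uB (F : Type*) [Field F] : Subgroup SL(2, F) where
  carrier := {A | A 1 0 = 0}
  one_mem' := rfl
  mul_mem' := fun {A B} (hA : A 1 0 = 0) (hB : B 1 0 = 0) => by
    change (A * B) 1 0 = 0
    rw [mulA, hA, hB]; ring
  inv_mem' := fun {A} (hA : A 1 0 = 0) => by
    change A⁻¹ 1 0 = 0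
    rw [inv10, hA, neg_zero]
/-- `P`, the Sylow `p`-subgroup -/
def sP (φ : Jac F →* G) : Subgroup G := ((uU F).comap Jac.prj).map φ
/-- `B = P T = N_C(M)` -/
def sB (φ : Jac F →* G) : Subgroup G := ((uB F).comap Jac.prj).map φ
/-- the torus `T` -/
def sT (φ : Jac F →* G) : Subgroup G where
  carrier := {g | ∃ a, hh φ a = g}
  one_mem' := ⟨1, hh_one φ⟩
  mul_mem' := by rintro _ _ ⟨a, rfl⟩ ⟨b, rfl⟩; exact ⟨_, (hh_mul φ a b).symm⟩
  inv_mem' := by rintro _ ⟨a, rfl⟩; exact ⟨_, (hh_inv φ a).symm⟩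
/-- the odd part of the torus -/
def sTb (φ : Jac F →* G) : Subgroup G where
  carrier := {g | ∃ a, hh φ (a ^ 2) = g}
  one_mem' := ⟨1, by rw [one_pow, hh_one]⟩
  mul_mem' := by rintro _ _ ⟨a, rfl⟩ ⟨b, rfl⟩; exact ⟨a * b, by rw [mul_pow, hh_mul]⟩
  inv_mem' := by rintro _ ⟨a, rfl⟩; exact ⟨a⁻¹, by rw [inv_pow, hh_inv]⟩

section mem

variable {φ : Jac F →* G} {g : G}

theorem mem_M : g ∈ sM φ ↔ ∃ s c b, m φ s c b = g := by
  change (∃ s c b, _ ∧ _) ↔ _; simp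
theorem mem_Z : g ∈ sZ φ ↔ ∃ s, m φ s 0 0 = g := by
  change (∃ s c b, _ ∧ _) ↔ _; simp [AddSubgroup.mem_prod, Prod.ext_iff]
theorem mem_R : g ∈ sR φ ↔ ∃ c, m φ 0 c 0 = g := by
  change (∃ s c b, _ ∧ _) ↔ _; simp [AddSubgroup.mem_prod]
theorem mem_X : g ∈ sX φ ↔ ∃ b, m φ 0 0 b = g := by
  change (∃ s c b, _ ∧ _) ↔ _; simp [AddSubgroup.mem_prod]
theorem mem_V : g ∈ sV φ ↔ ∃ s b, m φ s 0 b = g := by
  change (∃ s c b, _ ∧ _) ↔ _; simp [AddSubgroup.mem_prod]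
theorem mem_L : g ∈ sL φ ↔ ∃ A, l φ A = g := Iff.rfl
theorem mem_T : g ∈ sT φ ↔ ∃ a, hh φ a = g := Iff.rfl
theorem mem_Tb : g ∈ sTb φ ↔ ∃ a, hh φ (a ^ 2) = g := Iff.rfl
theorem mem_Q : g ∈ sQ φ ↔ ∃ c d s, qq φ c d s = g := by
  constructor
  · rintro ⟨⟨c, d, s, A⟩, (h : A = 1), rfl⟩
    exact ⟨c, d, s, by rw [h]; rfl⟩
  · rintro ⟨c, d, s, rfl⟩
    exact ⟨⟨c, d, s, 1⟩, rfl, rfl⟩
theorem mem_P' : g ∈ sP φ ↔ ∃ c d s b, φ ⟨c, d, s, xu b⟩ = g := by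
  constructor
  · rintro ⟨⟨c, d, s, A⟩, ⟨b, (h : xu b = A)⟩, rfl⟩
    exact ⟨c, d, s, b, by rw [h]⟩
  · rintro ⟨c, d, s, b, rfl⟩
    exact ⟨_, ⟨b, rfl⟩, rfl⟩
theorem mem_P : g ∈ sP φ ↔ ∃ s c b d, m φ s c b * y φ d = g := by
  rw [mem_P']
  constructor
  · rintro ⟨c, d, s, b, rfl⟩
    refine ⟨s - (c - b * d) * d, c - b * d, b, d, ?_⟩
    rw [m_mul_y]; congr 2 <;> ring
  · rintro ⟨s, c, b, d, rfl⟩
    exact ⟨_, _, _, _, (m_mul_y φ ..).symm⟩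
theorem mem_B' : g ∈ sB φ ↔ ∃ x : Jac F, x.A 1 0 = 0 ∧ φ x = g := Iff.rfl
theorem mem_B : g ∈ sB φ ↔ ∃ u ∈ sP φ, ∃ a, u * hh φ a = g := by
  constructor
  · rintro ⟨⟨c, d, s, A⟩, (h : A 1 0 = 0), rfl⟩
    have e := detA A
    rw [h, mul_zero, sub_zero] at e
    have h0 : A 0 0 ≠ 0 := left_ne_zero_of_mul_eq_one e
    refine ⟨φ ⟨c, d, s, xu (A 0 1 * A 0 0)⟩, mem_P'.2 ⟨_, _, _, _, rfl⟩, Units.mk0 _ h0, ?_⟩
    rw [hh, l_apply, ← map_mul]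
    refine congrArg φ (Jac.ext (by simp) (by simp) (by simp) (extA ?_ ?_ ?_ ?_)) <;> simp [mulA, h, h0]
    exact (eq_inv_of_mul_eq_one_right e).symm
  · rintro ⟨_, ⟨⟨c, d, s, A⟩, ⟨b, (h : xu b = A)⟩, rfl⟩, a, rfl⟩
    refine ⟨⟨c, d, s, A⟩ * ⟨0, 0, 0, hd a⟩, ?_, by rw [map_mul]; rfl⟩
    change (A * hd a) 1 0 = 0
    rw [← h]; simp [mulA]
theorem mem_C : g ∈ φ.range ↔ ∃ c d s A, qq φ c d s * l φ A = g := by
  constructor
  · rintro ⟨⟨c, d, s, A⟩, rfl⟩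
    exact ⟨c, d, s, A, qq_mul_l φ ..⟩
  · rintro ⟨c, d, s, A, rfl⟩
    exact ⟨_, (qq_mul_l φ ..).symm⟩

theorem m_mem_M (s c b : F) : m φ s c b ∈ sM φ := mem_M.2 ⟨_, _, _, rfl⟩
theorem m_mem_Z (s : F) : m φ s 0 0 ∈ sZ φ := mem_Z.2 ⟨_, rfl⟩
theorem m_mem_R (c : F) : m φ 0 c 0 ∈ sR φ := mem_R.2 ⟨_, rfl⟩
theorem m_mem_X (b : F) : m φ 0 0 b ∈ sX φ := mem_X.2 ⟨_, rfl⟩
theorem m_mem_V (s b : F) : m φ s 0 b ∈ sV φ := mem_V.2 ⟨_, _, rfl⟩
theorem l_mem_L (A : SL(2, F)) : l φ A ∈ sL φ := ⟨A, rfl⟩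
theorem t_mem_L : t φ ∈ sL φ := ⟨_, rfl⟩
theorem hh_mem_T (a : Fˣ) : hh φ a ∈ sT φ := ⟨a, rfl⟩
theorem t_mem_T : t φ ∈ sT φ := ⟨-1, hh_neg_one φ⟩
theorem qq_mem_Q (c d s : F) : qq φ c d s ∈ sQ φ := mem_Q.2 ⟨_, _, _, rfl⟩
theorem y_mem_Q (d : F) : y φ d ∈ sQ φ := qq_mem_Q 0 d 0
theorem y_mem_P (d : F) : y φ d ∈ sP φ := mem_P.2 ⟨0, 0, 0, d, by simp⟩

theorem Z_le_V : sZ φ ≤ sV φ := fun _ h => let ⟨s, e⟩ := mem_Z.1 h; e ▸ m_mem_V s 0
theorem X_le_V : sX φ ≤ sV φ := fun _ h => let ⟨b, e⟩ := mem_X.1 h; e ▸ m_mem_V 0 b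
theorem V_le_M : sV φ ≤ sM φ := fun _ h => let ⟨s, b, e⟩ := mem_V.1 h; e ▸ m_mem_M s 0 b
theorem R_le_M : sR φ ≤ sM φ := fun _ h => let ⟨c, e⟩ := mem_R.1 h; e ▸ m_mem_M 0 c 0
theorem Z_le_M : sZ φ ≤ sM φ := Z_le_V.trans V_le_M
theorem X_le_M : sX φ ≤ sM φ := X_le_V.trans V_le_M
theorem M_le_P : sM φ ≤ sP φ := fun _ h =>
  let ⟨s, c, b, e⟩ := mem_M.1 h; mem_P.2 ⟨s, c, b, 0, by simpa using e⟩
theorem Q_le_P : sQ φ ≤ sP φ := fun _ h =>
  let ⟨c, d, s, e⟩ := mem_Q.1 h; mem_P'.2 ⟨c, d, s, 0, by rw [xu_zero]; exact e⟩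
theorem Z_le_Q : sZ φ ≤ sQ φ := fun _ h =>
  let ⟨s, e⟩ := mem_Z.1 h; mem_Q.2 ⟨0, 0, s, by rw [qq_m]; exact e⟩
theorem R_le_Q : sR φ ≤ sQ φ := fun _ h =>
  let ⟨c, e⟩ := mem_R.1 h; mem_Q.2 ⟨c, 0, 0, by rw [qq_m]; exact e⟩
theorem P_le_B : sP φ ≤ sB φ := fun u h => mem_B.2 ⟨u, h, 1, by simp⟩
theorem T_le_B : sT φ ≤ sB φ := fun _ ⟨a, e⟩ => mem_B.2 ⟨1, one_mem _, a, by simpa using e⟩
theorem Tb_le_T : sTb φ ≤ sT φ := fun _ ⟨_, e⟩ => ⟨_, e⟩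
theorem T_le_L : sT φ ≤ sL φ := fun _ ⟨_, e⟩ => ⟨_, e⟩
theorem X_le_L : sX φ ≤ sL φ := fun _ h => let ⟨b, e⟩ := mem_X.1 h; ⟨xu b, e⟩
theorem B_le_C : sB φ ≤ φ.range := map_le_range _ _
theorem P_le_C : sP φ ≤ φ.range := map_le_range _ _
theorem Q_le_C : sQ φ ≤ φ.range := map_le_range _ _
theorem M_le_C : sM φ ≤ φ.range := M_le_P.trans P_le_C
theorem L_le_C : sL φ ≤ φ.range := fun _ ⟨_, e⟩ => ⟨_, e⟩
theorem Z_sup_X : sZ φ ⊔ sX φ = sV φ :=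
  le_antisymm (sup_le Z_le_V X_le_V) fun _ h => by
    obtain ⟨s, b, rfl⟩ := mem_V.1 h
    simpa [m_mul] using mul_mem_sup (m_mem_Z (φ := φ) s) (m_mem_X (φ := φ) b)
theorem X_eq : sX φ = (uU F).map (l φ) := by
  ext g
  rw [mem_X]
  exact ⟨fun ⟨b, e⟩ => ⟨xu b, ⟨b, rfl⟩, e⟩, by rintro ⟨_, ⟨b, rfl⟩, e⟩; exact ⟨b, e⟩⟩
theorem L_le_H : sL φ ≤ Cx (t φ) := fun _ ⟨A, e⟩ => e ▸ mem_Cx.2 (t_l φ A)
theorem V_le_H : sV φ ≤ Cx (t φ) := fun _ h => by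
  obtain ⟨s, b, rfl⟩ := mem_V.1 h
  rw [Cx_comm, mem_Cx', t_conj_m, neg_zero]
theorem M_comm {u v : G} (hu : u ∈ sM φ) (hv : v ∈ sM φ) : u * v = v * u := by
  obtain ⟨s, c, b, rfl⟩ := mem_M.1 hu
  obtain ⟨s', c', b', rfl⟩ := mem_M.1 hv
  exact m_comm φ ..
theorem C_comm_Z {u z : G} (hu : u ∈ φ.range) (hz : z ∈ sZ φ) : u * z = z * u := by
  obtain ⟨x, rfl⟩ := hu
  obtain ⟨s, rfl⟩ := mem_Z.1 hz
  exact z_comm φ s x

end mem

/-- Hayden's hypothesis: the image of `φ` is the centraliser of each nonidentity element of `Z`. -/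
structure Hay [Fintype F] (φ : Jac F →* G) : Prop where
  inj : Function.Injective φ
  cent : ∀ s ≠ 0, Cx (m φ s 0 0) = φ.range
  q4 : Fintype.card F % 4 = 3

/-- The field has `3 ^ n` elements, `n > 1` odd. -/
structure Three (F : Type*) [Field F] [Fintype F] : Prop where
  three : (3 : F) = 0
  big : 27 ≤ Fintype.card F
  q8 : Fintype.card F % 8 = 3

/-- The nonidentity elements of `Z` are not all conjugate. -/
def NC (φ : Jac F →* G) : Prop :=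
  ∃ s s' : F, s ≠ 0 ∧ s' ≠ 0 ∧ ∀ g : G, g * m φ s 0 0 * g⁻¹ ≠ m φ s' 0 0

/-- Case II: the involution `w` interchanges the two conjugates of `Z` in `V`. -/
structure Two [Fintype F] (φ : Jac F →* G) (w : G) : Prop where
  hay : Hay φ
  wM : w ∈ normalizer (sM φ : Set G)
  wt : w ∈ Cx (t φ)
  ww : w * w = 1
  wZ : w ∉ normalizer (sZ φ : Set G)
  sig : ∀ g, cj g (sZ φ) ≤ sM φ → cj g (sZ φ) = sZ φ ∨ ∃ d, cj g (sZ φ) = cj (y φ d * w) (sZ φ)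
  nz : ∀ g ∈ normalizer (sZ φ : Set G), ∃ c ∈ φ.range, ∃ a : Fˣ, g = c * (w * hh φ (a ^ 2) * w⁻¹)
  wX : 3 < Fintype.card F → cj w (sZ φ) = sX φ

/-- Inside `C(t) ∩ C(X)` the conjugates of elements of `Z` in `V` lie in `Z`. -/
def Com (φ : Jac F →* G) : Prop :=
  ∀ g ∈ Cx (t φ) ⊓ centralizer (sX φ : Set G), ∀ z ∈ sZ φ, z ≠ 1 → g * z * g⁻¹ ∈ sV φ →
    g ∈ normalizer (sZ φ : Set G)

/-- Case I. -/
structure One [Fintype F] (φ : Jac F →* G) : Prop where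
  hay : Hay φ
  th : Three F
  nm : normalizer (sM φ : Set G) ≤ normalizer (sZ φ : Set G)

/-- the centre of `K` -/
abbrev cen (K : Subgroup G) : Subgroup G := K ⊓ centralizer (K : Set G)

/-- `K` is a perfect central extension of `L₂(q)`, `q = 3 ^ n ≥ 27`, with Sylow 3-subgroup `Z`. -/
structure Ell (F : Type*) [Field F] [Fintype F] (K Z : Subgroup G) : Prop where
  three : (3 : F) = 0
  big : 27 ≤ Fintype.card F
  card : Nat.card Z = Fintype.card F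
  le : Z ≤ K
  perf : ⁅K, K⁆ = K
  iso : ∃ f : K →* PSL(2, F), Function.Surjective f ∧ f.ker ≤ center K ∧ ¬ 3 ∣ Nat.card f.ker ∧
    ∀ k : K, (k : G) ∈ Z → ∃ c, f k = SL2.pm (xu c)

/-- The conclusion of the analysis of `I = C(t) ∩ C(X)`. -/
structure KX [Fintype F] (φ : Jac F →* G) (K : Subgroup G) : Prop where
  eq : K = Gold.ncl (sZ φ) (Cx (t φ) ⊓ centralizer (sX φ : Set G))
  ell : Ell F K (sZ φ)
  comm : K ≤ centralizer (sL φ : Set G)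
  cen_le : cen K ≤ zpowers (t φ)
  gen : Cx (t φ) ⊓ centralizer (sX φ : Set G) = K ⊔ sX φ ⊔ zpowers (t φ)

/-- The abstract setting of case IB (in `C(t) / ⟨t⟩`). -/
structure SE [Fintype F] (ψ : SL(2, F) →* G) (Z : Subgroup G) : Prop where
  th : Three F
  ker : ∀ A, ψ A = 1 ↔ A = 1 ∨ A = -1
  card : Nat.card Z = Fintype.card F
  exp : ∀ z ∈ Z, z ^ 3 = 1
  inf : Z ⊓ ψ.range = ⊥
  cent : ∀ z ∈ Z, z ≠ 1 → Cx z = Z ⊔ ψ.range
  syl : IsSylowIn 3 (Z ⊔ (uU F).map ψ) ⊤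
  sc : ∀ g, ∀ z ∈ Z, z ≠ 1 → g * z * g⁻¹ ∈ normalizer (Z : Set G) → g ∈ normalizer (Z : Set G)
  cv : ∀ v ∈ Z ⊔ (uU F).map ψ, v ≠ 1 → Cx v ≤ normalizer (Z : Set G)
  hu : ∀ f, f ∈ Cx (ψ (xu 1)) → ¬ ∀ z ∈ Z, f * z * f⁻¹ = z⁻¹

theorem charP_three (h : (3 : F) = 0) : CharP F 3 :=
  (CharP.charP_iff_prime_eq_zero Nat.prime_three).2 (by simpa using h)

theorem M_cube (h : (3 : F) = 0) {φ : Jac F →* G} {u : G} (hu : u ∈ sM φ) : u ^ 3 = 1 := by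
  obtain ⟨s, c, b, rfl⟩ := mem_M.1 hu
  simp [m_pow, h]

theorem mem_zp {z x : G} (hz : z * z = 1) (hx : x ∈ zpowers z) : x = 1 ∨ x = z := by
  obtain ⟨n, rfl⟩ := hx
  have h2 : z ^ (2 : ℤ) = 1 := by rw [zpow_two, hz]
  rcases Int.even_or_odd' n with ⟨k, rfl | rfl⟩
  · left; simp [zpow_mul, h2]
  · right; simp [zpow_add, zpow_mul, h2]

namespace Hay

variable [Fintype F] {φ : Jac F →* G} (h : Hay φ)
include h

theorem odd : Odd (Fintype.card F) := Nat.odd_iff.2 (by have := h.q4; omega)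

theorem two_ne : (2 : F) ≠ 0 := fun e => by
  have := FiniteField.even_card_iff_char_two.1 (CharP.ringChar_of_prime_eq_zero Nat.prime_two (by simpa using e))
  have := h.q4
  omega

theorem neg_one_nonsq (a : F) : a ^ 2 ≠ -1 := fun e =>
  FiniteField.isSquare_neg_one_iff.1 ⟨a, by rw [← e, sq]⟩ h.q4

theorem m_inj {s c b s' c' b' : F} : m φ s c b = m φ s' c' b' ↔ s = s' ∧ c = c' ∧ b = b' := by
  rw [m, m, h.inj.eq_iff, Jac.ext_iff]; simp [xu_inj]; tauto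

theorem m_eq_one {s c b : F} : m φ s c b = 1 ↔ s = 0 ∧ c = 0 ∧ b = 0 := by
  rw [← m_zero φ, h.m_inj]

theorem qq_inj {c d s c' d' s' : F} : qq φ c d s = qq φ c' d' s' ↔ c = c' ∧ d = d' ∧ s = s' := by
  rw [qq, qq, h.inj.eq_iff, Jac.ext_iff]; simp

theorem y_inj {d d' : F} : y φ d = y φ d' ↔ d = d' := by
  rw [← qq_y, ← qq_y, h.qq_inj]; simp

theorem l_inj : Function.Injective (l φ) := fun _ _ e => congrArg Jac.A (h.inj e)

theorem hh_inj {a a' : Fˣ} : hh φ a = hh φ a' ↔ a = a' :=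
  ⟨fun e => Units.ext (by simpa using congrArg (fun A : SL(2, F) => A 0 0) (h.l_inj e)), fun e => e ▸ rfl⟩

theorem t_ne_one : t φ ≠ 1 := fun e => by
  have := congrArg (fun A : SL(2, F) => A 0 0) (h.l_inj (e.trans (l φ).map_one.symm))
  simp only [neg00, one00] at this
  exact h.two_ne (by linear_combination -this)

theorem ord_t : orderOf (t φ) = 2 := ord_two (t_mul_t φ) h.t_ne_one

theorem my_mem_M {s c b d : F} : m φ s c b * y φ d ∈ sM φ ↔ d = 0 := by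
  refine ⟨fun e => ?_, fun e => by simpa [e] using m_mem_M s c b⟩
  obtain ⟨s', c', b', e⟩ := mem_M.1 e
  rw [m_mul_y, m] at e
  exact (congrArg Jac.d (h.inj e)).symm

theorem cz {z : G} (hz : z ∈ sZ φ) (h1 : z ≠ 1) : Cx z = φ.range := by
  obtain ⟨s, rfl⟩ := mem_Z.1 hz
  exact h.cent s fun e => h1 (by simp [e])

theorem one_mem_ne : m φ 1 0 0 ≠ 1 := by simp [h.m_eq_one]

theorem cZ : centralizer (sZ φ : Set G) = φ.range :=
  le_antisymm (fun g hg => h.cent 1 one_ne_zero ▸ mem_Cx.2 (hg _ (m_mem_Z 1)).symm)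
    fun _ hg _ hz => (C_comm_Z hg hz).symm

/-- conjugating the embedding -/
theorem conj (g : G) : Hay ((MulAut.conj g).toMonoidHom.comp φ) :=
  ⟨(MulAut.conj g).injective.comp h.inj, fun s hs => by
    rw [MonoidHom.range_comp, ← h.cent s hs]; exact (cj_Cx g _).symm, h.q4⟩

end Hay

theorem sub_conj (φ : Jac F →* G) (g : G) (A : AddSubgroup (F × F × F)) :
    sub ((MulAut.conj g).toMonoidHom.comp φ) A = cj g (sub φ A) := by
  ext x
  constructor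
  · rintro ⟨s, c, b, h, rfl⟩
    exact ⟨m φ s c b, ⟨s, c, b, h, rfl⟩, rfl⟩
  · rintro ⟨_, ⟨s, c, b, h, rfl⟩, rfl⟩
    exact ⟨s, c, b, h, rfl⟩

theorem P_conj (φ : Jac F →* G) (g : G) :
    sP ((MulAut.conj g).toMonoidHom.comp φ) = cj g (sP φ) := (map_map _ _ _).symm

end CfsgLib.Hay
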