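import Mathlib
import Cfsg.Agent.Lib.Hay.Defs
import Cfsg.Agent.Lib.Classical.SLBasic

/-! Orders and centralisers inside the model group.  See `plans/HAY.md`. -/

set_option autoImplicit false
set_option linter.dupNamespace false

namespace CfsgLib.Hay

open Subgroup CfsgLib.W2 CfsgLib.Tech
open CfsgLib.GHA (xu hd wn xu_add xu_zero xu_neg hd_mul hd_one hd_inv)
open CfsgLib.Gold (ncl)
open scoped MatrixGroups

variable {G : Type*} [Group G] {F : Type*} [Field F] {φ : Jac F →* G}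

theorem bas1_mem_norm {g : G} {A : Subgroup G} (h1 : ∀ a ∈ A, g * a * g⁻¹ ∈ A)
    (h2 : ∀ a ∈ A, g⁻¹ * a * g⁻¹⁻¹ ∈ A) : g ∈ normalizer (A : Set G) := by
  rw [mem_normalizer_iff]
  exact fun a => ⟨h1 a, fun e => by simpa [mul_assoc] using h2 _ e⟩

theorem bas1_norm {K A : Subgroup G} (h : ∀ g ∈ K, ∀ a ∈ A, g * a * g⁻¹ ∈ A) :
    K ≤ normalizer (A : Set G) := fun g hg => bas1_mem_norm (h g hg) (h _ (inv_mem hg))

theorem bas1_eq_xu {A : SL(2, F)} (h10 : A 1 0 = 0) (h00 : A 0 0 = 1) : xu (A 0 1) = A := by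
  have e := detA A
  rw [h10, h00] at e
  exact extA (by simp [h00]) (by simp) (by simp [h10]) (by simp; linear_combination -e)

theorem bas1_P (x : Jac F) (h10 : x.A 1 0 = 0) (h00 : x.A 0 0 = 1) : φ x ∈ sP φ :=
  ⟨x, ⟨_, bas1_eq_xu h10 h00⟩, rfl⟩

theorem bas1_m (x : Jac F) (hd : x.d = 0) (h10 : x.A 1 0 = 0) (h00 : x.A 0 0 = 1) :
    m φ x.s x.c (x.A 0 1) = φ x :=
  congrArg φ (Jac.ext rfl hd.symm rfl (bas1_eq_xu h10 h00))

theorem bas1_M (x : Jac F) (hd : x.d = 0) (h10 : x.A 1 0 = 0) (h00 : x.A 0 0 = 1) : φ x ∈ sM φ :=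
  bas1_m (φ := φ) x hd h10 h00 ▸ m_mem_M _ _ _

theorem bas1_card {α : Type*} {K : Subgroup G} (f : α → G) (hf : Function.Injective f)
    (hK : ∀ g, g ∈ K ↔ ∃ a, f a = g) : Nat.card K = Nat.card α := by
  rw [← Nat.card_range_of_injective hf]
  exact Nat.card_congr (Equiv.subtypeEquivRight hK)

theorem bas1_pow {A : SL(2, F)} (h : A 1 0 = 0) (n : ℕ) : (A ^ n) 1 0 = 0 ∧ (A ^ n) 0 0 = A 0 0 ^ n := by
  induction n with
  | zero => simp
  | succ n ih => rw [pow_succ, mulA, mulA, ih.1, ih.2, h, pow_succ]; simp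

theorem bas1_zl (s : F) (A : SL(2, F)) : m φ s 0 0 * l φ A = φ ⟨0, 0, s, A⟩ := by
  rw [← qq_m, qq_mul_l]

theorem bas1_t : t φ = φ ⟨0, 0, 0, -1⟩ := rfl

theorem C_le_NZ : φ.range ≤ normalizer (sZ φ : Set G) :=   bas1_norm fun g hg z hz => by rwa [C_comm_Z hg hz, mul_inv_cancel_right]

theorem C_le_NQ : φ.range ≤ normalizer (sQ φ : Set G) :=   bas1_norm (by
    rintro _ ⟨x, rfl⟩ _ ⟨k, hk, rfl⟩
    exact ⟨_, (MonoidHom.normal_ker _).conj_mem k hk x, by simp⟩)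

theorem B_le_NM : sB φ ≤ normalizer (sM φ : Set G) :=   bas1_norm (by
    rintro _ ⟨x, (h : x.A 1 0 = 0), rfl⟩ u hu
    obtain ⟨s, c, b, rfl⟩ := mem_M.1 hu
    have e := detA x.A
    rw [m, ← map_inv, ← map_mul, ← map_mul]
    refine bas1_M _ ?_ ?_ ?_ <;> simp [mulA, h] at e ⊢
    · linear_combination (-x.d) * e
    · linear_combination e)

theorem B_le_NP : sB φ ≤ normalizer (sP φ : Set G) :=   bas1_norm (by
    rintro _ ⟨x, (h : x.A 1 0 = 0), rfl⟩ u hu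
    obtain ⟨c, d, s, b, rfl⟩ := mem_P'.1 hu
    have e := detA x.A
    rw [← map_inv, ← map_mul, ← map_mul]
    refine bas1_P _ ?_ ?_ <;> simp [mulA, h] at e ⊢
    linear_combination e)

theorem T_le_NX : sT φ ≤ normalizer (sX φ : Set G) :=   bas1_norm (by
    rintro _ ⟨a, rfl⟩ u hu
    obtain ⟨b, rfl⟩ := mem_X.1 hu
    rw [hh_conj_m, mul_zero]
    exact m_mem_X _)

theorem T_le_NR : sT φ ≤ normalizer (sR φ : Set G) :=   bas1_norm (by
    rintro _ ⟨a, rfl⟩ u hu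
    obtain ⟨b, rfl⟩ := mem_R.1 hu
    rw [hh_conj_m, mul_zero]
    exact m_mem_R _)

theorem wn_mem_NT : l φ (wn F) ∈ normalizer (sT φ : Set G) := by
  refine bas1_mem_norm ?_ ?_ <;> rintro _ ⟨a, rfl⟩ <;> refine ⟨a⁻¹, ?_⟩ <;>
    simp only [hh, ← map_inv, ← map_mul] <;>
    exact congrArg _ (extA (by simp [mulA]) (by simp [mulA]) (by simp [mulA]) (by simp [mulA]))

theorem T_comm {u v : G} (hu : u ∈ sT φ) (hv : v ∈ sT φ) : u * v = v * u := by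
  obtain ⟨a, rfl⟩ := hu
  obtain ⟨b, rfl⟩ := hv
  rw [hh_mul, hh_mul, mul_comm]

theorem mem_ZL {g : G} : g ∈ sZ φ ⊔ sL φ ↔ ∃ s A, m φ s 0 0 * l φ A = g := by
  refine ⟨fun hg => ?_, by rintro ⟨s, A, rfl⟩; exact mul_mem_sup (m_mem_Z s) (l_mem_L A)⟩
  let K : Subgroup (Jac F) :=
    { carrier := {x | x.c = 0 ∧ x.d = 0}
      one_mem' := ⟨rfl, rfl⟩
      mul_mem' := fun hx hy => ⟨by simp [hx.1, hy.1, hy.2], by simp [hx.2, hy.1, hy.2]⟩
      inv_mem' := fun hx => ⟨by simp [hx.1, hx.2], by simp [hx.1, hx.2]⟩ }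
  have : sZ φ ⊔ sL φ ≤ K.map φ := sup_le
    (fun _ hz => let ⟨s, e⟩ := mem_Z.1 hz; ⟨⟨0, 0, s, xu 0⟩, ⟨rfl, rfl⟩, e⟩)
    fun _ ⟨A, e⟩ => ⟨⟨0, 0, 0, A⟩, ⟨rfl, rfl⟩, e⟩
  obtain ⟨x, ⟨h1, h2⟩, rfl⟩ := this hg
  exact ⟨x.s, x.A, (bas1_zl _ _).trans (congrArg φ (Jac.ext h1.symm h2.symm rfl rfl))⟩

theorem conj_Q {u : G} (hu : u ∈ sQ φ) : ∃ A, l φ A * u * (l φ A)⁻¹ ∈ sM φ := by
  obtain ⟨c, d, s, rfl⟩ := mem_Q.1 hu
  by_cases hd : d = 0
  · exact ⟨1, by simpa [hd, qq_m] using m_mem_M s c 0⟩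
  · refine ⟨wn F * xu (-(c / d)), ?_⟩
    rw [l_conj_qq, show (wn F * xu (-(c / d))) 1 0 * c + (wn F * xu (-(c / d))) 1 1 * d = 0 by
      simp [mulA, hd], qq_m]
    exact m_mem_M ..

theorem L_gen {K : Subgroup G} (hX : sX φ ≤ K) (hn : l φ (wn F) ∈ K) : sL φ ≤ K := by
  have hx : ∀ b, xu b ∈ K.comap (l φ) := fun b => hX (m_mem_X b)
  have hw : wn F ∈ K.comap (l φ) := hn
  have key : ∀ A : SL(2, F), A 1 0 ≠ 0 → A ∈ K.comap (l φ) := fun A h => by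
    have e := detA A
    have : A = xu ((A 0 0 - 1) / A 1 0) * (wn F * xu (-A 1 0) * (wn F)⁻¹) * xu ((A 1 1 - 1) / A 1 0) := by
      refine extA ?_ ?_ ?_ ?_ <;> simp [mulA, h]
      · field_simp; linear_combination -e
      · field_simp; ring
    rw [this]
    exact mul_mem (mul_mem (hx _) (mul_mem (mul_mem hw (hx _)) (inv_mem hw))) (hx _)
  rintro _ ⟨A, rfl⟩
  by_cases h : A 1 0 = 0
  · have e := detA A
    rw [h, mul_zero, sub_zero] at e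
    have := key (A * wn F) (by simpa [mulA] using right_ne_zero_of_mul_eq_one e)
    exact (mul_mem_cancel_right hw).1 this
  · exact key A h

theorem M_pow {p : ℕ} [CharP F p] {u : G} (hu : u ∈ sM φ) : u ^ p = 1 := by
  obtain ⟨s, c, b, rfl⟩ := mem_M.1 hu
  simp [m_pow]

theorem Q_pow {p : ℕ} [CharP F p] {u : G} (hu : u ∈ sQ φ) : u ^ p = 1 := by
  obtain ⟨c, d, s, rfl⟩ := mem_Q.1 hu
  simp [qq_pow]

theorem hh_pow_card [Fintype F] (a : Fˣ) : hh φ a ^ (Fintype.card F - 1) = 1 := by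
  classical
  rw [hh_pow, ← Fintype.card_units, pow_card_eq_one, hh_one]


namespace Hay

variable [Fintype F] (h : Hay φ)
include h

theorem bas1_memP {x : Jac F} : φ x ∈ sP φ ↔ x.A 1 0 = 0 ∧ x.A 0 0 = 1 := by
  refine ⟨fun e => ?_, fun e => bas1_P x e.1 e.2⟩
  obtain ⟨c, d, s, b, e⟩ := mem_P'.1 e
  rw [← h.inj e]; exact ⟨rfl, rfl⟩

theorem bas1_memM {x : Jac F} : φ x ∈ sM φ ↔ x.d = 0 ∧ x.A 1 0 = 0 ∧ x.A 0 0 = 1 := by
  refine ⟨fun e => ?_, fun e => bas1_M x e.1 e.2.1 e.2.2⟩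
  obtain ⟨s, c, b, e⟩ := mem_M.1 e
  rw [← h.inj e]; exact ⟨rfl, rfl, rfl⟩

theorem bas1_memB {x : Jac F} : φ x ∈ sB φ ↔ x.A 1 0 = 0 :=
  ⟨fun ⟨_, e, e'⟩ => h.inj e' ▸ e, fun e => ⟨x, e, rfl⟩⟩

theorem bas1_memQ {x : Jac F} : φ x ∈ sQ φ ↔ x.A = 1 :=
  ⟨fun ⟨_, e, e'⟩ => h.inj e' ▸ e, fun e => ⟨x, e, rfl⟩⟩

theorem bas1_memL {x : Jac F} : φ x ∈ sL φ ↔ x.c = 0 ∧ x.d = 0 ∧ x.s = 0 :=
  ⟨fun ⟨_, e⟩ => h.inj e ▸ ⟨rfl, rfl, rfl⟩,
    fun e => ⟨x.A, congrArg φ (Jac.ext e.1.symm e.2.1.symm e.2.2.symm rfl)⟩⟩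

theorem bas1_memH {x : Jac F} : φ x ∈ Cx (t φ) ↔ x.c = 0 ∧ x.d = 0 := by
  rw [mem_Cx, bas1_t, ← map_mul, ← map_mul, h.inj.eq_iff, Jac.ext_iff]
  have h2 := h.two_ne
  simp only [Jac.mul_c, Jac.mul_d, Jac.mul_s, Jac.mul_A, neg00, neg01, neg10, neg11]
  constructor
  · rintro ⟨h1, h3, -⟩
    exact ⟨(mul_eq_zero.1 (by linear_combination h1 : 2 * x.c = 0)).resolve_left h2,
      (mul_eq_zero.1 (by linear_combination h3 : 2 * x.d = 0)).resolve_left h2⟩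
  · rintro ⟨h1, h3⟩
    simp [h1, h3]

theorem card_Z : Nat.card (sZ φ) = Fintype.card F := by
  rw [bas1_card (fun s => m φ s 0 0) (fun _ _ e => (h.m_inj.1 e).1) fun _ => mem_Z, Nat.card_eq_fintype_card]

theorem card_X : Nat.card (sX φ) = Fintype.card F := by
  rw [bas1_card (fun s => m φ 0 0 s) (fun _ _ e => (h.m_inj.1 e).2.2) fun _ => mem_X, Nat.card_eq_fintype_card]

theorem card_R : Nat.card (sR φ) = Fintype.card F := by
  rw [bas1_card (fun s => m φ 0 s 0) (fun _ _ e => (h.m_inj.1 e).2.1) fun _ => mem_R, Nat.card_eq_fintype_card]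

theorem card_V : Nat.card (sV φ) = Fintype.card F ^ 2 := by
  rw [bas1_card (fun x : F × F => m φ x.1 0 x.2)
    (fun _ _ e => Prod.ext (h.m_inj.1 e).1 (h.m_inj.1 e).2.2) fun _ => by simp [mem_V]]
  simp [sq]

theorem card_M : Nat.card (sM φ) = Fintype.card F ^ 3 := by
  rw [bas1_card (fun x : F × F × F => m φ x.1 x.2.1 x.2.2)
    (fun _ _ e => Prod.ext (h.m_inj.1 e).1 (Prod.ext (h.m_inj.1 e).2.1 (h.m_inj.1 e).2.2))
    fun _ => by simp [mem_M]]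
  simp; ring

theorem card_Q : Nat.card (sQ φ) = Fintype.card F ^ 3 := by
  rw [bas1_card (fun x : F × F × F => qq φ x.1 x.2.1 x.2.2)
    (fun _ _ e => Prod.ext (h.qq_inj.1 e).1 (Prod.ext (h.qq_inj.1 e).2.1 (h.qq_inj.1 e).2.2))
    fun _ => by simp [mem_Q]]
  simp; ring

theorem card_P : Nat.card (sP φ) = Fintype.card F ^ 4 := by
  rw [bas1_card (fun x : F × F × F × F => φ ⟨x.1, x.2.1, x.2.2.1, xu x.2.2.2⟩)
    (fun _ _ e => by simpa [xu_inj, Prod.ext_iff] using h.inj e) fun _ => by simp [mem_P']]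
  simp; ring

theorem card_T : Nat.card (sT φ) = Fintype.card F - 1 := by
  classical
  rw [bas1_card (hh φ) (fun _ _ e => h.hh_inj.1 e) fun _ => mem_T, Nat.card_eq_fintype_card,
    Fintype.card_units]

theorem card_Tb : 2 * Nat.card (sTb φ) + 1 = Fintype.card F := by
  classical
  rw [bas1_card (fun a : (powMonoidHom 2 : Fˣ →* Fˣ).range => hh φ a)
    (fun _ _ e => Subtype.ext (h.hh_inj.1 e)) fun _ => by simp [mem_Tb],
    IsCyclic.card_powMonoidHom_range, Nat.card_eq_fintype_card, Fintype.card_units,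
    Nat.gcd_eq_right (by have := h.q4; omega)]
  have := h.q4
  omega

theorem card_B : Nat.card (sB φ) = Fintype.card F ^ 4 * (Fintype.card F - 1) := by
  classical
  rw [bas1_card (fun x : F × F × F × F × Fˣ => φ ⟨x.1, x.2.1, x.2.2.1, xu x.2.2.2.1 * hd x.2.2.2.2⟩)
    (fun ⟨c, d, s, b, a⟩ ⟨c', d', s', b', a'⟩ e => ?_) fun g => ?_]
  · simp [Fintype.card_units]; ring
  · obtain ⟨h1, h2, h3, h4⟩ := Jac.ext_iff.1 (h.inj e)
    have h5 : a = a' := Units.ext (by simpa [mulA] using congrArg (fun A : SL(2, F) => A 0 0) h4)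
    subst h5
    simp only [Prod.mk.injEq, and_true]
    exact ⟨h1, h2, h3, xu_inj.1 (mul_right_cancel h4)⟩
  · have e : ∀ c d s b a, φ ⟨c, d, s, xu b⟩ * hh φ a = φ ⟨c, d, s, xu b * hd a⟩ := fun c d s b a => by
      rw [hh, l_apply, ← map_mul]
      exact congrArg φ (Jac.ext (by simp) (by simp) (by simp) rfl)
    rw [mem_B]
    constructor
    · rintro ⟨u, hu, a, rfl⟩
      obtain ⟨c, d, s, b, rfl⟩ := mem_P'.1 hu
      exact ⟨(c, d, s, b, a), (e ..).symm⟩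
    · rintro ⟨⟨c, d, s, b, a⟩, rfl⟩
      exact ⟨_, mem_P'.2 ⟨c, d, s, b, rfl⟩, a, e ..⟩

theorem card_C : Nat.card φ.range = Fintype.card F ^ 4 * (Fintype.card F ^ 2 - 1) := by
  rw [bas1_card φ h.inj fun _ => Iff.rfl, Nat.card_congr (Jac.equiv F)]
  simp only [Nat.card_prod, SL2.card_SL2, Nat.card_eq_fintype_card]
  ring

theorem pg_P (p : ℕ) [Fact p.Prime] [CharP F p] : IsPGroup p (sP φ) := by
  obtain ⟨n, -, hn⟩ := FiniteField.card F p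
  exact IsPGroup.of_card (n := n * 4) (by rw [h.card_P, hn, pow_mul])

theorem syl_C (p : ℕ) [Fact p.Prime] [CharP F p] : IsSylowIn p (sP φ) φ.range := by
  refine ⟨P_le_C, h.pg_P p, ?_⟩
  have e := card_mul_relIndex' (P_le_C (φ := φ))
  rw [h.card_P, h.card_C] at e
  rw [Nat.eq_of_mul_eq_mul_left (pow_pos Fintype.card_pos 4) e]
  obtain ⟨n, hp, hn⟩ := FiniteField.card F p
  intro hd
  have h1 : p ∣ Fintype.card F ^ 2 := dvd_pow (hn ▸ dvd_pow_self p n.ne_zero) two_ne_zero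
  have h2 := Nat.dvd_sub h1 hd
  rw [Nat.sub_sub_self (Nat.one_le_pow _ _ Fintype.card_pos)] at h2
  exact hp.one_lt.ne' (Nat.dvd_one.1 h2)


theorem C_inf_H : φ.range ⊓ Cx (t φ) = sZ φ ⊔ sL φ := by
  ext g
  rw [mem_ZL]
  constructor
  · rintro ⟨⟨x, rfl⟩, e⟩
    obtain ⟨h1, h2⟩ := h.bas1_memH.1 e
    exact ⟨x.s, x.A, (bas1_zl _ _).trans (congrArg φ (Jac.ext h1.symm h2.symm rfl rfl))⟩
  · rintro ⟨s, A, rfl⟩
    rw [bas1_zl]
    exact ⟨⟨_, rfl⟩, h.bas1_memH.2 ⟨rfl, rfl⟩⟩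

theorem P_inf_H : sP φ ⊓ Cx (t φ) = sV φ := by
  refine le_antisymm ?_ (le_inf (V_le_M.trans M_le_P) V_le_H)
  rintro g ⟨e, e'⟩
  obtain ⟨c, d, s, b, rfl⟩ := mem_P'.1 e
  obtain ⟨(rfl : c = 0), (rfl : d = 0)⟩ := h.bas1_memH.1 e'
  exact m_mem_V s b

theorem M_inf_H : sM φ ⊓ Cx (t φ) = sV φ :=   le_antisymm ((inf_le_inf_right _ M_le_P).trans h.P_inf_H.le) (le_inf V_le_M V_le_H)

theorem Q_inf_H : sQ φ ⊓ Cx (t φ) = sZ φ := by
  refine le_antisymm ?_ (le_inf Z_le_Q (Z_le_V.trans V_le_H))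
  rintro g ⟨e, e'⟩
  obtain ⟨c, d, s, rfl⟩ := mem_Q.1 e
  obtain ⟨(rfl : c = 0), (rfl : d = 0)⟩ := h.bas1_memH.1 e'
  rw [qq_m]
  exact m_mem_Z s

theorem Z_inf_L : sZ φ ⊓ sL φ = ⊥ := by
  rw [eq_bot_iff]
  rintro g ⟨e, e'⟩
  obtain ⟨s, rfl⟩ := mem_Z.1 e
  obtain ⟨-, -, (rfl : s = 0)⟩ := h.bas1_memL.1 e'
  exact m_zero φ

theorem M_inf_L : sM φ ⊓ sL φ = sX φ := by
  refine le_antisymm ?_ (le_inf X_le_M X_le_L)
  rintro g ⟨e, e'⟩
  obtain ⟨s, c, b, rfl⟩ := mem_M.1 e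
  obtain ⟨(rfl : c = 0), -, (rfl : s = 0)⟩ := h.bas1_memL.1 e'
  exact m_mem_X b

theorem t_not_mem_P : t φ ∈ sP φ → False := fun e => by
  have : (-1 : SL(2, F)) 0 0 = 1 := (h.bas1_memP.1 e).2
  rw [neg00] at this
  exact h.two_ne (by linear_combination -this)

theorem mem_R_of_inv {u : G} (hu : u ∈ sM φ) (e : t φ * u * (t φ)⁻¹ = u⁻¹) : u ∈ sR φ := by
  obtain ⟨s, c, b, rfl⟩ := mem_M.1 hu
  rw [t_conj_m, m_inv, h.m_inj] at e
  obtain rfl : s = 0 := (mul_eq_zero.1 (by linear_combination e.1 : 2 * s = 0)).resolve_left h.two_ne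
  obtain rfl : b = 0 := (mul_eq_zero.1 (by linear_combination e.2.2 : 2 * b = 0)).resolve_left h.two_ne
  exact m_mem_R c


theorem cent_R {g : G} (hg : g ∈ φ.range) {s c : F} (hc : c ≠ 0) (e : g ∈ Cx (m φ s c 0)) :
    g ∈ sM φ := by
  obtain ⟨x, rfl⟩ := hg
  rw [mem_Cx, m, ← map_mul, ← map_mul, h.inj.eq_iff, Jac.ext_iff] at e
  obtain ⟨h1, h2, h3, -⟩ := e
  simp only [Jac.mul_c, Jac.mul_d, Jac.mul_s, xu00, xu01, xu10, xu11] at h1 h2 h3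
  have e1 : x.A 0 0 = 1 := mul_right_cancel₀ hc (by linear_combination h1)
  have e2 : x.A 1 0 = 0 := (mul_eq_zero.1 (by linear_combination h2 : x.A 1 0 * c = 0)).resolve_right hc
  rw [e1, e2] at h3
  exact bas1_M x ((mul_eq_zero.1 (by linear_combination -h3 : 2 * c * x.d = 0)).resolve_left
    (mul_ne_zero h.two_ne hc)) e2 e1

theorem cent_x {g : G} (hg : g ∈ φ.range) {s b : F} (hb : b ≠ 0) (e : g ∈ Cx (m φ s 0 b)) :
    g ∈ sM φ ∨ g * t φ ∈ sM φ := by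
  obtain ⟨x, rfl⟩ := hg
  rw [mem_Cx, m, ← map_mul, ← map_mul, h.inj.eq_iff, Jac.ext_iff] at e
  obtain ⟨h1, -, -, h4⟩ := e
  have h5 := congrArg (fun A : SL(2, F) => A 0 0) h4
  have h6 := congrArg (fun A : SL(2, F) => A 0 1) h4
  simp only [Jac.mul_c, Jac.mul_A, mulA, xu00, xu01, xu10, xu11] at h1 h5 h6
  have e1 : x.d = 0 := (mul_eq_zero.1 (by linear_combination -h1 : b * x.d = 0)).resolve_left hb
  have e2 : x.A 1 0 = 0 := (mul_eq_zero.1 (by linear_combination -h5 : b * x.A 1 0 = 0)).resolve_left hb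
  have e3 : x.A 0 0 = x.A 1 1 := mul_left_cancel₀ hb (by linear_combination h6)
  have e4 := detA x.A
  rw [e2, ← e3] at e4
  refine (mul_self_eq_one_iff.1 (by linear_combination e4 : x.A 0 0 * x.A 0 0 = 1)).imp
    (bas1_M x e1 e2) fun e5 => ?_
  rw [bas1_t, ← map_mul]
  exact bas1_M _ (by simp [e1]) (by simp [e2]) (by simp [e5])

theorem cent_xH {g : G} (hg : g ∈ φ.range) (ht : g ∈ Cx (t φ)) {s b : F} (hb : b ≠ 0)
    (e : g ∈ Cx (m φ s 0 b)) : g ∈ sV φ ∨ g * t φ ∈ sV φ :=   (h.cent_x hg hb e).imp (fun e => h.M_inf_H.le ⟨e, ht⟩)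
    fun e => h.M_inf_H.le ⟨e, mul_mem ht (mem_Cx.2 rfl)⟩

theorem cM : centralizer (sM φ : Set G) = sM φ :=   le_antisymm (fun g hg => h.cent_R (h.cZ ▸ centralizer_le Z_le_M hg) one_ne_zero
    (mem_Cx.2 (hg _ (m_mem_M 0 1 0)).symm)) fun _ hg _ hv => M_comm hv hg

theorem cent_out {u v : G} (hu : u ∈ sP φ) (hu' : u ∉ sM φ) (hv : v ∈ sM φ) (e : u * v = v * u) :
    v ∈ sZ φ := by
  obtain ⟨s, c, b, d, rfl⟩ := mem_P.1 hu
  obtain ⟨s', c', b', rfl⟩ := mem_M.1 hv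
  rw [h.my_mem_M] at hu'
  have e' : y φ d * m φ s' c' b' * (y φ d)⁻¹ = m φ s' c' b' := by
    rw [← mul_assoc, m_comm, mul_assoc, mul_assoc, mul_right_inj] at e
    rw [e, mul_inv_cancel_right]
  rw [y_conj, h.m_inj] at e'
  obtain rfl : b' = 0 := (mul_eq_zero.1 (by linear_combination -e'.2.1 : b' * d = 0)).resolve_right hu'
  obtain rfl : c' = 0 := (mul_eq_zero.1 (by linear_combination -e'.1 : c' * (2 * d) = 0)).resolve_right
    (mul_ne_zero h.two_ne hu')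
  exact m_mem_Z s'

theorem bas1_y1 : y φ 1 ∉ sM φ := fun e =>
  one_ne_zero (h.my_mem_M.1 (show m φ 0 0 0 * y φ 1 ∈ sM φ by simpa using e))

theorem center_P {u : G} (hu : u ∈ φ.range) (e : ∀ v ∈ sP φ, v * u = u * v) : u ∈ sZ φ :=   h.cent_out (y_mem_P 1) h.bas1_y1
    (h.cent_R hu one_ne_zero (mem_Cx.2 (e _ (M_le_P (m_mem_M 0 1 0))).symm)) (e _ (y_mem_P 1))

theorem cent_Q {g : G} (hg : g ∈ φ.range) (e : g ∈ centralizer (sQ φ : Set G)) : g ∈ sZ φ :=   h.cent_out (y_mem_P 1) h.bas1_y1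
    (h.cent_R hg one_ne_zero (mem_Cx.2 (e _ (R_le_Q (m_mem_R 1))).symm)) (e _ (y_mem_Q 1))

theorem cent_T {g : G} (hg : g ∈ φ.range) (h3 : 3 < Fintype.card F) (e : g ∈ centralizer (sT φ : Set G)) :
    g ∈ sZ φ ⊔ sT φ := by
  obtain ⟨x, rfl⟩ := hg
  obtain ⟨a, ha⟩ := SL2.exists_sq_ne_one (F := F) h3
  obtain ⟨h1, h2⟩ := h.bas1_memH.1 (mem_Cx.2 (e _ t_mem_T).symm)
  have e1 : hh φ a * φ x = φ x * hh φ a := e _ (hh_mem_T a)
  rw [hh, l_apply, ← map_mul, ← map_mul] at e1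
  have h4 := congrArg Jac.A (h.inj e1)
  have h5 := congrArg (fun A : SL(2, F) => A 0 1) h4
  have h6 := congrArg (fun A : SL(2, F) => A 1 0) h4
  simp only [Jac.mul_A, mulA, hd00, hd01, hd10, hd11] at h5 h6
  have ha' := sub_ne_zero.2 ha
  have h0 := a.ne_zero
  have e2 : x.A 0 1 = 0 := (mul_eq_zero.1 (show ((a : F) ^ 2 - 1) * x.A 0 1 = 0 by
    field_simp at h5; linear_combination h5)).resolve_left ha'
  have e3 : x.A 1 0 = 0 := (mul_eq_zero.1 (show ((a : F) ^ 2 - 1) * x.A 1 0 = 0 by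
    field_simp at h6; linear_combination -h6)).resolve_left ha'
  have e4 := detA x.A
  rw [e2, zero_mul, sub_zero] at e4
  have : m φ x.s 0 0 * hh φ (Units.mk0 _ (left_ne_zero_of_mul_eq_one e4)) = φ x := by
    rw [hh, bas1_zl]
    exact congrArg φ (Jac.ext h1.symm h2.symm rfl (extA rfl e2.symm e3.symm
      (by simpa using (eq_inv_of_mul_eq_one_right e4).symm)))
  exact this ▸ mul_mem_sup (m_mem_Z _) (hh_mem_T _)

theorem mem_B_of_NM {g : G} (hg : g ∈ φ.range) (e : g ∈ normalizer (sM φ : Set G)) : g ∈ sB φ := by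
  obtain ⟨x, rfl⟩ := hg
  have e1 := conj_mem_of_mem_normalizer e (m_mem_M 0 0 1)
  rw [m, ← map_inv, ← map_mul, ← map_mul, h.bas1_memM] at e1
  have e2 := e1.2.1
  simp only [Jac.mul_A, Jac.inv_A, mulA, xu00, xu01, xu10, xu11, inv00, inv10] at e2
  exact h.bas1_memB.2 (pow_eq_zero_iff two_ne_zero |>.1 (by linear_combination -e2))

theorem le_M {A : Subgroup G} (hA : A ≤ sP φ) (hab : ∀ u ∈ A, ∀ v ∈ A, u * v = v * u)
    (hc : Fintype.card F ^ 2 < Nat.card A) : A ≤ sM φ := fun u hu => by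
  by_contra hu'
  have hq : 0 < Fintype.card F := Fintype.card_pos
  haveI : Finite (sZ φ) := Nat.finite_of_card_ne_zero (h.card_Z ▸ hq.ne')
  have h1 : Nat.card (sM φ ⊓ A : Subgroup G) ≤ Fintype.card F := h.card_Z ▸
    card_le_of_le fun v hv => h.cent_out (hA hu) hu' hv.1 (hab u hu v hv.2)
  have h2 := card_mul_relIndex' (M_le_P (φ := φ))
  rw [h.card_M, h.card_P, pow_succ _ 3] at h2
  have h3 := Nat.eq_of_mul_eq_mul_left (pow_pos hq 3) h2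
  have h4 := relIndex_le_of_le_right (H := sM φ) hA (h3 ▸ hq.ne')
  have h5 := card_mul_relIndex' (inf_le_right : sM φ ⊓ A ≤ A)
  rw [inf_relIndex_right] at h5
  rw [← h5, sq] at hc
  exact (Nat.mul_le_mul h1 (h3 ▸ h4)).not_gt hc

theorem bas1_sq {x : Jac F} (e : φ x * φ x = 1) : x.s = 0 ∧ (φ x = 1 ∨ x.A = -1) := by
  rw [← map_mul, ← φ.map_one, h.inj.eq_iff, Jac.ext_iff] at e
  obtain ⟨h1, h2, h3, h4⟩ := e
  have k : ∀ a : F, 2 * a = 0 → a = 0 := fun a e => (mul_eq_zero.1 e).resolve_left h.two_ne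
  rcases (SL2.isScal_iff x.A).1 ((SL2.sq_eq_one_iff_isScal h.two_ne x.A).1 h4) with e | e <;>
    simp only [Jac.mul_c, Jac.mul_d, Jac.mul_s, e, one00, one01, one10, one11, neg00, neg01, neg10, neg11,
      Jac.one_c, Jac.one_d, Jac.one_s] at h1 h2 h3
  · have hs := k x.s (by linear_combination h3)
    exact ⟨hs, .inl ((congrArg φ (Jac.ext (k _ (by linear_combination h1)) (k _ (by linear_combination h2))
      hs e)).trans φ.map_one)⟩
  · exact ⟨k x.s (by linear_combination h3), .inr e⟩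

theorem invol {f : G} (hf : f ∈ φ.range) (h2 : f * f = 1) (h1 : f ≠ 1) :
    ∃ a ∈ sQ φ, a * t φ * a⁻¹ = f := by
  obtain ⟨x, rfl⟩ := hf
  obtain ⟨hs, e⟩ := h.bas1_sq h2
  have e := e.resolve_left h1
  have h2 := h.two_ne
  refine ⟨_, qq_mem_Q (x.c / 2) (x.d / 2) 0, ?_⟩
  rw [qq, bas1_t, ← map_inv, ← map_mul, ← map_mul]
  exact congrArg φ (Jac.ext (by simp; field_simp; ring) (by simp; field_simp; ring) (by simp [hs, mul_comm])
    (by simp [e]))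

theorem invol_H {f : G} (hf : f ∈ φ.range) (ht : f ∈ Cx (t φ)) (h2 : f * f = 1) : f = 1 ∨ f = t φ := by
  obtain ⟨x, rfl⟩ := hf
  obtain ⟨hs, e⟩ := h.bas1_sq h2
  obtain ⟨hc, hd⟩ := h.bas1_memH.1 ht
  exact e.imp_right fun e => congrArg φ (Jac.ext hc hd hs e)

theorem bas1_pow00 {x : Jac F} (hx : x.A 1 0 = 0) {n : ℕ} (e : φ x ^ n = 1) : x.A 0 0 ^ n = 1 := by
  rw [← map_pow, ← φ.map_one, h.inj.eq_iff] at e
  have e1 : x.A ^ n = 1 := (map_pow Jac.prj x n).symm.trans (congrArg Jac.A e)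
  rw [← (bas1_pow hx n).2, e1, one00]

theorem p_B {p : ℕ} [Fact p.Prime] [CharP F p] {g : G} (hg : g ∈ sB φ) {k : ℕ} (e : g ^ p ^ k = 1) :
    g ∈ sP φ := by
  obtain ⟨x, (hx : x.A 1 0 = 0), rfl⟩ := hg
  refine bas1_P x hx (sub_eq_zero.1 (pow_eq_zero_iff (pow_pos (Fact.out : p.Prime).pos k).ne' |>.1 ?_))
  rw [sub_pow_char_pow, h.bas1_pow00 hx e, one_pow, sub_self]

theorem two_B {g : G} (hg : g ∈ sB φ) (ht : g ∈ Cx (t φ)) {k : ℕ} (e : g ^ 2 ^ k = 1) :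
    g = 1 ∨ g = t φ := by
  obtain ⟨x, (hx : x.A 1 0 = 0), rfl⟩ := hg
  have k1 : ∀ (k : ℕ) (a : F), a ^ 2 ^ k = 1 → a = 1 ∨ a = -1 := fun k => by
    induction k with
    | zero => exact fun a e => .inl (by simpa using e)
    | succ k ih =>
      exact fun a e => sq_eq_one_iff.1
        ((ih (a ^ 2) (by rw [← pow_mul, ← pow_succ', e])).resolve_right (h.neg_one_nonsq a))
  have k2 : ∀ (k : ℕ) (u : G), u ∈ sM φ → u ^ 2 ^ k = 1 → u = 1 := fun k u hu e => by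
    obtain ⟨s, c, b, rfl⟩ := mem_M.1 hu
    simpa [m_pow, h.m_eq_one, h.two_ne] using e
  obtain ⟨-, hd⟩ := h.bas1_memH.1 ht
  refine (k1 k _ (h.bas1_pow00 hx e)).imp (fun e1 => k2 k _ (bas1_M x hd hx e1) e) fun e1 => ?_
  rw [← t_inv, ← mul_eq_one_iff_eq_inv]
  refine k2 (k + 1) _ ?_ ?_
  · rw [bas1_t, ← map_mul]
    exact bas1_M _ (by simp [hd]) (by simp [hx]) (by simp [e1])
  · rw [(show Commute (φ x) (t φ) from mem_Cx.1 ht).mul_pow, pow_succ, pow_mul, e, mul_comm, pow_mul, sq (t φ),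
      t_mul_t]
    simp

theorem P_inf_cj : sP φ ⊓ cj (l φ (wn F)) (sP φ) = sQ φ := by
  refine le_antisymm ?_ (le_inf Q_le_P ?_)
  · rintro g ⟨e, e'⟩
    obtain ⟨c, d, s, b, rfl⟩ := mem_P'.1 e
    have e1 := mem_cj.1 e'
    rw [l_apply, ← map_inv, ← map_mul, ← map_mul, h.bas1_memP] at e1
    obtain rfl : b = 0 := by simpa [mulA] using e1.1
    exact h.bas1_memQ.2 xu_zero
  · rw [← mem_normalizer_iff_cj.1 (C_le_NQ (L_le_C (l_mem_L (φ := φ) (wn F))))]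
    exact cj_mono _ Q_le_P

theorem comm_ZL (h3 : 3 < Fintype.card F) : ⁅sZ φ ⊔ sL φ, sZ φ ⊔ sL φ⁆ = sL φ := by
  refine le_antisymm (commutator_le.2 fun u hu v hv => ?_) ?_
  · obtain ⟨s, A, rfl⟩ := mem_ZL.1 hu
    obtain ⟨s', A', rfl⟩ := mem_ZL.1 hv
    rw [bas1_zl, bas1_zl, ← map_commutatorElement, h.bas1_memL]
    simp [commutatorElement_def]
  · refine le_trans ?_ (commutator_mono le_sup_right le_sup_right)
    rw [sL, MonoidHom.range_eq_map, ← map_commutator, ← commutator_def,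
      Classical.sl_fin_commutator_eq_top (F := F) 2 le_rfl fun _ => h3]

theorem NL_le_H : normalizer (sL φ : Set G) ≤ Cx (t φ) := fun g hg => by
  have e := conj_mem_of_mem_normalizer hg t_mem_L
  refine mem_Cx'.2 ((h.invol_H (L_le_C e) (L_le_H e) ?_).resolve_left fun e => h.t_ne_one ?_)
  · rw [conj_mul, t_mul_t, mul_one, mul_inv_cancel]
  · simpa using e

theorem cube (h3 : (3 : F) = 0) {u : G} (hu : u ∈ sP φ) (e : u ^ 3 = 1) : u ∈ sM φ ∨ u ∈ sQ φ := by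
  obtain ⟨c, d, s, b, rfl⟩ := mem_P'.1 hu
  rw [pow_succ, sq, ← map_mul, ← map_mul, ← φ.map_one, h.inj.eq_iff] at e
  have e1 := congrArg Jac.s e
  simp only [Jac.mul_c, Jac.mul_d, Jac.mul_s, Jac.mul_A, mulA, xu00, xu01, xu10, xu11, Jac.one_s] at e1
  rcases mul_eq_zero.1 (by linear_combination (s - b * d ^ 2) * h3 - e1 : d ^ 2 * b = 0) with e2 | rfl
  · exact .inl (bas1_M _ (pow_eq_zero_iff two_ne_zero |>.1 e2) rfl rfl)
  · exact .inr (h.bas1_memQ.2 xu_zero)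


end Hay

end CfsgLib.Hay
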