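import Mathlib
import Cfsg.Agent.Lib.Hay.Defs
import Cfsg.Agent.Lib.CFun.Alperin

/-! General lemmas.  See `plans/HAY.md`. -/

set_option autoImplicit false

namespace CfsgLib.Hay

open Subgroup CfsgLib.W2 CfsgLib.Tech
open CfsgLib.GHA (xu hd wn xu_add xu_zero xu_neg hd_mul hd_one hd_inv)
open CfsgLib.Gold (ncl)
open scoped MatrixGroups

variable {G : Type*} [Group G] [Finite G]

/-- the nonidentity elements of `A` -/
private def nz (A : Subgroup G) : Type _ := {a : G // a ∈ A ∧ a ≠ 1}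

private instance (A : Subgroup G) : Finite (nz A) := inferInstanceAs (Finite {a : G // a ∈ A ∧ a ≠ 1})

omit [Finite G] in
private theorem conj_ne {g a : G} (h : a ≠ 1) : g * a * g⁻¹ ≠ 1 := fun e => h (by simpa using e)

private theorem card_nz (A : Subgroup G) : Nat.card (nz A) = Nat.card A - 1 := by
  have e : ({a : G | a ∈ A ∧ a ≠ 1}) = (A : Set G) \ {1} := rfl
  change Nat.card ({a : G | a ∈ A ∧ a ≠ 1} : Set G) = Nat.card (A : Set G) - 1
  rw [e, Nat.card_coe_set_eq, Nat.card_coe_set_eq, Set.ncard_diff_singleton_of_mem A.one_mem]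

@[reducible] private def act {N A : Subgroup G} (hN : N ≤ normalizer (A : Set G)) : MulAction N (nz A) where
  smul n a := ⟨n * a.1 * (n : G)⁻¹, conj_mem_of_mem_normalizer (hN n.2) a.2.1, conj_ne a.2.2⟩
  one_smul a := Subtype.ext (by change (1 : G) * _ * 1⁻¹ = _; simp)
  mul_smul m n a := Subtype.ext (by
    change ((m : G) * n) * a.1 * ((m : G) * n)⁻¹ = m * (n * a.1 * (n : G)⁻¹) * (m : G)⁻¹; group)

private theorem card_orbit {N A : Subgroup G} (hN : N ≤ normalizer (A : Set G))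
    (h : ∀ a ∈ A, a ≠ 1 → N ⊓ Cx a ≤ centralizer (A : Set G)) (a : nz A) :
    letI := act hN
    Nat.card (MulAction.orbit N a) = (centralizer (A : Set G)).relIndex N := by
  letI := act hN
  rw [Nat.card_coe_set_eq, ← MulAction.index_stabilizer, relIndex]
  congr 1
  ext n
  rw [MulAction.mem_stabilizer_iff, mem_subgroupOf]
  exact ⟨fun e => h _ a.2.1 a.2.2 ⟨n.2, mem_Cx'.2 (congrArg Subtype.val e)⟩,
    fun e => Subtype.ext (mem_Cx'.1 (mem_Cx.2 (e _ a.2.1).symm))⟩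

theorem semireg {N A : Subgroup G} (hN : N ≤ normalizer (A : Set G))
    (h : ∀ a ∈ A, a ≠ 1 → N ⊓ Cx a ≤ centralizer (A : Set G)) :
    (centralizer (A : Set G)).relIndex N ∣ Nat.card A - 1 := by
  letI := act hN
  classical
  rw [← card_nz, Nat.card_congr (MulAction.selfEquivSigmaOrbits N (nz A))]
  have := Fintype.ofFinite (MulAction.orbitRel.Quotient N (nz A))
  rw [Nat.card_sigma]
  exact Finset.dvd_sum fun x _ => (card_orbit hN h _).symm.dvd

theorem trans_of_semireg {N A : Subgroup G} (hN : N ≤ normalizer (A : Set G))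
    (h : ∀ a ∈ A, a ≠ 1 → N ⊓ Cx a ≤ centralizer (A : Set G))
    (he : (centralizer (A : Set G)).relIndex N = Nat.card A - 1) {a b : G} (ha : a ∈ A) (ha1 : a ≠ 1)
    (hb : b ∈ A) (hb1 : b ≠ 1) : ∃ n ∈ N, n * a * n⁻¹ = b := by
  letI := act hN
  have e := card_orbit hN h ⟨a, ha, ha1⟩
  rw [he, ← card_nz, Nat.card_coe_set_eq, ← Set.ncard_univ] at e
  have e2 := Set.eq_of_subset_of_ncard_le (Set.subset_univ _) e.ge
  obtain ⟨n, hn⟩ := e2.ge (Set.mem_univ ⟨b, hb, hb1⟩)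
  exact ⟨n, n.2, congrArg Subtype.val hn⟩

theorem inverts_of {A : Subgroup G} {f : G} (hf : f ∈ normalizer (A : Set G))
    (hab : ∀ u ∈ A, ∀ v ∈ A, u * v = v * u) (h : ∀ a ∈ A, a ≠ 1 → f ∉ Cx a)
    (h2 : f * f ∈ centralizer (A : Set G)) : ∀ a ∈ A, f * a * f⁻¹ = a⁻¹ := by
  intro a ha
  have hb := conj_mem_of_mem_normalizer hf ha
  by_contra hn
  refine h (f * a * f⁻¹ * a) (mul_mem hb ha) (fun e => hn (eq_inv_of_mul_eq_one_left e)) (mem_Cx'.2 ?_)
  have e1 : f * f * a * (f * f)⁻¹ = a := by rw [← h2 a ha]; group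
  calc _ = f * f * a * (f * f)⁻¹ * (f * a * f⁻¹) := by group
    _ = _ := by rw [e1, hab _ ha _ hb]

theorem le_of_fpf {A K : Subgroup G} {n : G} (hn : n ∈ normalizer (A : Set G))
    (h : ∀ a ∈ A, a ≠ 1 → n ∉ Cx a) (hK : ∀ a ∈ A, a⁻¹ * (n * a * n⁻¹) ∈ K) : A ≤ K := by
  let f : A → A := fun a => ⟨(a : G)⁻¹ * (n * a * n⁻¹),
    mul_mem (inv_mem a.2) (conj_mem_of_mem_normalizer hn a.2)⟩
  have hf : Function.Injective f := fun a b e => by
    have e1 : (a : G)⁻¹ * (n * a * n⁻¹) = (b : G)⁻¹ * (n * b * n⁻¹) := congrArg Subtype.val e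
    by_contra hab
    refine h (a * (b : G)⁻¹) (mul_mem a.2 (inv_mem b.2)) (fun e => hab (Subtype.ext (mul_inv_eq_one.1 e)))
      (mem_Cx'.2 ?_)
    calc _ = a * ((a : G)⁻¹ * (n * a * n⁻¹)) * (n * b * n⁻¹)⁻¹ := by group
      _ = _ := by rw [e1]; group
  intro a ha
  obtain ⟨b, hb⟩ := Finite.surjective_of_injective hf ⟨a, ha⟩
  have e : (b : G)⁻¹ * (n * b * n⁻¹) = a := congrArg Subtype.val hb
  exact e ▸ hK b b.2

theorem exists_sq {N C : Subgroup G} (hN : N ≤ normalizer (C : Set G)) (h : Even (C.relIndex N)) :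
    ∃ f ∈ N, f ∉ C ∧ f * f ∈ C := by
  have : (C.subgroupOf N).Normal := normal_subgroupOf_of_le_normalizer hN
  obtain ⟨x, hx⟩ := exists_prime_orderOf_dvd_card' (G := N ⧸ C.subgroupOf N) 2 h.two_dvd
  obtain ⟨f, rfl⟩ := QuotientGroup.mk_surjective x
  refine ⟨f, f.2, fun e => ne_one_of_ord hx ((QuotientGroup.eq_one_iff f).2 e), ?_⟩
  exact (QuotientGroup.eq_one_iff (N := C.subgroupOf N) (f * f)).1 (sq_of_ord hx)

theorem mem_of_relIndex_le {N₀ N C : Subgroup G} (h0 : N₀ ≤ N) (hN : N ≤ normalizer (C : Set G))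
    (h : C.relIndex N ≤ C.relIndex N₀) {n : G} (hn : n ∈ N) : ∃ c ∈ N ⊓ C, ∃ k ∈ N₀, n = c * k := by
  let f : N₀ ⧸ C.subgroupOf N₀ → N ⧸ C.subgroupOf N := Quotient.map' (inclusion h0) fun a b e => by
    rw [QuotientGroup.leftRel_apply] at e ⊢; exact e
  have hf : Function.Injective f := by
    rintro ⟨a⟩ ⟨b⟩ e
    exact QuotientGroup.eq.2 (QuotientGroup.eq.1 e :)
  obtain ⟨⟨k⟩, hk⟩ := (hf.bijective_of_nat_card_le h).2 (QuotientGroup.mk ⟨n, hn⟩)
  have e : (k : G)⁻¹ * n ∈ C := (QuotientGroup.eq.1 hk :)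
  refine ⟨k * ((k : G)⁻¹ * n) * (k : G)⁻¹, ⟨?_, conj_mem_of_mem_normalizer (hN (h0 k.2)) e⟩, k, k.2, by group⟩
  exact N.mul_mem (N.mul_mem (h0 k.2) (N.mul_mem (N.inv_mem (h0 k.2)) hn)) (N.inv_mem (h0 k.2))

theorem focal_ab {p : ℕ} [Fact p.Prime] {V K A : Subgroup G} (hV : IsSylowIn p V K)
    (hab : ∀ u ∈ V, ∀ v ∈ V, u * v = v * u)
    (h : ∀ n ∈ K, n ∈ normalizer (V : Set G) → ∀ v ∈ V, n * v * n⁻¹ * v⁻¹ ∈ A) : V ⊓ ⁅K, K⁆ ≤ A := by
  refine CFun.focal_le hV fun k hk a ha e => ?_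
  obtain ⟨n, hn, hn', e'⟩ := exists_normalizer_conj hV hk (fun u hu => mem_Cx.2 (hab u hu a ha))
    fun u hu => mem_Cx.2 (hab u hu _ e)
  exact e' ▸ h n hn hn' a ha

omit [Finite G] in
theorem mem_N_ncl {Z I : Subgroup G} {g : G} (h1 : g ∈ normalizer (Z : Set G))
    (h2 : g ∈ normalizer (I : Set G)) : g ∈ normalizer (ncl Z I : Set G) := by
  rw [mem_normalizer_iff_cj] at *
  rw [Gold.cj_ncl, h1, h2]

theorem N_le_N_ncl {p : ℕ} [Fact p.Prime] {Z I : Subgroup G} (h : IsSylowIn p Z I) :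
    normalizer (I : Set G) ≤ normalizer (ncl Z I : Set G) := fun g hg => by
  obtain ⟨n, hn, e⟩ := h.frattini hg
  have := mem_N_ncl e (mul_mem (le_normalizer hn) hg)
  exact (mul_mem_cancel_left (Gold.le_normalizer_ncl Z I hn)).1 this

omit [Finite G] in
theorem cent_of_perfect {K : Subgroup G} (hK : ⁅K, K⁆ = K) {g : G} (hg : g ∈ normalizer (K : Set G))
    (h : ∀ k ∈ K, k⁻¹ * (g * k * g⁻¹) ∈ centralizer (K : Set G)) : g ∈ centralizer (K : Set G) := by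
  have key : ⁅K, K⁆ ≤ Cx g := by
    refine commutator_le.2 fun a ha b hb => ?_
    rw [Cx_comm, mem_Cx', commutatorElement_def]
    obtain ⟨c, hc, e1⟩ : ∃ c ∈ centralizer (K : Set G), g * a * g⁻¹ = a * c := ⟨_, h a ha, by group⟩
    obtain ⟨d, hd, e2⟩ : ∃ d ∈ centralizer (K : Set G), g * b * g⁻¹ = b * d := ⟨_, h b hb, by group⟩
    have hb' : b * d ∈ K := e2 ▸ conj_mem_of_mem_normalizer hg hb
    calc _ = (g * a * g⁻¹) * (g * b * g⁻¹) * (g * a * g⁻¹)⁻¹ * (g * b * g⁻¹)⁻¹ := by group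
      _ = a * (c * (b * d) * c⁻¹) * a⁻¹ * (b * d)⁻¹ := by rw [e1, e2]; group
      _ = a * b * (d * a⁻¹ * d⁻¹) * b⁻¹ := by rw [← hc _ hb']; group
      _ = _ := by rw [← hd _ (inv_mem ha)]; group
  exact fun k hk => mem_Cx.1 (key (hK.symm ▸ hk))

theorem not_isCyclic {A : Subgroup G} {p : ℕ} (hp : p ≠ 0) (he : ∀ a ∈ A, a ^ p = 1) (h : p < Nat.card A) :
    ¬ IsCyclic A := fun hc => by
  obtain ⟨g, hg⟩ := hc.exists_ofOrder_eq_natCard
  have := orderOf_le_of_pow_eq_one (Nat.pos_of_ne_zero hp) (Subtype.ext (he g g.2) : g ^ p = 1)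
  omega

end CfsgLib.Hay
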