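import Mathlib
import Cfsg.Agent.Lib.Hay.Gen
import Cfsg.Agent.Lib.Hay.Bas1
import Cfsg.Agent.Lib.Coprime.Generation

/-! The conjugates of `Z`.  See `plans/HAY.md`. -/

set_option autoImplicit false
set_option linter.dupNamespace false

namespace CfsgLib.Hay

open Subgroup CfsgLib.W2 CfsgLib.Tech
open CfsgLib.GHA (xu hd wn xu_add xu_zero xu_neg hd_mul hd_one hd_inv)
open CfsgLib.Gold (ncl)
open scoped MatrixGroups

theorem bas2_p (F : Type*) [Field F] [Fintype F] : ∃ p : ℕ, ∃ _ : Fact p.Prime, CharP F p :=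
  ⟨ringChar F, ⟨CharP.char_is_prime F _⟩, inferInstance⟩

theorem bas2_comm {G : Type*} [Group G] {g u v : G} (e : g⁻¹ * u * g * v = v * (g⁻¹ * u * g)) :
    u * (g * v * g⁻¹) = g * v * g⁻¹ * u :=
  calc u * (g * v * g⁻¹) = g * (g⁻¹ * u * g * v) * g⁻¹ := by group
    _ = g * v * g⁻¹ * u := by rw [e]; group

theorem bas2_cop {F : Type*} [Field F] [Fintype F] {p : ℕ} [Fact p.Prime] [CharP F p] {n : ℕ}
    (hp : ¬ p ∣ n) (k : ℕ) : (Fintype.card F ^ k).Coprime n := by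
  obtain ⟨j, hp', hj⟩ := FiniteField.card F p
  rw [hj]
  exact ((hp'.coprime_iff_not_dvd.2 hp).pow_left _).pow_left _

namespace Hay

variable {G : Type*} [Group G] [Finite G] {F : Type*} [Field F] [Fintype F] {φ : Jac F →* G} (h : Hay φ)
include h

theorem bas2_cen {g : G} (h1 : ∀ z ∈ sZ φ, g * z * g⁻¹ ∈ φ.range) (h2 : ∀ v ∈ sP φ, g⁻¹ * v * g ∈ φ.range) :
    g ∈ normalizer (sZ φ : Set G) :=
  mem_normalizer_of_forall fun z hz => h.center_P (h1 z hz) fun v hv => bas2_comm (C_comm_Z (h2 v hv) hz)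

theorem NZ_eq : normalizer (sZ φ : Set G) = normalizer (φ.range : Set G) := by
  refine le_antisymm (fun g hg => ?_) fun g hg => h.bas2_cen
    (fun z hz => conj_mem_of_mem_normalizer hg (M_le_C (Z_le_M hz)))
    fun v hv => conj_mem_of_mem_normalizer' hg (P_le_C hv)
  rw [mem_normalizer_iff_cj, ← h.cZ, cj_centralizer, mem_normalizer_iff_cj.1 hg]

theorem ti {g z : G} (hz : z ∈ sZ φ) (h1 : z ≠ 1) (e : g * z * g⁻¹ ∈ sZ φ) :
    g ∈ normalizer (sZ φ : Set G) := by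
  rw [h.NZ_eq, mem_normalizer_iff_cj]
  conv_lhs => rw [← h.cz hz h1, cj_Cx, h.cz e (by simpa using h1)]

theorem NZ_le_NQ : normalizer (sZ φ : Set G) ≤ normalizer (sQ φ : Set G) := fun g hg => by
  obtain ⟨p, _, _⟩ := bas2_p F
  have e := mem_normalizer_iff_cj.1 (h.NZ_eq.le hg)
  have h1 := isPGroup_cj g ((h.pg_P p).to_le Q_le_P)
  have h2 : cj g (sQ φ) ≤ φ.range := e ▸ cj_mono g Q_le_C
  have h3 : φ.range ≤ normalizer (cj g (sQ φ) : Set G) := by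
    rw [← cj_normalizer, ← e]; exact cj_mono g C_le_NQ
  exact mem_normalizer_of_cj_le ((le_inf ((h.syl_C p).le_of_le_normalizer h1 h2 h3)
    (((h.syl_C p).cj_of_mem (L_le_C (l_mem_L _))).le_of_le_normalizer h1 h2 h3)).trans h.P_inf_cj.le)

theorem idx_dvd {N : Subgroup G} (hN : N ≤ normalizer (sZ φ : Set G)) :
    φ.range.relIndex N ∣ Fintype.card F - 1 := by
  have := semireg hN fun a ha h1 => by rw [h.cz ha h1, h.cZ]; exact inf_le_right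
  rwa [h.cZ, h.card_Z] at this

theorem p_NZ {p : ℕ} [Fact p.Prime] [CharP F p] {g : G} (hg : g ∈ normalizer (sZ φ : Set G)) {k : ℕ}
    (e : g ^ p ^ k = 1) : g ∈ φ.range := by
  have h1 := h.idx_dvd (zpowers_le.2 hg)
  have h2 := relIndex_dvd_card φ.range (zpowers g)
  obtain ⟨j, hj⟩ := IsPGroup.iff_card.1 (isPGroup_zpowers_of_pow e)
  obtain ⟨n, hp, hn⟩ := FiniteField.card F p
  have h3 : ¬ p ∣ Fintype.card F - 1 := fun hd => by
    have h4 := Nat.dvd_sub (hn ▸ dvd_pow_self p n.ne_zero : p ∣ Fintype.card F) hd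
    rw [Nat.sub_sub_self Fintype.card_pos] at h4
    exact hp.one_lt.ne' (Nat.dvd_one.1 h4)
  exact relIndex_eq_one.1 (Nat.eq_one_of_dvd_coprimes ((hp.coprime_iff_not_dvd.2 h3).pow_left j) (hj ▸ h2) h1)
    (mem_zpowers g)

theorem inverts {f : G} (hf : f ∈ normalizer (sZ φ : Set G)) (h1 : f ∉ φ.range) (h2 : f * f ∈ φ.range) :
    ∀ z ∈ sZ φ, f * z * f⁻¹ = z⁻¹ :=
  inverts_of hf (fun _ hu _ hv => M_comm (Z_le_M hu) (Z_le_M hv)) (fun _ ha h3 => h.cz ha h3 ▸ h1)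
    (h.cZ ▸ h2)

theorem bas2_cjM {g : G} (e : cj g (sM φ) ≤ sP φ) : g ∈ normalizer (sM φ : Set G) := by
  refine mem_normalizer_of_cj_le (h.le_M e ?_ ?_)
  · rintro _ ⟨u, hu, rfl⟩ _ ⟨v, hv, rfl⟩
    rw [← map_mul, ← map_mul, M_comm hu hv]
  · rw [card_cj, h.card_M]
    exact Nat.pow_lt_pow_right Fintype.one_lt_card (by norm_num)

theorem NP_le_NM : normalizer (sP φ : Set G) ≤ normalizer (sM φ : Set G) := fun g hg =>
  h.bas2_cjM ((cj_mono g M_le_P).trans (mem_normalizer_iff_cj.1 hg).le)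

theorem NP_le_NZ : normalizer (sP φ : Set G) ≤ normalizer (sZ φ : Set G) := fun _ hg =>
  h.bas2_cen (fun _ hz => P_le_C (conj_mem_of_mem_normalizer hg (M_le_P (Z_le_M hz))))
    fun _ hv => P_le_C (conj_mem_of_mem_normalizer' hg hv)

theorem mem_NP {g : G} (h1 : g ∈ normalizer (sZ φ : Set G)) (h2 : g ∈ normalizer (sM φ : Set G)) :
    g ∈ normalizer (sP φ : Set G) := by
  obtain ⟨p, _, _⟩ := bas2_p F
  refine mem_normalizer_of_forall fun u hu => ?_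
  obtain ⟨k, hk⟩ := isPGroup_iff_mem.1 (h.pg_P p) u hu
  exact h.p_B (p := p) (k := k) (h.mem_B_of_NM (conj_mem_of_mem_normalizer (h.NZ_eq.le h1) (P_le_C hu))
    (mul_mem (mul_mem h2 (B_le_NM (P_le_B hu))) (inv_mem h2))) (by rw [conj_pow, hk]; simp)

theorem syl_P (p : ℕ) [Fact p.Prime] [CharP F p] : IsSylowIn p (sP φ) ⊤ := by
  by_contra hn
  obtain ⟨R, h1, h2, -, h3⟩ := exists_lt_pgroup_normalizer (h.pg_P p) le_top hn
  refine h2.ne' ((h.syl_C p).eq_of_le h1 h2.le fun r hr => ?_)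
  obtain ⟨k, hk⟩ := isPGroup_iff_mem.1 h1 r hr
  exact h.p_NZ (h.NP_le_NZ (h3 hr)) hk

omit [Finite G] in
theorem bas2_cz {g z u z' : G} (hz : z ∈ sZ φ) (h1 : z ≠ 1) (hu : u ∈ Cx (g * z * g⁻¹)) (hz' : z' ∈ sZ φ) :
    u * (g * z' * g⁻¹) = g * z' * g⁻¹ * u := by
  rw [← cj_Cx, h.cz hz h1, mem_cj] at hu
  exact bas2_comm (C_comm_Z hu hz')

theorem f2 {g z : G} (hz : z ∈ sZ φ) (h1 : z ≠ 1) (e : g * z * g⁻¹ ∈ sM φ) : cj g (sZ φ) ≤ sM φ :=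
  cj_le_iff.2 fun _ hz' => h.cM.le fun _ hu => h.bas2_cz hz h1 (mem_Cx.2 (M_comm hu e)) hz'

theorem f2V {g z : G} (hz : z ∈ sZ φ) (h1 : z ≠ 1) (e : g * z * g⁻¹ ∈ sV φ) : cj g (sZ φ) ≤ sV φ :=
  (le_inf (h.f2 hz h1 (V_le_M e)) (cj_le_iff.2 fun _ hz' =>
    mem_Cx.2 (h.bas2_cz hz h1 (Cx_comm.1 (V_le_H e)) hz').symm)).trans h.M_inf_H.le

omit [Finite G] in
theorem bas2_memC {g u : G} (e : u ∈ Cx (g * m φ 1 0 0 * g⁻¹)) : g⁻¹ * u * g ∈ φ.range := by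
  rwa [← cj_Cx, h.cent 1 one_ne_zero, mem_cj] at e

theorem f3 {g : G} (e : cj g (sZ φ) ≤ sM φ) :
    ∃ c ∈ φ.range, g * c ∈ normalizer (sM φ : Set G) := by
  obtain ⟨p, _, _⟩ := bas2_p F
  obtain ⟨c, hc, e1⟩ := (h.syl_C p).exists_cj_le (isPGroup_cj g⁻¹ ((h.pg_P p).to_le M_le_P))
    (cj_le_iff.2 fun u hu => by
      simpa using h.bas2_memC (mem_Cx.2 (M_comm hu (cj_le_iff.1 e _ (m_mem_Z 1)))))
  rw [← cj_mul] at e1
  exact ⟨c⁻¹, inv_mem hc, by simpa using inv_mem (h.bas2_cjM e1)⟩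

theorem f3V {g : G} (e : cj g (sZ φ) ≤ sV φ) :
    ∃ c ∈ φ.range, g * c ∈ normalizer (sM φ : Set G) ∧ g * c ∈ Cx (t φ) := by
  obtain ⟨c, hc, hn⟩ := h.f3 (e.trans V_le_M)
  have h1 := h.bas2_memC (Cx_comm.1 (V_le_H (cj_le_iff.1 e _ (m_mem_Z 1))))
  obtain ⟨a, ha, e1⟩ := h.invol (mul_mem (mul_mem (inv_mem hc) h1) hc)
    (by calc _ = c⁻¹ * (g⁻¹ * (t φ * t φ) * g) * c := by group
      _ = 1 := by rw [t_mul_t]; group)
    fun e => h.t_ne_one (by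
      calc t φ = g * c * (c⁻¹ * (g⁻¹ * t φ * g) * c) * (g * c)⁻¹ := by group
        _ = 1 := by rw [e]; group)
  refine ⟨c * a, mul_mem hc (Q_le_C ha), ?_, mem_Cx'.2 ?_⟩
  · rw [← mul_assoc]
    exact mul_mem hn (B_le_NM (P_le_B (Q_le_P ha)))
  · calc _ = g * c * (a * t φ * a⁻¹) * (g * c)⁻¹ := by group
      _ = t φ := by rw [e1]; group

theorem mem_NV {g : G} (h1 : g ∈ normalizer (sM φ : Set G)) (h2 : g ∈ Cx (t φ)) :
    g ∈ normalizer (sV φ : Set G) := by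
  rw [mem_normalizer_iff_cj, ← h.M_inf_H, cj_inf, mem_normalizer_iff_cj.1 h1, cj_eq_of_mem h2]

theorem p_NH {p : ℕ} [Fact p.Prime] [CharP F p] {u : G} (hu : u ∈ normalizer (sM φ : Set G))
    (ht : u ∈ Cx (t φ)) {k : ℕ} (e : u ^ p ^ k = 1) : u ∈ sV φ := by
  obtain ⟨n, hn, e1⟩ := ((h.syl_P p).of_le (P_le_B.trans B_le_NM) le_top).exists_conj_mem hu
    (isPGroup_zpowers_of_pow e)
  refine h.M_inf_H.le ⟨(mem_normalizer_iff.1 hn u).2 ?_, ht⟩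
  by_contra hu'
  have h1 : cj n (sV φ) ≤ sM φ := (cj_mono n V_le_M).trans (mem_normalizer_iff_cj.1 hn).le
  obtain ⟨v, hv, ho, hc⟩ := exists_mem_center_of_normalized
    ((h.pg_P p).to_le (inf_le_left : sP φ ⊓ normalizer (cj n (sV φ) : Set G) ≤ _))
    (le_inf (h1.trans M_le_P) le_normalizer) inf_le_right fun e => h.one_mem_ne
      (mem_bot.1 ((cj_eq_bot_iff.1 e).le (m_mem_V 1 0)))
  have h2 := h.cent_out e1 hu' (h1 hv) (hc _ ⟨e1, by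
    rw [← cj_normalizer]; exact conj_mem_cj.2 (h.mem_NV hu ht)⟩)
  have h3 : v ≠ 1 := fun e => (Fact.out : p.Prime).one_lt.ne (by rw [← ho, e, orderOf_one])
  have h4 : n * t φ * n⁻¹ ∈ φ.range := by
    rw [← h.cz h2 h3, Cx_comm, ← cj_Cx]; exact cj_mono n V_le_H hv
  obtain ⟨a, ha, e2⟩ := h.invol h4 (by rw [conj_mul, t_mul_t]; simp) (by simpa using h.t_ne_one)
  have h5 : a⁻¹ * (n * u * n⁻¹) * a ∈ sV φ := h.P_inf_H.le
    (mem_inf.2 ⟨mul_mem (mul_mem (inv_mem (Q_le_P ha)) e1) (Q_le_P ha), by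
      rw [← mem_cj, cj_Cx, e2]; exact conj_mem_Cx.2 ht⟩)
  exact hu' (by simpa [mul_assoc] using conj_mem_of_mem_normalizer (B_le_NM (P_le_B (Q_le_P ha))) (V_le_M h5))

theorem bas2_NM {g : G} (h1 : ∀ u ∈ sM φ, g * u * g⁻¹ ∈ φ.range) {s b : F} (hb : b ≠ 0)
    (h2 : ∀ u ∈ sM φ, g * u * g⁻¹ ∈ Cx (m φ s 0 b)) : g ∈ normalizer (sM φ : Set G) := by
  obtain ⟨p, _, _⟩ := bas2_p F
  refine mem_normalizer_of_forall fun u hu => (h.cent_x (h1 u hu) hb (h2 u hu)).resolve_right fun e => ?_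
  have h3 := h.p_B (p := p) (k := 1) ((mul_mem_cancel_right (T_le_B t_mem_T)).1 (P_le_B (M_le_P e)))
    (by rw [conj_pow, pow_one, M_pow hu]; simp)
  exact h.t_not_mem_P ((mul_mem_cancel_left h3).1 (M_le_P e))

theorem NV_le_NM : normalizer (sV φ : Set G) ≤ normalizer (sM φ : Set G) := fun g hg => by
  have k : ∀ u ∈ sM φ, ∀ v ∈ sV φ, g * u * g⁻¹ ∈ Cx v := fun u hu v hv =>
    mem_Cx.2 (bas2_comm (M_comm (V_le_M (conj_mem_of_mem_normalizer' hg hv)) hu)).symm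
  exact h.bas2_NM (fun u hu => h.cent 1 one_ne_zero ▸ k u hu _ (m_mem_V 1 0)) one_ne_zero
    fun u hu => k u hu _ (m_mem_V 0 1)

theorem syl_V (p : ℕ) [Fact p.Prime] [CharP F p] : IsSylowIn p (sV φ) (Cx (t φ)) := by
  by_contra hn
  obtain ⟨R, h1, h2, h3, h4⟩ := exists_lt_pgroup_normalizer ((h.pg_P p).to_le (V_le_M.trans M_le_P)) V_le_H hn
  refine h2.not_ge fun r hr => ?_
  obtain ⟨k, hk⟩ := isPGroup_iff_mem.1 h1 r hr
  exact h.p_NH (h.NV_le_NM (h4 hr)) (h3 hr) hk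

theorem mem_NR {g : G} (h1 : g ∈ normalizer (sM φ : Set G)) (h2 : g ∈ Cx (t φ)) :
    g ∈ normalizer (sR φ : Set G) := by
  refine mem_normalizer_of_forall fun u hu =>
    h.mem_R_of_inv (conj_mem_of_mem_normalizer h1 (R_le_M hu)) ?_
  obtain ⟨c, rfl⟩ := mem_R.1 hu
  have e : t φ * m φ 0 c 0 * (t φ)⁻¹ = (m φ 0 c 0)⁻¹ := by rw [t_conj_m, m_inv, neg_zero]
  calc _ = g * t φ * g⁻¹ * (g * m φ 0 c 0 * g⁻¹) * (g * t φ * g⁻¹)⁻¹ := by rw [mem_Cx'.1 h2]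
    _ = g * (t φ * m φ 0 c 0 * (t φ)⁻¹) * g⁻¹ := by group
    _ = _ := by rw [e]; group

theorem mem_NM_of_fix {g : G} (hg : g ∈ normalizer (sZ φ : Set G)) {s b : F} (hb : b ≠ 0)
    (e : g ∈ Cx (m φ s 0 b)) : g ∈ normalizer (sM φ : Set G) :=
  h.bas2_NM (s := s) (fun _ hu => conj_mem_of_mem_normalizer (h.NZ_eq.le hg) (M_le_C hu)) hb fun _ hu => by
    rw [← mem_Cx'.1 e]; exact conj_mem_Cx.2 (mem_Cx.2 (M_comm hu (m_mem_M ..)))

theorem mem_NL (h3 : 3 < Fintype.card F) {g : G} (hg : g ∈ normalizer (sZ φ : Set G)) (ht : g ∈ Cx (t φ)) :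
    g ∈ normalizer (sL φ : Set G) := by
  rw [mem_normalizer_iff_cj, ← h.comm_ZL h3, ← h.C_inf_H, cj_commutator, cj_inf,
    mem_normalizer_iff_cj.1 (h.NZ_eq.le hg), cj_eq_of_mem ht]

theorem bas2_u {f : G} (hf : f ∈ normalizer (sZ φ : Set G)) {b s' c' : F} (hb : b ≠ 0)
    (e : f ∈ Cx (m φ 0 0 b)) (h1 : f * m φ b 0 0 * f⁻¹ = m φ s' 0 0)
    (h2 : f * m φ 0 (-b) 0 * f⁻¹ = m φ 0 c' 0) : ∃ d, s' = b * d ^ 2 ∧ c' = -(b * d) := by
  obtain ⟨s, c, β, d, e1⟩ := mem_P.1 (conj_mem_of_mem_normalizer (h.mem_NP hf (h.mem_NM_of_fix hf hb e))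
    (y_mem_P 1))
  have e2 : y φ 1 * m φ 0 0 b * (y φ 1)⁻¹ = m φ b 0 0 * m φ 0 (-b) 0 * m φ 0 0 b := by
    simp [y_conj, m_mul]
  have e3 : m φ s' c' b = m φ (b * d ^ 2) (-(b * d)) b :=
    calc m φ s' c' b = m φ s' 0 0 * m φ 0 c' 0 * m φ 0 0 b := by simp [m_mul]
      _ = f * (y φ 1 * m φ 0 0 b * (y φ 1)⁻¹) * f⁻¹ := by
        rw [e2, ← conj_mul, ← conj_mul, h1, h2, mem_Cx'.1 e]
      _ = f * y φ 1 * f⁻¹ * (f * m φ 0 0 b * f⁻¹) * (f * y φ 1 * f⁻¹)⁻¹ := by group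
      _ = m φ s c β * (y φ d * m φ 0 0 b * (y φ d)⁻¹) * (m φ s c β)⁻¹ := by rw [mem_Cx'.1 e, ← e1]; group
      _ = _ := by rw [y_conj, m_comm, mul_inv_cancel_right]; simp
  exact ⟨d, (h.m_inj.1 e3).1, (h.m_inj.1 e3).2.1⟩

theorem u2 {f : G} (hf : f ∈ normalizer (sZ φ : Set G)) (ht : f ∈ Cx (t φ)) {b : F} (hb : b ≠ 0)
    (e : f ∈ Cx (m φ 0 0 b)) : ¬ ∀ z ∈ sZ φ, f * z * f⁻¹ = z⁻¹ := fun hi => by
  obtain ⟨c', h2⟩ := mem_R.1 (conj_mem_of_mem_normalizer (h.mem_NR (h.mem_NM_of_fix hf hb e) ht)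
    (m_mem_R (-b)))
  obtain ⟨d, h3, -⟩ := h.bas2_u hf (s' := -b) hb e (by rw [hi _ (m_mem_Z b), m_inv, neg_zero]) h2.symm
  exact h.neg_one_nonsq d (mul_left_cancel₀ hb (by linear_combination -h3))

theorem u5 {e : G} (he : e ∈ normalizer (sZ φ : Set G)) (hX : e ∈ centralizer (sX φ : Set G))
    (hR : e ∈ centralizer (sR φ : Set G)) : e ∈ sM φ := by
  obtain ⟨s', h1⟩ := mem_Z.1 (conj_mem_of_mem_normalizer he (m_mem_Z 1))
  obtain ⟨d, h2, h3⟩ := h.bas2_u he one_ne_zero (mem_Cx.2 (hX _ (m_mem_X 1)).symm) h1.symm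
    (mem_Cx'.1 (mem_Cx.2 (hR _ (m_mem_R (-1))).symm))
  obtain rfl : d = 1 := by linear_combination h3
  obtain rfl : s' = 1 := by linear_combination h2
  exact h.cent_R (h.cent 1 one_ne_zero ▸ mem_Cx'.2 h1.symm) one_ne_zero (mem_Cx.2 (hR _ (m_mem_R 1)).symm)

/-- a subgroup of `N(Z) ∩ C(t) ∩ C(x)` induces at most `(q - 1) / 2` automorphisms on `Z` -/
theorem mem_of_fix {N₀ N : Subgroup G} (h0 : N₀ ≤ N) (hN : N ≤ normalizer (sZ φ : Set G))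
    (ht : N ≤ Cx (t φ)) {b : F} (hb : b ≠ 0) (hx : N ≤ Cx (m φ 0 0 b))
    (hi : 2 * φ.range.relIndex N₀ + 1 = Fintype.card F) {n : G} (hn : n ∈ N) :
    ∃ c ∈ sV φ ⊔ zpowers (t φ), ∃ k ∈ N₀, n = c * k := by
  have h1 : Odd (φ.range.relIndex N) := Nat.not_even_iff_odd.1 fun e => by
    obtain ⟨f, hf, h2, h3⟩ := exists_sq (hN.trans h.NZ_eq.le) e
    exact h.u2 (hN hf) (ht hf) hb (hx hf) (h.inverts (hN hf) h2 h3)
  have h2 := h.idx_dvd hN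
  rw [← hi, Nat.add_sub_cancel] at h2
  obtain ⟨c, hc, k, hk, rfl⟩ := mem_of_relIndex_le h0 (hN.trans h.NZ_eq.le) (Nat.le_of_dvd
    (by have := h.q4; omega) ((Nat.coprime_two_right.2 h1).dvd_of_dvd_mul_left h2)) hn
  refine ⟨c, ?_, k, hk, rfl⟩
  rcases h.cent_xH hc.2 (ht hc.1) hb (hx hc.1) with e | e
  · exact mem_sup_left e
  · exact (mul_mem_cancel_right (mem_sup_right (mem_zpowers _))).1 (mem_sup_left e)

theorem coprime_le_C {p : ℕ} [Fact p.Prime] [CharP F p] (hq : p < Fintype.card F) {K : Subgroup G}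
    (hK : sZ φ ≤ normalizer (K : Set G)) (hp : ¬ p ∣ Nat.card K) : K ≤ φ.range := by
  haveI : IsMulCommutative (sZ φ) := ⟨⟨fun u v => Subtype.ext (M_comm (Z_le_M u.2) (Z_le_M v.2))⟩⟩
  exact Coprime.le_of_forall_centralizer_le
    (not_isCyclic (Fact.out : p.Prime).ne_zero (fun _ ha => M_pow (Z_le_M ha)) (h.card_Z ▸ hq)) hK
    (by simpa [h.card_Z] using bas2_cop (F := F) hp 1) fun a ha h1 => inf_le_right.trans (h.cz ha h1).le

theorem coprime_eq_bot {p : ℕ} [Fact p.Prime] [CharP F p] {K : Subgroup G} (hC : K ≤ φ.range)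
    (hK : sQ φ ≤ normalizer (K : Set G)) (hp : ¬ p ∣ Nat.card K) : K = ⊥ := by
  have e : sQ φ ⊓ K = ⊥ := inf_eq_bot_of_coprime (h.card_Q ▸ bas2_cop hp 3)
  refine eq_bot_iff.2 fun k hk => e.le ⟨Z_le_Q (h.cent_Q (hC hk) fun u hu => ?_), hk⟩
  have : u * k * u⁻¹ * k⁻¹ ∈ sQ φ ⊓ K := mem_inf.2
    ⟨by simpa [mul_assoc] using mul_mem hu (conj_mem_of_mem_normalizer (C_le_NQ (hC hk)) (inv_mem hu)),
      mul_mem (conj_mem_of_mem_normalizer (hK hu) hk) (inv_mem hk)⟩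
  exact mul_inv_eq_iff_eq_mul.1 (mul_inv_eq_one.1 (mem_bot.1 (e.le this)))

/-- a nontrivial normal subgroup meets `Z` -/
theorem normal_meets {p : ℕ} [Fact p.Prime] [CharP F p] (hq : p < Fintype.card F) {K : Subgroup G}
    [K.Normal] (hK : K ≠ ⊥) : ∃ z ∈ K, z ∈ sZ φ ∧ z ≠ 1 := by
  have hn : ∀ A : Subgroup G, A ≤ normalizer (K : Set G) := fun A => by rw [normalizer_eq_top]; exact le_top
  have hp : p ∣ Nat.card K := by
    by_contra hp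
    exact hK (h.coprime_eq_bot (h.coprime_le_C hq (hn _) hp) (hn _) hp)
  obtain ⟨z, hz, ho, hc⟩ := exists_mem_center_of_normalized (h.pg_P p) (inf_le_left : sP φ ⊓ K ≤ _)
    (bas1_norm fun g hg a ha => mem_inf.2
      ⟨mul_mem (mul_mem hg (mem_inf.1 ha).1) (inv_mem hg), ‹K.Normal›.conj_mem a ha.2 g⟩)
    fun e => ((h.syl_P p).inf_of_le_normalizer (hn _)).not_dvd (by rwa [e, top_inf_eq, relIndex_bot_left])
  exact ⟨z, hz.2, h.center_P (P_le_C hz.1) hc,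
    fun e => (Fact.out : p.Prime).one_lt.ne (by rw [← ho, e, orderOf_one])⟩

end Hay

end CfsgLib.Hay
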