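import Mathlib
import Cfsg.Agent.Lib.Hay.Gen
import Cfsg.Agent.Lib.GHA.SL2

/-! Central extensions of `L₂(3 ^ n)`.  See `plans/HAY.md`. -/

set_option autoImplicit false
set_option linter.unusedSectionVars false

namespace CfsgLib.Hay

open Subgroup CfsgLib.W2 CfsgLib.Tech
open CfsgLib.GHA (xu hd wn xu_add xu_zero xu_neg hd_mul hd_one hd_inv)
open CfsgLib.Gold (ncl)
open CfsgLib.SL2 (pm pm_surjective pm_eq_iff pm_neg)
open scoped MatrixGroups commutatorElement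

section ell1model

variable {F : Type*} [Field F]

theorem ell1_negA (A : SL(2, F)) (i j : Fin 2) : (-A) i j = -A i j := by simp

theorem ell1_two (h3 : (3 : F) = 0) : (2 : F) ≠ 0 := fun h =>
  one_ne_zero (by linear_combination h3 - h : (1 : F) = 0)

theorem ell1_pm_one {A : SL(2, F)} : pm A = 1 ↔ A = 1 ∨ A = -1 := by
  rw [← (pm (F := F)).map_one, pm_eq_iff]

theorem ell1_pm_xu (h2 : (2 : F) ≠ 0) {b c : F} (e : pm (xu b) = pm (xu c)) : b = c := by
  rcases pm_eq_iff.1 e with e | e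
  · exact xu_inj.1 e
  · have := congrArg (fun A : SL(2, F) => A 0 0) e
    simp only [ell1_negA, xu00] at this
    exact absurd (by linear_combination this) h2

theorem ell1_cent (h2 : (2 : F) ≠ 0) {A : SL(2, F)} {c : F} (hc : c ≠ 0)
    (e : pm A * pm (xu c) = pm (xu c) * pm A) : ∃ b, pm A = pm (xu b) := by
  have d := detA A
  rw [← map_mul, ← map_mul, pm_eq_iff] at e
  rcases e with e | e
  · have e1 := congrArg (fun A : SL(2, F) => A 0 0) e
    have e2 := congrArg (fun A : SL(2, F) => A 0 1) e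
    simp only [mulA, xu00, xu01, xu10, xu11] at e1 e2
    have h1 : A 1 0 = 0 := mul_left_cancel₀ hc (by linear_combination -e1)
    have h4 : A 1 1 = A 0 0 := mul_left_cancel₀ hc (by linear_combination -e2)
    rw [h1, h4, mul_zero, sub_zero] at d
    rcases mul_self_eq_one_iff.1 d with d | d
    · exact ⟨A 0 1, congrArg pm (extA d rfl h1 (h4.trans d))⟩
    · refine ⟨-A 0 1, pm_eq_iff.2 (Or.inr (extA ?_ ?_ ?_ ?_))⟩ <;> simp [d, h1, h4]
  · have e1 := congrArg (fun A : SL(2, F) => A 0 0) e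
    have e2 := congrArg (fun A : SL(2, F) => A 1 0) e
    simp only [mulA, ell1_negA, xu00, xu01, xu10, xu11] at e1 e2
    have h1 : A 1 0 = 0 := mul_left_cancel₀ h2 (by linear_combination e2)
    have h4 : A 0 0 = 0 := mul_left_cancel₀ h2 (by linear_combination e1 - c * h1)
    rw [h1, h4] at d
    simp at d

theorem ell1_low {A : SL(2, F)} {c : F} (e : pm A * pm (xu 1) * (pm A)⁻¹ = pm (xu c)) :
    A 1 0 = 0 := by
  rw [← map_inv, ← map_mul, ← map_mul, pm_eq_iff] at e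
  refine pow_eq_zero_iff (two_ne_zero) |>.1 ?_
  rcases e with e | e
  all_goals
    have e1 := congrArg (fun A : SL(2, F) => A 1 0) e
    simp only [mulA, ell1_negA, xu00, xu01, xu10, xu11, inv00, inv10] at e1
    linear_combination -e1

theorem ell1_conj {A : SL(2, F)} (hA : A 1 0 = 0) (c : F) :
    A * xu c * A⁻¹ = xu (A 0 0 ^ 2 * c) := by
  have d := detA A
  rw [hA] at d
  refine extA ?_ ?_ ?_ ?_ <;> simp only [mulA, xu00, xu01, xu10, xu11, inv00, inv10, inv01, inv11, hA]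
  · linear_combination d
  · ring
  · ring
  · linear_combination d

theorem ell1_card_U [Fintype F] (h2 : (2 : F) ≠ 0) :
    Nat.card ((uU F).map pm) = Fintype.card F := by
  rw [← Nat.card_eq_fintype_card]
  refine (Nat.card_congr (Equiv.ofBijective
    (fun b : F => (⟨pm (xu b), _, ⟨b, rfl⟩, rfl⟩ : (uU F).map pm)) ⟨fun b c e => ?_, ?_⟩)).symm
  · exact ell1_pm_xu h2 (congrArg Subtype.val e)
  · rintro ⟨_, _, ⟨b, rfl⟩, rfl⟩
    exact ⟨b, rfl⟩

theorem ell1_card_uB [Fintype F] :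
    Nat.card (uB F) = Fintype.card F * (Fintype.card F - 1) := by
  classical
  rw [← Fintype.card_units, ← Fintype.card_prod, ← Nat.card_eq_fintype_card]
  refine (Nat.card_congr (Equiv.ofBijective (fun x : F × Fˣ =>
    (⟨xu x.1 * hd x.2, show (xu x.1 * hd x.2) 1 0 = 0 by simp [mulA]⟩ : uB F)) ⟨?_, ?_⟩)).symm
  · rintro ⟨b, a⟩ ⟨b', a'⟩ e
    have e0 : xu b * hd a = xu b' * hd a' := congrArg Subtype.val e
    have e1 := congrArg (fun A : SL(2, F) => A 0 0) e0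
    simp only [mulA, xu00, xu01, hd00, hd10, one_mul, mul_zero, add_zero] at e1
    obtain rfl : a = a' := Units.ext e1
    rw [xu_inj.1 (mul_right_cancel e0)]
  · rintro ⟨A, (h : A 1 0 = 0)⟩
    have e := detA A
    rw [h, mul_zero, sub_zero] at e
    have h0 : A 0 0 ≠ 0 := left_ne_zero_of_mul_eq_one e
    refine ⟨(A 0 1 * A 0 0, Units.mk0 _ h0), Subtype.ext (extA ?_ ?_ ?_ ?_)⟩ <;> simp [mulA, h, h0]
    exact (eq_inv_of_mul_eq_one_right e).symm

theorem ell1_ker : (pm (F := F)).ker = center SL(2, F) := QuotientGroup.ker_mk' _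

theorem ell1_card_B [Fintype F] (h2 : (2 : F) ≠ 0) :
    2 * Nat.card ((uB F).map pm) = Fintype.card F * (Fintype.card F - 1) := by
  have e := card_mul_relIndex' (H := center SL(2, F)) (K := uB F) fun A hA =>
    ((SL2.mem_center_iff_isScal A).1 hA).2.1
  rwa [SL2.card_center_odd h2, ell1_card_uB, ← ell1_ker, relIndex_ker] at e

theorem ell1_card_psl [Fintype F] (h2 : (2 : F) ≠ 0) :
    2 * Nat.card PSL(2, F) = Fintype.card F * (Fintype.card F ^ 2 - 1) := by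
  have e := (center SL(2, F)).card_mul_index
  rw [SL2.card_center_odd h2, SL2.card_SL2] at e
  exact e

theorem ell1_pow [Fintype F] (h3 : (3 : F) = 0) : ∃ n, n ≠ 0 ∧ Fintype.card F = 3 ^ n := by
  have := charP_three h3
  obtain ⟨n, -, hn⟩ := FiniteField.card F 3
  exact ⟨n, n.ne_zero, hn⟩

theorem ell1_odd [Fintype F] (h3 : (3 : F) = 0) : Odd (Fintype.card F) := by
  obtain ⟨n, -, hn⟩ := ell1_pow h3
  rw [hn]
  exact Odd.pow (by decide)

theorem ell1_not_dvd [Fintype F] (h3 : (3 : F) = 0) : ¬ 3 ∣ Fintype.card F ^ 2 - 1 := by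
  obtain ⟨n, h0, hn⟩ := ell1_pow h3
  have h1 : 3 ∣ Fintype.card F ^ 2 := (hn ▸ dvd_pow_self 3 h0).trans (dvd_pow_self _ two_ne_zero)
  have h2 : 1 ≤ Fintype.card F ^ 2 := Nat.one_le_pow _ _ Fintype.card_pos
  omega

theorem ell1_simple [Fintype F] (h3 : (3 : F) = 0) (h27 : 27 ≤ Fintype.card F)
    (N : Subgroup PSL(2, F)) (hN : N.Normal) : N = ⊥ ∨ N = ⊤ := by
  rcases (GHA.qs_SL2 (ell1_odd h3) (by omega)).normal (N.comap pm) (hN.comap _) with h | h
  · left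
    rw [eq_bot_iff]
    intro x hx
    obtain ⟨A, rfl⟩ := pm_surjective x
    exact ell1_pm_one.2 (mem_zp (by simp) (h hx))
  · right
    rw [← map_comap_eq_self_of_surjective pm_surjective N, h, map_top_of_surjective _ pm_surjective]

theorem ell1_center (h3 : (3 : F) = 0) {x : PSL(2, F)} (hx : ∀ y, x * y = y * x) : x = 1 := by
  obtain ⟨A, rfl⟩ := pm_surjective x
  obtain ⟨b, hb⟩ := ell1_cent (ell1_two h3) one_ne_zero (hx (pm (xu 1)))
  rw [hb] at hx ⊢
  by_cases h0 : b = 0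
  · rw [h0, xu_zero, map_one]
  obtain ⟨c, hc⟩ := ell1_cent (ell1_two h3) h0 (hx (pm (wn F))).symm
  rcases pm_eq_iff.1 hc with e | e
  all_goals
    have e1 := congrArg (fun A : SL(2, F) => A 1 0) e
    simp [ell1_negA] at e1

theorem ell1_syl_U [Fintype F] (h3 : (3 : F) = 0) : IsSylowIn 3 ((uU F).map pm) ⊤ := by
  obtain ⟨n, -, hn⟩ := ell1_pow h3
  have h2 := ell1_two h3
  refine ⟨le_top, IsPGroup.of_card ((ell1_card_U h2).trans hn), fun hd => ell1_not_dvd h3 ?_⟩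
  have e := card_mul_relIndex' (le_top : (uU F).map pm ≤ ⊤)
  rw [ell1_card_U h2, card_top] at e
  have e2 := ell1_card_psl h2
  rw [← e, mul_left_comm] at e2
  rw [← Nat.eq_of_mul_eq_mul_left Fintype.card_pos e2]
  exact hd.mul_left 2

end ell1model

section ell1gen

variable {G : Type*} [Group G]

theorem ell1_mem_cen {K : Subgroup G} {k : K} : (k : G) ∈ cen K ↔ k ∈ center K :=
  ⟨fun h => mem_center_iff.2 fun x => Subtype.ext (h.2 x x.2),
    fun h => ⟨k.2, fun x hx => congrArg Subtype.val (mem_center_iff.1 h ⟨x, hx⟩)⟩⟩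

theorem ell1_le_of_mod {K N : Subgroup G} (hp : ⁅K, K⁆ = K)
    (h : ∀ k ∈ K, ∃ n ∈ N, n ∈ K ∧ n⁻¹ * k ∈ cen K) : K ≤ N := by
  rw [← hp, commutator_le]
  intro a ha b hb
  obtain ⟨n, hn, hnK, h1⟩ := h a ha
  obtain ⟨n', hn', hnK', h2⟩ := h b hb
  have e1 : Commute b (n⁻¹ * a) := h1.2 b hb
  have e2 : Commute n (n'⁻¹ * b) := h2.2 n hnK
  have e3 : ⁅a, b⁆ = ⁅n, b⁆ := by
    calc ⁅a, b⁆ = n * ((n⁻¹ * a) * b) * a⁻¹ * b⁻¹ := by rw [commutatorElement_def]; group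
      _ = ⁅n, b⁆ := by rw [← e1.eq, commutatorElement_def]; group
  have e4 : ⁅n, b⁆ = ⁅n, n'⁆ := by
    calc ⁅n, b⁆ = n * n' * ((n'⁻¹ * b) * n⁻¹) * b⁻¹ := by rw [commutatorElement_def]; group
      _ = ⁅n, n'⁆ := by rw [← e2.inv_left.eq, commutatorElement_def]; group
  rw [e3, e4, commutatorElement_def]
  exact N.mul_mem (N.mul_mem (N.mul_mem hn hn') (N.inv_mem hn)) (N.inv_mem hn')

end ell1gen

/-- The map to `L₂(q)` with its basic properties. -/
structure EllMap {G : Type*} [Group G] (F : Type*) [Field F] (K Z : Subgroup G)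
    (f : K →* PSL(2, F)) : Prop where
  surj : Function.Surjective f
  ker : ∀ k : K, f k = 1 ↔ (k : G) ∈ cen K
  up : ∀ k : K, (k : G) ∈ Z → ∃ c, f k = pm (xu c)
  down : ∀ c, ∃ k : K, (k : G) ∈ Z ∧ f k = pm (xu c)

namespace Ell

variable {G : Type*} [Group G] [Finite G] {F : Type*} [Field F] [Fintype F] {K Z : Subgroup G}

theorem of_iso (h3 : (3 : F) = 0) (h27 : 27 ≤ Fintype.card F) (hS : IsSylowIn 3 Z K)
    (hc : Nat.card Z = Fintype.card F) (hp : ⁅K, K⁆ = K) (f : K →* PSL(2, F)) (hf : Function.Surjective f)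
    (hk : f.ker ≤ center K) : Ell F K Z := by
  have : Fact (Nat.Prime 3) := ⟨Nat.prime_three⟩
  have h2 := ell1_two h3
  have hZ : IsPGroup 3 ((Z.subgroupOf K).map f) := (hS.pgroup.comap_subtype (K := K)).map f
  obtain ⟨g, -, hg⟩ := (ell1_syl_U h3).exists_cj_le hZ le_top
  have e : ((MulAut.conj g).toMonoidHom.comp f).ker = f.ker := by
    ext k
    simp [MonoidHom.mem_ker]
  refine ⟨h3, h27, hc, hS.le, hp, (MulAut.conj g).toMonoidHom.comp f,
    (MulAut.conj g).surjective.comp hf, e ▸ hk, fun hd => hS.not_dvd ?_, fun k hk => ?_⟩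
  · rw [e] at hd
    have e1 := card_mul_relIndex' hS.le
    have e2 := f.ker.card_mul_index
    rw [index_ker, MonoidHom.range_eq_top.2 hf, card_top] at e2
    have e3 := ell1_card_psl h2
    have e4 : Fintype.card F * (2 * Z.relIndex K) =
        Fintype.card F * (Nat.card f.ker * (Fintype.card F ^ 2 - 1)) := by
      rw [mul_left_comm, ← hc, e1, ← e2, hc, mul_left_comm, e3]; ring
    have e5 := Nat.eq_of_mul_eq_mul_left Fintype.card_pos e4
    exact (Nat.Coprime.dvd_mul_left (by decide)).1 (e5 ▸ hd.mul_right _)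
  · obtain ⟨_, ⟨c, rfl⟩, e⟩ := cj_le_iff.1 hg (f k) ⟨k, hk, rfl⟩
    exact ⟨c, e.symm⟩

theorem of_sl2 (h3 : (3 : F) = 0) (h27 : 27 ≤ Fintype.card F) (ψ : SL(2, F) →* G)
    (hψ : ∀ A, ψ A = 1 → A = 1 ∨ A = -1) : Ell F ψ.range ((uU F).map ψ) := by
  have h2 := ell1_two h3
  have hker : ψ.rangeRestrict.ker ≤ (pm (F := F)).ker := fun A hA =>
    ell1_pm_one.2 (hψ A (congrArg Subtype.val hA))
  let f := ψ.rangeRestrict.liftOfSurjective ψ.rangeRestrict_surjective ⟨pm, hker⟩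
  have hf : ∀ A, f (ψ.rangeRestrict A) = pm A := fun A =>
    ψ.rangeRestrict.liftOfRightInverse_comp_apply _ _ ⟨pm, hker⟩ A
  refine ⟨h3, h27, ?_, map_le_range _ _, ?_, f, fun x => ?_, fun k hk => ?_, fun hd => ?_, ?_⟩
  · rw [← Nat.card_eq_fintype_card]
    refine (Nat.card_congr (Equiv.ofBijective
      (fun b : F => (⟨ψ (xu b), _, ⟨b, rfl⟩, rfl⟩ : (uU F).map ψ)) ⟨fun b c e => ?_, ?_⟩)).symm
    · refine ell1_pm_xu h2 ?_
      rw [← hf, ← hf]
      have e' : ψ (xu b) = ψ (xu c) := congrArg Subtype.val e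
      exact congrArg f (Subtype.ext e')
    · rintro ⟨_, _, ⟨b, rfl⟩, rfl⟩
      exact ⟨b, rfl⟩
  · rw [MonoidHom.range_eq_map, ← map_commutator, ← _root_.commutator_def,
      (GHA.qs_SL2 (ell1_odd h3) (by omega)).perfect]
  · obtain ⟨A, rfl⟩ := pm_surjective x
    exact ⟨_, hf A⟩
  · obtain ⟨A, rfl⟩ := ψ.rangeRestrict_surjective k
    rw [MonoidHom.mem_ker, hf, ell1_pm_one] at hk
    refine mem_center_iff.2 fun x => ?_
    obtain ⟨B, rfl⟩ := ψ.rangeRestrict_surjective x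
    rw [← map_mul, ← map_mul]
    rcases hk with rfl | rfl <;> simp
  · have : Fact (Nat.Prime 3) := ⟨Nat.prime_three⟩
    obtain ⟨⟨k, hk⟩, ho⟩ := exists_prime_orderOf_dvd_card' 3 hd
    obtain ⟨A, rfl⟩ := ψ.rangeRestrict_surjective k
    have hk' := hk
    rw [MonoidHom.mem_ker, hf, ell1_pm_one] at hk'
    have : (3 : ℕ) ∣ 2 := by
      rw [← ho]
      refine orderOf_dvd_of_pow_eq_one (Subtype.ext ?_)
      change ψ.rangeRestrict A ^ 2 = 1
      rw [← map_pow]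
      rcases hk' with rfl | rfl <;> simp
    omega
  · rintro ⟨_, hk⟩ ⟨_, ⟨c, rfl⟩, rfl⟩
    exact ⟨c, hf _⟩

variable (h : Ell F K Z)
include h

omit [Finite G] in
theorem conj (g : G) : Ell F (cj g K) (cj g Z) := by
  obtain ⟨f, h1, h2, h3, h4⟩ := h.iso
  have e : (f.comp (cjEquiv g K).symm.toMonoidHom).ker = f.ker.map (cjEquiv g K).toMonoidHom := by
    rw [← MonoidHom.comap_ker, map_equiv_eq_comap_symm']
  refine ⟨h.three, h.big, (card_cj g Z).trans h.card, cj_mono g h.le, by rw [← cj_commutator, h.perf],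
    f.comp (cjEquiv g K).symm.toMonoidHom, h1.comp (cjEquiv g K).symm.surjective, ?_, ?_, ?_⟩
  · rw [e]
    rintro _ ⟨k, hk, rfl⟩
    refine mem_center_iff.2 fun x => ?_
    obtain ⟨x, rfl⟩ := (cjEquiv g K).surjective x
    change cjEquiv g K x * cjEquiv g K k = cjEquiv g K k * cjEquiv g K x
    rw [← map_mul, ← map_mul, mem_center_iff.1 (h2 hk) x]
  · rwa [e, card_map_of_injective (cjEquiv g K).injective]
  · intro k hk
    obtain ⟨k, rfl⟩ := (cjEquiv g K).surjective k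
    obtain ⟨c, hc⟩ := h4 k (conj_mem_cj.1 hk)
    exact ⟨c, by simpa using hc⟩

omit [Finite G] in
theorem ell1_ker_eq {f : K →* PSL(2, F)} (h1 : Function.Surjective f) (h2 : f.ker ≤ center K) :
    f.ker = (cen K).subgroupOf K := by
  ext k
  refine ⟨fun hk => ell1_mem_cen.2 (h2 hk), fun hk => ell1_center h.three fun y => ?_⟩
  obtain ⟨x, rfl⟩ := h1 y
  rw [← map_mul, ← map_mul, mem_center_iff.1 (ell1_mem_cen.1 hk) x]

theorem three_cen : ¬ 3 ∣ Nat.card (cen K) := by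
  obtain ⟨f, h1, h2, h3, -⟩ := h.iso
  rwa [h.ell1_ker_eq h1 h2, Nat.card_congr (subgroupOfEquivOfLe inf_le_left).toEquiv] at h3

theorem card_K : 2 * (cen K).relIndex K = Fintype.card F * (Fintype.card F ^ 2 - 1) := by
  obtain ⟨f, h1, h2, -, -⟩ := h.iso
  rw [relIndex, ← h.ell1_ker_eq h1 h2, index_ker, MonoidHom.range_eq_top.2 h1, card_top,
    ell1_card_psl (ell1_two h.three)]

omit [Finite G] in
theorem ell1_pgroup : IsPGroup 3 Z := by
  obtain ⟨n, -, hn⟩ := ell1_pow h.three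
  exact IsPGroup.of_card (h.card.trans hn)

theorem syl : IsSylowIn 3 Z K := by
  refine ⟨h.le, h.ell1_pgroup, fun hd => ?_⟩
  have e1 := card_mul_relIndex' h.le
  have e2 := card_mul_relIndex' (inf_le_left : cen K ≤ K)
  have e4 : Fintype.card F * (2 * Z.relIndex K) =
      Fintype.card F * (Nat.card (cen K) * (Fintype.card F ^ 2 - 1)) := by
    rw [mul_left_comm, ← h.card, e1, ← e2, h.card, mul_left_comm, h.card_K]; ring
  have e5 := Nat.eq_of_mul_eq_mul_left Fintype.card_pos e4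
  rcases (Nat.Prime.dvd_mul Nat.prime_three).1 (e5 ▸ hd.mul_left 2) with h1 | h1
  · exact h.three_cen h1
  · exact ell1_not_dvd h.three h1

theorem ell1_cube {d : G} (hd : d ∈ cen K) {n : ℕ} (e : d ^ 3 ^ n = 1) : d = 1 := by
  have h1 : orderOf d ∣ Nat.card (cen K) := orderOf_dvd_natCard _ hd
  have h2 : (3 ^ n).Coprime (Nat.card (cen K)) :=
    ((Nat.Prime.coprime_iff_not_dvd Nat.prime_three).2 h.three_cen).pow_left n
  exact orderOf_eq_one_iff.1 (Nat.eq_one_of_dvd_coprimes h2 (orderOf_dvd_of_pow_eq_one e) h1)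

theorem inf_cen : Z ⊓ cen K = ⊥ := by
  rw [eq_bot_iff]
  intro z hz
  obtain ⟨n, hn⟩ := isPGroup_iff_mem.1 h.ell1_pgroup z hz.1
  exact h.ell1_cube hz.2 hn

theorem ell1_eq_one {z : G} (hz : z ∈ Z) (hc : z ∈ cen K) : z = 1 :=
  mem_bot.1 (h.inf_cen ▸ (⟨hz, hc⟩ : z ∈ Z ⊓ cen K))

theorem ell1_map : ∃ f : K →* PSL(2, F), EllMap F K Z f := by
  obtain ⟨f, h1, h2, -, h4⟩ := h.iso
  have hk : ∀ k : K, f k = 1 ↔ (k : G) ∈ cen K := fun k => by
    rw [← MonoidHom.mem_ker, h.ell1_ker_eq h1 h2]; rfl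
  refine ⟨f, h1, hk, h4, fun c => ?_⟩
  have e : (Z.subgroupOf K).map f = (uU F).map pm := by
    refine eq_of_le_of_card_ge ?_ ?_
    · rintro _ ⟨k, hk, rfl⟩
      obtain ⟨c, hc⟩ := h4 k hk
      exact ⟨_, ⟨c, rfl⟩, hc.symm⟩
    · rw [ell1_card_U (ell1_two h.three), ← relIndex_ker, h.ell1_ker_eq h1 h2,
        relIndex_subgroupOf h.le, ← inf_relIndex_right, inf_comm, h.inf_cen, relIndex_bot_left, h.card]
  obtain ⟨k, hk, e⟩ := (e ▸ ⟨_, ⟨c, rfl⟩, rfl⟩ : pm (xu c) ∈ (Z.subgroupOf K).map f)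
  exact ⟨k, hk, e⟩

theorem exp : ∀ z ∈ Z, z ^ 3 = 1 := by
  obtain ⟨f, hf⟩ := h.ell1_map
  intro z hz
  obtain ⟨c, hc⟩ := hf.up ⟨z, h.le hz⟩ hz
  refine h.ell1_eq_one (Z.pow_mem hz 3) ((hf.ker (⟨z, h.le hz⟩ ^ 3)).1 ?_)
  rw [map_pow, hc, ← map_pow, pow_three, ← xu_add, ← xu_add,
    show c + (c + c) = 0 by linear_combination c * h.three, xu_zero, map_one]

theorem comm : ∀ u ∈ Z, ∀ v ∈ Z, u * v = v * u := by
  obtain ⟨f, hf⟩ := h.ell1_map
  intro u hu v hv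
  obtain ⟨c, hc⟩ := hf.up ⟨u, h.le hu⟩ hu
  obtain ⟨d, hd⟩ := hf.up ⟨v, h.le hv⟩ hv
  rw [← mul_inv_eq_one]
  refine h.ell1_eq_one (Z.mul_mem (Z.mul_mem hu hv) (Z.inv_mem (Z.mul_mem hv hu)))
    ((hf.ker (⟨u, h.le hu⟩ * ⟨v, h.le hv⟩ * (⟨v, h.le hv⟩ * ⟨u, h.le hu⟩)⁻¹)).1 ?_)
  rw [map_mul, map_inv, mul_inv_eq_one, map_mul, map_mul, hc, hd, ← map_mul, ← map_mul, ← xu_add,
    ← xu_add, add_comm]

theorem normal {N : Subgroup G} (hN : K ≤ normalizer (N : Set G)) : N ⊓ K ≤ cen K ∨ K ≤ N := by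
  obtain ⟨f, hf⟩ := h.ell1_map
  have hn : (N.subgroupOf K).Normal :=
    ⟨fun n hn k => conj_mem_of_mem_normalizer (H := N) (hN k.2) hn⟩
  rcases ell1_simple h.three h.big _ (hn.map f hf.surj) with e | e
  · left
    intro x hx
    refine (hf.ker ⟨x, hx.2⟩).1 (mem_bot.1 ?_)
    exact e ▸ ⟨_, hx.1, rfl⟩
  · right
    refine ell1_le_of_mod h.perf fun k hk => ?_
    obtain ⟨n, hn, e⟩ := (e ▸ mem_top _ : f ⟨k, hk⟩ ∈ (N.subgroupOf K).map f)
    exact ⟨n, hn, n.2, (hf.ker (n⁻¹ * ⟨k, hk⟩)).1 (by rw [map_mul, map_inv, e, inv_mul_cancel])⟩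

omit [Finite G] in
theorem ell1_ne_bot : Z ≠ ⊥ := fun e => by
  have h1 := h.card
  have := h.big
  rw [e, card_bot] at h1
  omega

theorem ell1_not_le_cen : ¬ Z ≤ cen K := fun e => h.ell1_ne_bot (by rw [← h.inf_cen, inf_eq_left.2 e])

theorem ncl_eq : ncl Z K = K := by
  refine le_antisymm (Gold.ncl_le h.le) ?_
  refine (h.normal (Gold.le_normalizer_ncl Z K)).resolve_left fun e => ?_
  exact h.ell1_not_le_cen ((le_inf (Gold.le_ncl Z K) h.le).trans e)

theorem not_le : ¬ K ≤ normalizer (Z : Set G) := fun e => by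
  rcases h.normal e with e | e
  · exact h.ell1_not_le_cen ((le_inf le_rfl h.le).trans e)
  · exact h.ell1_not_le_cen fun z hz => ⟨h.le hz, fun k hk => h.comm k (e hk) z hz⟩

theorem eq_of_le {K' Z' : Subgroup G} (h' : Ell F K' Z') (hK : K ≤ K') : K = K' := by
  obtain ⟨f, hf⟩ := h'.ell1_map
  refine le_antisymm hK (ell1_le_of_mod h'.perf fun k hk => ?_)
  have e : (K.subgroupOf K').map f = ⊤ := by
    refine eq_top_of_le_card _ ?_
    have e1 : f.ker = (cen K').subgroupOf K' := by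
      ext k
      exact hf.ker k
    rw [← relIndex_ker, e1, relIndex_subgroupOf hK, ← inf_relIndex_right]
    have e2 : cen K' ⊓ K ≤ cen K := fun x hx => ⟨hx.2, fun y hy => hx.1.2 y (hK hy)⟩
    have e3 : (cen K).relIndex K ≤ (cen K' ⊓ K).relIndex K := Nat.le_of_dvd (Nat.pos_of_ne_zero (index_ne_zero_of_finite (H := (cen K' ⊓ K).subgroupOf K)))
      (relIndex_dvd_of_le_left K e2)
    have e4 := h.card_K
    have e5 := ell1_card_psl (ell1_two h.three)
    omega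
  obtain ⟨n, hn, e⟩ := (e ▸ mem_top _ : f ⟨k, hk⟩ ∈ (K.subgroupOf K').map f)
  exact ⟨n, hn, n.2, (hf.ker (n⁻¹ * ⟨k, hk⟩)).1 (by rw [map_mul, map_inv, e, inv_mul_cancel])⟩

theorem ell1_cent' {f : K →* PSL(2, F)} (hf : EllMap F K Z f) {z : G} (hz : z ∈ Z) (h1 : z ≠ 1)
    {k : K} (hk : (k : G) * z = z * k) : ∃ b, f k = pm (xu b) := by
  obtain ⟨c, hc⟩ := hf.up ⟨z, h.le hz⟩ hz
  obtain ⟨A, hA⟩ := pm_surjective (f k)
  have h0 : c ≠ 0 := fun e => h1 (h.ell1_eq_one hz ((hf.ker ⟨z, h.le hz⟩).1 (by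
    rw [hc, e, xu_zero, map_one])))
  rw [← hA]
  refine ell1_cent (ell1_two h.three) h0 ?_
  rw [hA, ← hc, ← map_mul, ← map_mul]
  exact congrArg f (Subtype.ext hk)

omit h [Finite G] [Fintype F] in
theorem ell1_split {f : K →* PSL(2, F)} (hf : EllMap F K Z f) {k : K} {b : F}
    (hk : f k = pm (xu b)) : ∃ z ∈ Z, z⁻¹ * k ∈ cen K := by
  obtain ⟨z, hz, e⟩ := hf.down b
  exact ⟨z, hz, (hf.ker (z⁻¹ * k)).1 (by rw [map_mul, map_inv, e, hk, inv_mul_cancel])⟩

theorem cent {z : G} (hz : z ∈ Z) (h1 : z ≠ 1) : K ⊓ Cx z ≤ Z ⊔ cen K := by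
  obtain ⟨f, hf⟩ := h.ell1_map
  intro k hk
  obtain ⟨b, hb⟩ := h.ell1_cent' hf hz h1 (k := ⟨k, hk.1⟩) (mem_Cx.1 hk.2)
  obtain ⟨u, hu, e⟩ := ell1_split hf hb
  simpa using mul_mem_sup hu e

theorem ell1_mem_N {f : K →* PSL(2, F)} (hf : EllMap F K Z f) {k : K} {A : SL(2, F)}
    (hA : f k = pm A) : (k : G) ∈ normalizer (Z : Set G) ↔ A 1 0 = 0 := by
  constructor
  · intro hk
    obtain ⟨z, hz, e⟩ := hf.down 1
    obtain ⟨c, hc⟩ := hf.up (k * z * k⁻¹) (conj_mem_of_mem_normalizer hk hz)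
    rw [map_mul, map_mul, map_inv, hA, e] at hc
    exact ell1_low hc
  · intro h0
    refine mem_normalizer_of_forall fun z hz => ?_
    obtain ⟨c, hc⟩ := hf.up ⟨z, h.le hz⟩ hz
    obtain ⟨u, hu, e⟩ := ell1_split hf (k := k * ⟨z, h.le hz⟩ * k⁻¹) (b := A 0 0 ^ 2 * c) (by
      rw [map_mul, map_mul, map_inv, hA, hc, ← map_inv, ← map_mul, ← map_mul, ell1_conj h0])
    change u⁻¹ * (k * z * (k : G)⁻¹) ∈ _ at e
    have e1 : Commute u (u⁻¹ * (k * z * (k : G)⁻¹)) := e.2 u (h.le hu)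
    have e2 := e1.mul_pow 3
    rw [mul_inv_cancel_left, conj_pow, h.exp z hz, h.exp u hu, one_mul] at e2
    have e3 := h.ell1_cube e (n := 1) (by rw [pow_one, ← e2]; group)
    rw [inv_mul_eq_one] at e3
    exact e3 ▸ hu

theorem idx : 2 * (centralizer (Z : Set G)).relIndex (K ⊓ normalizer (Z : Set G)) + 1 = Fintype.card F := by
  obtain ⟨f, hf⟩ := h.ell1_map
  have h2 := ell1_two h.three
  have e1 : (centralizer (Z : Set G)).subgroupOf K = ((uU F).map pm).comap f := by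
    ext k
    constructor
    · intro hk
      obtain ⟨⟨z, hz⟩, hz1⟩ := ne_bot_iff_exists_ne_one.1 h.ell1_ne_bot
      obtain ⟨b, hb⟩ := h.ell1_cent' hf hz (fun e => hz1 (Subtype.ext e)) (k := k) (hk z hz).symm
      exact ⟨_, ⟨b, rfl⟩, hb.symm⟩
    · rintro ⟨_, ⟨b, rfl⟩, hb⟩
      obtain ⟨u, hu, e⟩ := ell1_split hf hb.symm
      have : u * (u⁻¹ * k) ∈ centralizer (Z : Set G) :=
        mul_mem (fun z hz => h.comm z hz u hu) fun z hz => e.2 z (h.le hz)
      rwa [mul_inv_cancel_left] at this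
  have e2 : ((K ⊓ normalizer (Z : Set G)).subgroupOf K).map f = (uB F).map pm := by
    ext x
    constructor
    · rintro ⟨k, hk, rfl⟩
      obtain ⟨A, hA⟩ := pm_surjective (f k)
      exact ⟨A, (h.ell1_mem_N hf hA.symm).1 hk.2, hA⟩
    · rintro ⟨A, hA, rfl⟩
      obtain ⟨k, hk⟩ := hf.surj (pm A)
      exact ⟨k, ⟨k.2, (h.ell1_mem_N hf hk).2 hA⟩, hk⟩
  rw [← relIndex_subgroupOf (inf_le_left : K ⊓ normalizer (Z : Set G) ≤ K), e1, relIndex_comap, e2]
  have e3 := card_mul_relIndex' (map_mono (f := pm) (show uU F ≤ uB F by rintro _ ⟨b, rfl⟩; rfl))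
  have e4 := ell1_card_B h2
  rw [← e3, ell1_card_U h2, mul_left_comm] at e4
  have e5 := Nat.eq_of_mul_eq_mul_left Fintype.card_pos e4
  have := h.big
  omega

theorem exists_not : ∃ n ∈ K, n ∈ normalizer (Z : Set G) ∧ n ∉ centralizer (Z : Set G) := by
  by_contra hc
  push Not at hc
  have e := h.idx
  rw [relIndex_eq_one.2 fun n (hn : n ∈ K ⊓ normalizer (Z : Set G)) => hc n hn.1 hn.2] at e
  have := h.big
  omega

end Ell

theorem Hay.ell {G : Type*} [Group G] [Finite G] {F : Type*} [Field F] [Fintype F] {φ : Jac F →* G}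
    (h : Hay φ) (th : Three F) : Ell F (sL φ) (sX φ) :=
  X_eq (φ := φ) ▸ Ell.of_sl2 th.three th.big (l φ) fun _ e => Or.inl (h.l_inj (e.trans (l φ).map_one.symm))

end CfsgLib.Hay
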