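import Mathlib
import Cfsg.Agent.Lib.Hay.Ell1
import Cfsg.Agent.Lib.CIT.AppModel

/-! Automorphisms and involutions of central extensions of `L₂(3 ^ n)`.  See `plans/HAY.md`. -/

set_option autoImplicit false
set_option linter.unusedSectionVars false

namespace CfsgLib.Hay

open Subgroup CfsgLib.W2 CfsgLib.Tech
open CfsgLib.GHA (xu hd wn xu_add xu_zero xu_neg hd_mul hd_one hd_inv)
open CfsgLib.Gold (ncl)
open CfsgLib.SL2 (pm pm_surjective pm_eq_iff pm_neg)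
open scoped MatrixGroups

section ell2model

variable {F : Type*} [Field F]

theorem ell2_bruhat {A : SL(2, F)} (h : A 1 0 ≠ 0) :
    ((xu (A 0 0 / A 1 0) * wn F)⁻¹ * A) 1 0 = 0 := by
  simp only [mulA, inv10, inv11, xu00, xu01, xu10, xu11, wn00, wn10]
  field_simp
  ring

theorem ell2_mem [Fintype F] (hF : Odd (Fintype.card F)) {i j a : SL(2, F)} (hi : i * i = -1)
    (hj : j * j = -1) (hij : pm i * pm j = pm j * pm i) (hne : pm i ≠ pm j)
    (h1 : pm a * pm i = pm i * pm a) (h2 : pm a * pm j = pm j * pm a) :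
    pm a = 1 ∨ pm a = pm i ∨ pm a = pm j ∨ pm a = pm i * pm j := by
  have ii := GHA.S2.inv_eq hi
  have jj := GHA.S2.inv_eq hj
  rw [← map_mul, ← map_mul, pm_eq_iff] at hij h1 h2
  have e : i * j = -(j * i) := hij.resolve_left fun e => hne (by
    rcases GHA.eq_of_sq_of_comm hF hi hj e with e | e
    · rw [e]
    · rw [e, ii, pm_neg])
  have e' : j * i * j⁻¹ = i⁻¹ := by
    rw [ii, mul_inv_eq_iff_eq_mul, neg_mul, e, neg_neg]
  have key : ∀ b : SL(2, F), b * i = i * b → b * j = j * b → pm b = 1 := fun b h1 h2 =>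
    ell1_pm_one.2 (GHA.eq_of_comm_anti hF hi e' h1 h2)
  have pi : pm i * pm i = 1 := by rw [← map_mul, hi, pm_neg, map_one]
  have pj : pm j * pm j = 1 := by rw [← map_mul, hj, pm_neg, map_one]
  rcases h1 with h1 | h1 <;> rcases h2 with h2 | h2
  · exact Or.inl (key a h1 h2)
  · refine Or.inr (Or.inl ?_)
    have := key (a * i) (by rw [h1, mul_assoc, h1]) (by
      rw [mul_assoc, e, mul_neg, ← mul_assoc, h2, neg_mul, neg_neg, mul_assoc])
    rw [map_mul, ← pi] at this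
    exact mul_right_cancel this
  · refine Or.inr (Or.inr (Or.inl ?_))
    have e2 : j * i = -(i * j) := by rw [e, neg_neg]
    have := key (a * j) (by
      rw [mul_assoc, e2, mul_neg, ← mul_assoc, h1, neg_mul, neg_neg, mul_assoc])
      (by rw [h2, mul_assoc, h2])
    rw [map_mul, ← pj] at this
    exact mul_right_cancel this
  · refine Or.inr (Or.inr (Or.inr ?_))
    have e2 : j * i = -(i * j) := by rw [e, neg_neg]
    have := key (a * j * i) (by
      calc a * j * i * i = a * (j * i) * i := by simp only [mul_assoc]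
        _ = -(a * i) * j * i := by rw [e2]; simp only [mul_neg, neg_mul, mul_assoc]
        _ = i * (a * j * i) := by rw [h1, neg_neg]; simp only [mul_assoc]) (by
      calc a * j * i * j = a * j * (i * j) := by simp only [mul_assoc]
        _ = -(a * j) * j * i := by rw [e]; simp only [mul_neg, neg_mul, mul_assoc]
        _ = j * (a * j * i) := by
          nth_rewrite 1 [h2]
          rw [neg_neg]; simp only [mul_assoc])
    rw [map_mul, map_mul, ← pj, mul_assoc] at this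
    calc pm a = pm a * (pm j * pm i) * pm i * pm j := by
          rw [mul_assoc (pm a), mul_assoc (pm j), pi, mul_one, mul_assoc, pj, mul_one]
      _ = pm i * pm j := by rw [this, pj, one_mul]

end ell2model

namespace Ell

variable {G : Type*} [Group G] [Finite G] {F : Type*} [Field F] [Fintype F] {K Z : Subgroup G}
  (h : Ell F K Z)
include h

theorem ell2_syl : ∃ w ∈ K, w ∉ normalizer (Z : Set G) ∧
    ∀ k ∈ K, cj k Z = Z ∨ ∃ z ∈ Z, cj k Z = cj z (cj w Z) := by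
  obtain ⟨f, hf⟩ := h.ell1_map
  obtain ⟨w, hw⟩ := hf.surj (pm (wn F))
  refine ⟨w, w.2, fun e => ?_, fun k hk => ?_⟩
  · simpa using (h.ell1_mem_N hf hw).1 e
  obtain ⟨A, hA⟩ := pm_surjective (f ⟨k, hk⟩)
  by_cases h0 : A 1 0 = 0
  · exact Or.inl (mem_normalizer_iff_cj.1 ((h.ell1_mem_N hf hA.symm).2 h0))
  obtain ⟨z, hz, e⟩ := hf.down (A 0 0 / A 1 0)
  have e1 := (h.ell1_mem_N hf (k := (z * w)⁻¹ * ⟨k, hk⟩) (by
    rw [map_mul, map_inv, map_mul, e, hw, ← hA, ← map_mul, ← map_inv, ← map_mul])).2 (ell2_bruhat h0)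
  refine Or.inr ⟨z, hz, ?_⟩
  have e2 : cj (((z : G) * w)⁻¹ * k) Z = Z := mem_normalizer_iff_cj.1 e1
  rw [← cj_mul]
  nth_rewrite 2 [← e2]
  rw [← cj_mul, mul_inv_cancel_left]

theorem aut {g : G} (hg : g ∈ normalizer (K : Set G)) (hc : g ∈ centralizer (Z : Set G)) :
    ∃ z ∈ Z, z⁻¹ * g ∈ centralizer (K : Set G) := by
  have : Fact (Nat.Prime 3) := ⟨Nat.prime_three⟩
  obtain ⟨w, hw, hwn, hall⟩ := h.ell2_syl
  obtain ⟨k, hk, e⟩ := h.syl.exists_cj_eq ((h.syl.cj_of_mem hw).cj_of_mem_normalizer hg)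
  have hgZ : cj g Z = Z := mem_normalizer_iff_cj.1 (centralizer_le_normalizer _ hc)
  rcases hall k hk with e1 | ⟨z, hz, e1⟩
  · exact absurd (mem_normalizer_iff_cj.2 (cj_injective g (by rw [← e, e1, hgZ]))) hwn
  refine ⟨z, hz, ?_⟩
  have hzK := h.le hz
  have hg1 : z⁻¹ * g ∈ normalizer (K : Set G) := mul_mem (le_normalizer (inv_mem hzK)) hg
  have hc1 : z⁻¹ * g ∈ centralizer (Z : Set G) :=
    mul_mem (inv_mem fun u hu => h.comm u hu z hz) hc
  have hw1 : cj (z⁻¹ * g) (cj w Z) = cj w Z := by rw [cj_mul, ← e, e1, cj_inv_cj]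
  generalize z⁻¹ * g = a at hg1 hc1 hw1
  let M : Subgroup G := ⨅ k : K, normalizer (cj (k : G) Z : Set G)
  have hM : ∀ {x : G}, x ∈ M ↔ ∀ k ∈ K, cj x (cj k Z) = cj k Z := fun {x} => by
    simp only [M, mem_iInf, mem_normalizer_iff_cj, Subtype.forall]
  have hKM : ∀ k ∈ K, ∀ x ∈ M, k * x * k⁻¹ ∈ M := fun k hk x hx => hM.2 fun k' hk' => by
    rw [cj_mul, cj_mul, ← cj_mul k⁻¹, hM.1 hx _ (mul_mem (inv_mem hk) hk'), ← cj_mul,
      mul_inv_cancel_left]
  have haM : a ∈ M := hM.2 fun k hk => by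
    rcases hall k hk with e | ⟨u, hu, e⟩
    · rw [e, mem_normalizer_iff_cj.1 (centralizer_le_normalizer _ hc1)]
    · rw [e, ← cj_mul, ← hc1 u hu, cj_mul, hw1]
  rcases h.normal (N := M) (fun k hk => mem_normalizer_of_forall (hKM k hk)) with e | e
  · refine cent_of_perfect h.perf hg1 fun k hk => (e ⟨?_, ?_⟩).2
    · have := M.mul_mem (hKM k⁻¹ (inv_mem hk) a haM) (M.inv_mem haM)
      change _ ∈ M
      simpa only [inv_inv, mul_assoc] using this
    · exact K.mul_mem (K.inv_mem hk) (conj_mem_of_mem_normalizer hg1 hk)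
  · refine absurd (fun k hk => mem_normalizer_iff_cj.2 ?_) h.not_le
    simpa only [cj_one] using hM.1 (e hk) 1 (one_mem K)

theorem aut' {g : G} (hg : g ∈ normalizer (K : Set G)) (hc : g ∈ centralizer (Z : Set G)) {n : ℕ}
    (hn : ¬ 3 ∣ n) (e : g ^ n = 1) : g ∈ centralizer (K : Set G) := by
  obtain ⟨z, hz, h1⟩ := h.aut hg hc
  have e1 : Commute z (z⁻¹ * g) := h1 z (h.le hz)
  have e2 := e1.mul_pow n
  rw [mul_inv_cancel_left, e] at e2
  have e3 : z ^ n = 1 := h.ell1_eq_one (Z.pow_mem hz n) ⟨K.pow_mem (h.le hz) n, by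
    rw [eq_inv_of_mul_eq_one_left e2.symm]
    exact Subgroup.inv_mem _ (Subgroup.pow_mem _ h1 n)⟩
  have e4 : z = 1 := orderOf_eq_one_iff.1 (Nat.eq_one_of_dvd_coprimes
    ((Nat.Prime.coprime_iff_not_dvd Nat.prime_three).2 hn)
    (orderOf_dvd_of_pow_eq_one (h.exp z hz)) (orderOf_dvd_of_pow_eq_one e3))
  rwa [e4, inv_one, one_mul] at h1

theorem inv_conj {a b : G} (ha : a ∈ K) (hb : b ∈ K) (ha1 : a ∉ cen K) (hb1 : b ∉ cen K)
    (ha2 : a * a ∈ cen K) (hb2 : b * b ∈ cen K) : ∃ k ∈ K, b⁻¹ * (k * a * k⁻¹) ∈ cen K := by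
  obtain ⟨f, hf⟩ := h.ell1_map
  have key : ∀ a, ∀ ha : a ∈ K, a ∉ cen K → a * a ∈ cen K →
      ∃ A : SL(2, F), A * A = -1 ∧ pm A = f ⟨a, ha⟩ := fun a ha h1 h2 => by
    obtain ⟨A, hA⟩ := pm_surjective (f ⟨a, ha⟩)
    refine ⟨A, GHA.S2.lift_inv (ell1_two h.three) (ord_two ?_ ?_), hA⟩
    · rw [hA, ← map_mul]
      exact (hf.ker _).2 h2
    · rw [hA]
      exact fun e => h1 ((hf.ker _).1 e)
  obtain ⟨A, hA, eA⟩ := key a ha ha1 ha2
  obtain ⟨B, hB, eB⟩ := key b hb hb1 hb2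
  obtain ⟨C, hC⟩ := GHA.conj_of_sq' (ell1_odd h.three) hA hB
  obtain ⟨k, hk⟩ := hf.surj (pm C)
  refine ⟨k, k.2, (hf.ker (⟨b, hb⟩⁻¹ * (k * ⟨a, ha⟩ * k⁻¹))).1 ?_⟩
  rw [map_mul, map_mul, map_mul, map_inv, map_inv, hk, ← eA, ← eB, ← hC, map_mul, map_mul, map_inv,
    inv_mul_cancel]

theorem syl_two (h8 : Fintype.card F % 8 = 3) {S : Subgroup G} (hS : IsSylowIn 2 S K) :
    (∀ s ∈ S, s * s ∈ cen K) ∧ K ⊓ centralizer (S : Set G) ≤ S ⊔ cen K := by
  obtain ⟨f, hf⟩ := h.ell1_map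
  obtain ⟨n, -, hn⟩ := ell1_pow h.three
  have hodd := ell1_odd h.three
  have hsq : ∀ s : K, (s : G) ∈ S → f s * f s = 1 := fun s hs => by
    obtain ⟨m, hm⟩ := isPGroup_iff_mem.1 hS.pgroup s hs
    have e1 : orderOf (f s) ∣ 2 ^ m := orderOf_dvd_of_pow_eq_one (by
      rw [← map_pow, show s ^ 2 ^ m = 1 from Subtype.ext hm, map_one])
    obtain ⟨j, -, hj⟩ := (Nat.dvd_prime_pow Nat.prime_two).1 e1
    have e2 := (CIT.App.psl2_odd_hasOrd Nat.prime_three hn hodd (orderOf (f s))).1 ⟨_, rfl⟩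
    rw [← pow_two, ← orderOf_dvd_iff_pow_eq_one, hj]
    rw [hj] at e2
    rcases j with _ | _ | j
    · simp
    · simp
    · have e3 : 4 ∣ 2 ^ (j + 1 + 1) := ⟨2 ^ j, by ring⟩
      rcases e2 with e2 | e2 | e2 <;> have := e3.trans e2 <;> omega
  refine ⟨fun s hs => (hf.ker (⟨s, hS.le hs⟩ * ⟨s, hS.le hs⟩)).1 (by
    rw [map_mul, hsq _ hs]), fun k hk => ?_⟩
  have h4 : 4 ∣ Nat.card ((S.subgroupOf K).map f) := by
    have e1 := ((S.subgroupOf K).map f).card_mul_index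
    have e2 : ¬ 2 ∣ ((S.subgroupOf K).map f).index := fun e =>
      hS.not_dvd (e.trans (index_map_dvd _ hf.surj))
    have e3 : 4 ∣ Nat.card PSL(2, F) := by
      have e4 := CIT.App.psl2_odd_card hodd
      obtain ⟨m, hm⟩ : ∃ m, Fintype.card F = 8 * m + 3 := ⟨Fintype.card F / 8, by omega⟩
      rw [hm, show 8 * m + 3 - 1 = 8 * m + 2 by omega] at e4
      exact ⟨(8 * m + 3) * ((4 * m + 1) * (2 * m + 1)), Nat.eq_of_mul_eq_mul_left two_pos (by
        rw [e4]; ring)⟩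
    rw [← e1] at e3
    exact (Nat.Coprime.pow_left 2 ((Nat.Prime.coprime_iff_not_dvd Nat.prime_two).2 e2)
      ).dvd_of_dvd_mul_right e3
  obtain ⟨a, b, ha, hb, hab⟩ : ∃ a b : (S.subgroupOf K).map f, a ≠ 1 ∧ b ≠ 1 ∧ a ≠ b := by
    have := Fintype.ofFinite ((S.subgroupOf K).map f)
    have e := Nat.le_of_dvd Nat.card_pos h4
    rw [Nat.card_eq_fintype_card] at e
    obtain ⟨x, y, z, h1, h2, h3⟩ := Fintype.two_lt_card_iff.1
      (show 2 < Fintype.card ((S.subgroupOf K).map f) by omega)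
    exact ⟨x⁻¹ * y, x⁻¹ * z, by rwa [Ne, inv_mul_eq_one], by rwa [Ne, inv_mul_eq_one],
      fun e => h3 (mul_left_cancel e)⟩
  obtain ⟨_, a, haS, rfl⟩ := a
  obtain ⟨_, b, hbS, rfl⟩ := b
  obtain ⟨i, hi⟩ := pm_surjective (f a)
  obtain ⟨j, hj⟩ := pm_surjective (f b)
  obtain ⟨A, hA⟩ := pm_surjective (f ⟨k, hk.1⟩)
  have hii : i * i = -1 := GHA.S2.lift_inv (ell1_two h.three)
    (hi ▸ ord_two (hsq a haS) fun e => ha (Subtype.ext e))
  have hjj : j * j = -1 := GHA.S2.lift_inv (ell1_two h.three)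
    (hj ▸ ord_two (hsq b hbS) fun e => hb (Subtype.ext e))
  have hcm : ∀ s : K, (s : G) ∈ S → f ⟨k, hk.1⟩ * f s = f s * f ⟨k, hk.1⟩ := fun s hs => by
    rw [← map_mul, ← map_mul]
    exact congrArg f (Subtype.ext (hk.2 s hs).symm)
  have hfin : ∀ s : K, (s : G) ∈ S → f ⟨k, hk.1⟩ = f s → k ∈ S ⊔ cen K := fun s hs e => by
    have := (hf.ker (s⁻¹ * ⟨k, hk.1⟩)).1 (by rw [map_mul, map_inv, e, inv_mul_cancel])
    simpa using mul_mem_sup hs this
  have hij : pm i * pm j = pm j * pm i := by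
    have e1 := hsq (a * b) (S.mul_mem haS hbS)
    rw [map_mul] at e1
    rw [hi, hj, eq_inv_of_mul_eq_one_left e1, mul_inv_rev, ← eq_inv_of_mul_eq_one_left (hsq a haS),
      ← eq_inv_of_mul_eq_one_left (hsq b hbS)]
  rcases ell2_mem hodd hii hjj hij (fun e => hab (Subtype.ext (hi.symm.trans (e.trans hj))))
    (a := A) (by rw [hA, hi]; exact hcm a haS) (by rw [hA, hj]; exact hcm b hbS) with e | e | e | e
  · exact hfin 1 S.one_mem (by rw [← hA, e, map_one])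
  · exact hfin a haS (by rw [← hA, e, hi])
  · exact hfin b hbS (by rw [← hA, e, hj])
  · exact hfin (a * b) (S.mul_mem haS hbS) (by rw [← hA, e, hi, hj, map_mul])

theorem exists_ord (hc : cen K = ⊥) : (∃ u ∈ K, 2 * orderOf u + 1 = Fintype.card F) ∧
    ∃ v ∈ K, 2 * orderOf v = Fintype.card F + 1 := by
  obtain ⟨f, hf⟩ := h.ell1_map
  obtain ⟨n, -, hn⟩ := ell1_pow h.three
  have hodd := ell1_odd h.three
  have hinj : Function.Injective f := (injective_iff_map_eq_one f).2 fun k hk =>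
    Subtype.ext (mem_bot.1 (hc ▸ (hf.ker k).1 hk))
  have key : ∀ m, CIT.App.HasOrd PSL(2, F) m → ∃ u ∈ K, orderOf u = m := by
    rintro _ ⟨x, rfl⟩
    obtain ⟨k, rfl⟩ := hf.surj x
    exact ⟨k, k.2, by rw [orderOf_injective f hinj, orderOf_coe]⟩
  obtain ⟨m, hm⟩ := id hodd
  obtain ⟨u, hu, e1⟩ := key _ ((CIT.App.psl2_odd_hasOrd Nat.prime_three hn hodd _).2
    (Or.inr (Or.inl dvd_rfl)))
  obtain ⟨v, hv, e2⟩ := key _ ((CIT.App.psl2_odd_hasOrd Nat.prime_three hn hodd _).2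
    (Or.inr (Or.inr dvd_rfl)))
  exact ⟨⟨u, hu, by omega⟩, v, hv, by omega⟩

end Ell

end CfsgLib.Hay
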