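import Mathlib
import Cfsg.Agent.Lib.Hay.Bas2

/-! Case I: fusion, and the case `C(t) ≤ N(Z)`.  See `plans/HAY.md`. -/

set_option autoImplicit false

namespace CfsgLib.Hay

open Subgroup CfsgLib.W2 CfsgLib.Tech
open CfsgLib.GHA (xu hd wn xu_add xu_zero xu_neg hd_mul hd_one hd_inv)
open CfsgLib.Gold (ncl)
open scoped MatrixGroups

namespace One

variable {G : Type*} [Group G] [Finite G] {F : Type*} [Field F] [Fintype F] {φ : Jac F →* G} (h : One φ)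
include h

theorem sc {g z : G} (hz : z ∈ sZ φ) (h1 : z ≠ 1) (e : g * z * g⁻¹ ∈ normalizer (sZ φ : Set G)) :
    g ∈ normalizer (sZ φ : Set G) := by
  haveI := charP_three h.th.three
  haveI : Fact (Nat.Prime 3) := ⟨Nat.prime_three⟩
  have h3 : (g * z * g⁻¹) ^ 3 ^ 1 = 1 := by
    rw [conj_pow, pow_one, M_cube h.th.three (Z_le_M hz), mul_one, mul_inv_cancel]
  obtain ⟨c, c1, c2⟩ := (h.hay.syl_C 3).exists_conj_mem (h.hay.p_NZ e h3) (Core.isPGroup_zpowers_iff.2 ⟨1, h3⟩)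
  obtain ⟨c, c1, c2⟩ : ∃ c ∈ φ.range, c * (g * z * g⁻¹) * c⁻¹ ∈ sM φ := by
    rcases h.hay.cube h.th.three c2 (by rw [conj_pow, ← pow_one 3, h3, mul_one, mul_inv_cancel]) with e | e
    · exact ⟨c, c1, e⟩
    · obtain ⟨A, e⟩ := conj_Q e
      exact ⟨l φ A * c, mul_mem (L_le_C (l_mem_L A)) c1, by simpa only [mul_inv_rev, mul_assoc] using e⟩
  obtain ⟨d, d1, d2⟩ := h.hay.f3 (h.hay.f2 (g := c * g) hz h1 (by simpa only [mul_inv_rev, mul_assoc] using c2))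
  exact (mul_mem_cancel_left (C_le_NZ c1)).1 ((mul_mem_cancel_right (C_le_NZ d1)).1 (h.nm d2))

theorem com : Com φ := fun _ _ _ hz h1 e => h.sc hz h1 (C_le_NZ (M_le_C (V_le_M e)))

theorem NV_le : normalizer (sV φ : Set G) ≤ normalizer (sZ φ : Set G) := h.hay.NV_le_NM.trans h.nm
theorem syl_M {u : G} (hu : u ∈ sM φ) (hu' : u ∉ sZ φ) : IsSylowIn 3 (sM φ) (Cx u) := by
  haveI := charP_three h.th.three
  haveI : Fact (Nat.Prime 3) := ⟨Nat.prime_three⟩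
  by_contra e
  obtain ⟨R, h1, h2, h3, h4⟩ := exists_lt_pgroup_normalizer ((h.hay.pg_P 3).to_le M_le_P)
    (fun v hv => mem_Cx.2 (M_comm hv hu)) e
  obtain ⟨r, r1, r2⟩ := SetLike.exists_of_lt h2
  exact hu' (h.hay.cent_out ((h.hay.syl_P 3).le_of_normalizes h1 le_top
    (fun x hx => h.hay.mem_NP (h.nm (h4 hx)) (h4 hx)) r1) r2 hu (mem_Cx.1 (h3 r1)))

theorem not_conj {v u : G} (hv : v ∈ sV φ) (hu : u ∈ sQ φ) (hu' : u ∉ sZ φ) (g : G) :
    g * v * g⁻¹ ≠ u := by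
  haveI : Fact (Nat.Prime 3) := ⟨Nat.prime_three⟩
  wlog hM : u ∈ sM φ generalizing u g
  · obtain ⟨A, e⟩ := conj_Q hu
    have hA := L_le_C (l_mem_L (φ := φ) A)
    intro e'
    refine this ((mem_normalizer_iff.1 (C_le_NQ hA) _).1 hu) (mt (mem_normalizer_iff.1 (C_le_NZ hA) _).2 hu')
      (l φ A * g) e ?_
    rw [← e']; group
  rintro rfl
  by_cases hz : v ∈ sZ φ
  · exact hu' ((mem_normalizer_iff.1 (h.sc hz (fun e => hu' (by simp [e])) (C_le_NZ (M_le_C hM))) _).1 hz)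
  have h1 := (h.syl_M (V_le_M hv) hz).cj g
  rw [cj_Cx] at h1
  obtain ⟨k, k1, k2⟩ := h1.exists_cj_eq (h.syl_M hM hu')
  rw [← cj_mul, ← mem_normalizer_iff_cj] at k2
  refine hz (h.hay.Q_inf_H.le ⟨(mem_normalizer_iff.1 (h.hay.NZ_le_NQ (h.nm k2)) v).2 ?_, V_le_H hv⟩)
  rw [← mem_Cx'.1 k1] at hu
  simpa only [mul_inv_rev, mul_assoc] using hu

theorem one1_fix {f : G} (h1 : f ∈ normalizer (sZ φ : Set G)) (h2 : f ∉ φ.range) (h3 : f * f = 1)
    (h4 : f ∈ Cx (t φ)) : ∃ u ∈ sQ φ, u ∉ sZ φ ∧ u ∈ Cx f := by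
  have two := h.hay.two_ne
  have h5 := h.hay.inverts h1 h2 (h3 ▸ one_mem _)
  have h6 : ∀ c d, ∃ c' d', f * qq φ c d 0 * f⁻¹ = qq φ c' d' 0 := fun c d => by
    obtain ⟨c', d', s, e⟩ := mem_Q.1 ((mem_normalizer_iff.1 (h.hay.NZ_le_NQ h1) _).1 (qq_mem_Q c d 0))
    have h7 : t φ * qq φ c' d' s * (t φ)⁻¹ = (qq φ c' d' s)⁻¹ := by
      calc _ = t φ * f * qq φ c d 0 * (t φ * f)⁻¹ := by rw [e]; group
        _ = f * (t φ * qq φ c d 0 * (t φ)⁻¹) * f⁻¹ := by rw [← mem_Cx.1 h4]; group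
        _ = _ := by rw [e, t_conj_qq, ← neg_zero (G := F), ← qq_inv, neg_zero]; group
    rw [t_conj_qq, qq_inv, h.hay.qq_inj] at h7
    obtain rfl : s = 0 := (mul_eq_zero.1 (by linear_combination h7.2.2 : 2 * s = 0)).resolve_left two
    exact ⟨c', d', e.symm⟩
  choose α β e using h6
  have h7 : ∀ c d c' d', α c d + α c' d' = α (c + c') (d + d') ∧ β c d + β c' d' = β (c + c') (d + d') ∧
      α c d * β c' d' - β c d * α c' d' = -(c * d' - d * c') := fun c d c' d' => by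
    have h8 : qq φ c d 0 * qq φ c' d' 0 = qq φ (c + c') (d + d') 0 * m φ (c * d' - d * c') 0 0 := by
      rw [← qq_m, qq_mul, qq_mul]; simp
    have h9 := congrArg (fun x => f * x * f⁻¹) h8
    simp only [← conj_mul] at h9
    rw [e, e, e, h5 _ (m_mem_Z _), ← qq_m, qq_inv, qq_mul, qq_mul, h.hay.qq_inj] at h9
    simpa using h9
  have h8 : ∀ c d, α (α c d) (β c d) = c ∧ β (α c d) (β c d) = d := fun c d => by
    have h9 := e (α c d) (β c d)
    rw [← e c d, show f * (f * qq φ c d 0 * f⁻¹) * f⁻¹ = f * f * qq φ c d 0 * (f * f)⁻¹ by group, h3, one_mul,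
      inv_one, mul_one, h.hay.qq_inj] at h9
    exact ⟨h9.1.symm, h9.2.1.symm⟩
  obtain ⟨c, d, h9⟩ : ∃ c d, ¬ (c + α c d = 0 ∧ d + β c d = 0) := by
    by_contra! h9
    have h10 := (h7 1 0 0 1).2.2
    obtain ⟨a1, a2⟩ := h9 1 0
    obtain ⟨a3, a4⟩ := h9 0 1
    rw [eq_neg_of_add_eq_zero_right a1, eq_neg_of_add_eq_zero_right a2, eq_neg_of_add_eq_zero_right a3,
      eq_neg_of_add_eq_zero_right a4] at h10
    exact two (by linear_combination h10)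
  refine ⟨qq φ (c + α c d) (d + β c d) 0, qq_mem_Q _ _ _, fun h10 => h9 ?_, Cx_comm.1 (mem_Cx'.2 ?_)⟩
  · obtain ⟨s, h10⟩ := mem_Z.1 h10
    rw [← qq_m, h.hay.qq_inj] at h10
    exact ⟨h10.1.symm, h10.2.1.symm⟩
  · obtain ⟨a1, a2, -⟩ := h7 c d (α c d) (β c d)
    rw [e, ← a1, ← a2, (h8 c d).1, (h8 c d).2, add_comm c, add_comm d]

theorem ia (hH : Cx (t φ) ≤ normalizer (sZ φ : Set G)) : normalizer (sZ φ : Set G) = ⊤ := by
  haveI := charP_three h.th.three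
  haveI : Fact (Nat.Prime 3) := ⟨Nat.prime_three⟩
  refine eq_top_iff.2 (le_of_isolated h.hay.ord_t (mem_top _) (fun k _ hk => by_contra fun h1 => ?_) ?_
    (inf_le_right.trans hH))
  · have h2 : k * t φ * k⁻¹ * (k * t φ * k⁻¹) = 1 := by rw [conj_mul, t_mul_t, mul_one, mul_inv_cancel]
    obtain ⟨u, u1, u2, u3⟩ := h.one1_fix (hH hk) (fun e => (h.hay.invol_H e hk h2).elim (fun e => h.hay.t_ne_one (by
      rwa [mul_inv_eq_one, mul_eq_left] at e)) h1) h2 hk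
    rw [← cj_Cx, mem_cj] at u3
    obtain ⟨a, -, e⟩ := (h.hay.syl_V 3).exists_conj_mem u3 (Core.isPGroup_zpowers_iff.2 ⟨1, by
      rw [show k⁻¹ * u * k = k⁻¹ * u * k⁻¹⁻¹ by rw [inv_inv], conj_pow, pow_one, Q_pow u1, mul_one, mul_inv_cancel]⟩)
    exact h.not_conj e u1 u2 (k * a⁻¹) (by group)
  · by_cases e : PComp.opOf 2 (⊤ : Subgroup G) = ⊥
    · exact e ▸ bot_le
    haveI := normalizer_eq_top_iff.1 (top_le_iff.1 (PComp.le_normalizer_opOf (p := 2) (⊤ : Subgroup G)))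
    haveI := FT.odd_order_solvable (odd_card_opOf (⊤ : Subgroup G))
    obtain ⟨p, A, -, a1, a2, -, a3, -⟩ := Core.exists_elementaryAbelian_minimal_normal_le e
    obtain ⟨z, z1, z2, z3⟩ := h.hay.normal_meets (p := 3) (by have := h.th.big; omega) a2
    exact fun g _ => h.sc z2 z3 (C_le_NZ (h.hay.cz z2 z3 ▸ mem_Cx.2
      (congrArg Subtype.val (a3.1.is_comm.comm ⟨_, a1.conj_mem z z1 g⟩ ⟨z, z1⟩))))


end One

end CfsgLib.Hay
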