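import Mathlib
import Cfsg.Agent.Lib.Hay.Bas2
import Cfsg.Agent.Lib.Symp.Order

/-! The model inside `PSp₄(q)`.  See `plans/HAY.md`. -/

set_option autoImplicit false

namespace CfsgLib.Hay

open Subgroup CfsgLib.W2 CfsgLib.Tech
open CfsgLib.GHA (xu hd wn xu_add xu_zero xu_neg hd_mul hd_one hd_inv)
open CfsgLib.Gold (ncl)
open scoped MatrixGroups

section aux

open Matrix

variable {F : Type*} [Field F]

/-- the matrix -/
def mod_mat (x : Jac F) : Matrix (Fin 2 ⊕ Fin 2) (Fin 2 ⊕ Fin 2) F :=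
  fromBlocks !![1, x.A 1 0 * x.c - x.A 0 0 * x.d; 0, x.A 0 0]
    !![x.s, x.A 1 1 * x.c - x.A 0 1 * x.d; x.c, x.A 0 1] !![0, 0; 0, x.A 1 0] !![1, 0; x.d, x.A 1 1]

theorem mod_mem (x : Jac F) : mod_mat x ∈ symplecticGroup (Fin 2) F := by
  rw [SymplecticGroup.mem_iff]
  have h := detA x.A
  simp only [mod_mat, J, fromBlocks_multiply, fromBlocks_transpose, ← Matrix.ext_iff, Sum.forall,
    Fin.forall_fin_two]
  simp [Fin.sum_univ_two, vecMul, dotProduct]
  repeat' apply And.intro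
  all_goals first
    | ring1 | linear_combination h | linear_combination (-1) * h | linear_combination x.c * h
    | linear_combination (-x.c) * h | linear_combination x.d * h | linear_combination (-x.d) * h

theorem mod_mul (x y : Jac F) : mod_mat (x * y) = mod_mat x * mod_mat y := by
  have h := detA x.A
  simp only [mod_mat, fromBlocks_multiply, ← Matrix.ext_iff, Sum.forall, Fin.forall_fin_two, Jac.mul_A, mulA,
    Jac.mul_c, Jac.mul_d, Jac.mul_s]
  simp
  repeat' apply And.intro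
  all_goals first
    | ring1 | linear_combination (y.A 1 0 * y.c - y.A 0 0 * y.d) * h
    | linear_combination (y.A 1 1 * y.c - y.A 0 1 * y.d) * h

/-- the class in the projective group -/
def mod_pm : Jac F →* Cfsg.PSp 2 F :=
  MonoidHom.mk' (fun x => QuotientGroup.mk ⟨mod_mat x, mod_mem x⟩) fun x y => by
    rw [← QuotientGroup.mk_mul]
    exact congrArg _ (Subtype.ext (mod_mul x y))

theorem mod_pm_apply (x : Jac F) : mod_pm x = QuotientGroup.mk ⟨mod_mat x, mod_mem x⟩ := rfl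

theorem mod_mk {a b : symplecticGroup (Fin 2) F}
    (h : (QuotientGroup.mk a : Cfsg.PSp 2 F) = QuotientGroup.mk b) : b.1 = a.1 ∨ b.1 = -a.1 := by
  rcases Symp.mem_center_iff.1 (QuotientGroup.eq.1 h) with e | e <;> rw [inv_mul_eq_iff_eq_mul] at e
  · left; rw [e, mul_one]
  · right; rw [e]; simp [Symp.spNegOne]

theorem mod_inj (h2 : (2 : F) ≠ 0) : Function.Injective (mod_pm (F := F)) := by
  intro x y h
  rcases mod_mk h with e | e <;> have e' := fun i j => congrFun (congrFun e i) j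
  · have h1 := e' (.inl 1) (.inr 0)
    have h2 := e' (.inr 1) (.inr 0)
    have h3 := e' (.inl 0) (.inr 0)
    have h4 := e' (.inl 1) (.inl 1)
    have h5 := e' (.inl 1) (.inr 1)
    have h6 := e' (.inr 1) (.inl 1)
    have h7 := e' (.inr 1) (.inr 1)
    simp [mod_mat] at h1 h2 h3 h4 h5 h6 h7
    exact Jac.ext h1.symm h2.symm h3.symm (extA h4.symm h5.symm h6.symm h7.symm)
  · have h1 := e' (.inl 0) (.inl 0)
    simp [mod_mat] at h1
    exact absurd (by linear_combination h1) h2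

theorem mod_ex {s : F} (hs : s ≠ 0) {g : Matrix (Fin 2 ⊕ Fin 2) (Fin 2 ⊕ Fin 2) F}
    (hg : g ∈ symplecticGroup (Fin 2) F) (hc : g * mod_mat ⟨0, 0, s, xu 0⟩ = mod_mat ⟨0, 0, s, xu 0⟩ * g)
    (h1 : g (.inl 0) (.inl 0) = 1) : ∃ x, mod_mat x = g := by
  have e := fun i j => congrFun (congrFun hc i) j
  have a1 := e (.inl 1) (.inr 0)
  have a2 := e (.inr 0) (.inr 0)
  have a3 := e (.inr 1) (.inr 0)
  have a4 := e (.inl 0) (.inl 1)
  have a5 := e (.inl 0) (.inr 1)
  have a6 := e (.inl 0) (.inr 0)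
  simp [mod_mat, Matrix.mul_apply, Fin.sum_univ_two, hs] at a1 a2 a3 a4 a5 a6
  have s := fun i j => congrFun (congrFun (SymplecticGroup.mem_iff'.1 hg) i) j
  have b1 := s (.inl 1) (.inr 1)
  have b2 := s (.inl 1) (.inr 0)
  have b3 := s (.inr 1) (.inr 0)
  have a7 : g (.inr 0) (.inr 0) = 1 := mul_left_cancel₀ hs (by rw [h1] at a6; linear_combination -a6)
  simp [J, Matrix.mul_apply, Fin.sum_univ_two, a4, a5, a7] at b1 b2 b3
  refine ⟨⟨g (.inl 1) (.inr 0), g (.inr 1) (.inr 0), g (.inl 0) (.inr 0),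
    ⟨!![g (.inl 1) (.inl 1), g (.inl 1) (.inr 1); g (.inr 1) (.inl 1), g (.inr 1) (.inr 1)], by
      rw [det_fin_two_of]; linear_combination (-1) * b1⟩⟩, ?_⟩
  simp only [mod_mat, ← Matrix.ext_iff, Sum.forall, Fin.forall_fin_two]
  simp [a1, a2, a3, a4, a5, a7, h1]
  constructor
  · linear_combination b2
  · linear_combination b3

theorem mod_cent (h2 : (2 : F) ≠ 0) {s : F} (hs : s ≠ 0) (g : Cfsg.PSp 2 F)
    (h : g * m mod_pm s 0 0 = m mod_pm s 0 0 * g) : ∃ x, mod_pm x = g := by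
  obtain ⟨g, rfl⟩ := QuotientGroup.mk_surjective g
  rw [m, mod_pm_apply, ← QuotientGroup.mk_mul, ← QuotientGroup.mk_mul] at h
  have hc : g.1 * mod_mat ⟨0, 0, s, xu 0⟩ = mod_mat ⟨0, 0, s, xu 0⟩ * g.1 := by
    rcases mod_mk h with e | e
    · exact e.symm
    · exfalso
      have e1 : mod_mat ⟨0, 0, s, xu 0⟩ = -(g.1 * mod_mat ⟨0, 0, s, xu 0⟩ * (g⁻¹).1) := by
        have : mod_mat ⟨0, 0, s, xu 0⟩ = mod_mat ⟨0, 0, s, xu 0⟩ * g.1 * (g⁻¹).1 := by
          rw [Matrix.mul_assoc, ← Submonoid.coe_mul, mul_inv_cancel]; simp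
        rw [← Matrix.neg_mul]
        refine this.trans ?_
        exact congrArg (· * (g⁻¹).1) e
      have e2 := congrArg Matrix.trace e1
      rw [trace_neg, trace_mul_cycle, ← Submonoid.coe_mul, inv_mul_cancel] at e2
      simp [mod_mat, trace] at e2
      exact pow_ne_zero 3 h2 (by linear_combination e2)
  have e := fun i j => congrFun (congrFun hc i) j
  have a1 := e (.inl 1) (.inr 0)
  have a2 := e (.inr 0) (.inr 0)
  have a3 := e (.inr 1) (.inr 0)
  have a6 := e (.inl 0) (.inr 0)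
  simp [mod_mat, Matrix.mul_apply, Fin.sum_univ_two, hs] at a1 a2 a3 a6
  have b := congrFun (congrFun (SymplecticGroup.mem_iff'.1 g.2) (.inl 0)) (.inr 0)
  have a7 : g.1 (.inr 0) (.inr 0) = g.1 (.inl 0) (.inl 0) := mul_left_cancel₀ hs (by linear_combination -a6)
  simp [J, Matrix.mul_apply, Fin.sum_univ_two, a1, a2, a3, a7] at b
  rcases mul_self_eq_one_iff.1 b with h4 | h4
  · obtain ⟨x, hx⟩ := mod_ex hs g.2 hc h4
    exact ⟨x, congrArg _ (Subtype.ext hx)⟩
  · obtain ⟨x, hx⟩ := mod_ex hs (SymplecticGroup.neg_mem g.2) (by simp [hc]) (by simp [h4])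
    refine ⟨x, ?_⟩
    have : (⟨mod_mat x, mod_mem x⟩ : symplecticGroup (Fin 2) F) = g * Symp.spNegOne _ _ :=
      Subtype.ext (by simp [hx, Symp.spNegOne])
    rw [mod_pm_apply, this, QuotientGroup.mk_mul,
      (QuotientGroup.eq_one_iff _).2 (Symp.spNegOne_mem_center _ _), mul_one]

end aux

variable {F : Type*} [Field F] [Fintype F]

theorem exists_model (hq : Fintype.card F % 4 = 3) : ∃ φ : Jac F →* Cfsg.PSp 2 F, Hay φ := by
  have h2 : (2 : F) ≠ 0 := SL2.two_ne_zero_of_odd (Nat.odd_iff.2 (by omega))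
  exact ⟨mod_pm, mod_inj h2, fun s hs => le_antisymm (fun g hg => mod_cent h2 hs g (mem_Cx.1 hg))
    fun g hg => mem_Cx.2 (C_comm_Z hg (m_mem_Z s)), hq⟩

theorem model (hq : Fintype.card F % 4 = 3) {p : ℕ} [Fact p.Prime] [CharP F p] {x : Cfsg.PSp 2 F}
    (hx : x ≠ 1) (U : Sylow p (Cfsg.PSp 2 F)) (hU : x ∈ (U : Subgroup (Cfsg.PSp 2 F)))
    (hc : ∀ u ∈ (U : Subgroup (Cfsg.PSp 2 F)), u * x = x * u) : Nonempty (Cx x ≃* Jac F) := by
  obtain ⟨φ, h⟩ := exists_model hq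
  obtain ⟨g, -, e⟩ := (IsSylowIn.of_sylow_top U).exists_cj_eq (h.syl_P p)
  have h1 : g * x * g⁻¹ ∈ sZ φ := h.center_P (P_le_C (e ▸ conj_mem_cj.2 hU)) fun v hv =>
    bas2_comm (hc _ (mem_cj.1 (e ▸ hv)))
  exact ⟨((cjEquiv g _).trans (MulEquiv.subgroupCongr ((cj_Cx g x).trans (h.cz h1 (by simpa using hx))))).trans
    (MonoidHom.ofInjective h.inj).symm⟩

end CfsgLib.Hay
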