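import Mathlib
import Cfsg.Agent.Lib.Hay.Bas2

/-! The conjugates of `Z` in `M`.  See `plans/HAY.md`. -/

set_option autoImplicit false

namespace CfsgLib.Hay

open Subgroup CfsgLib.W2 CfsgLib.Tech
open CfsgLib.GHA (xu hd wn xu_add xu_zero xu_neg hd_mul hd_one hd_inv)
open CfsgLib.Gold (ncl)
open scoped MatrixGroups

theorem sig1_relIndex {G : Type*} [Group G] {Q U H : Subgroup G} (h : Q ≤ U) (h1 : ∀ n ∈ U, ∃ a ∈ Q, a⁻¹ * n ∈ H) :
    H.relIndex U = H.relIndex Q :=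
  (Nat.card_congr (Equiv.ofBijective _ ⟨(quotientSubgroupOfEmbeddingOfLE H h).injective, fun x => by
    obtain ⟨n, rfl⟩ := QuotientGroup.mk_surjective x
    obtain ⟨a, ha, e⟩ := h1 n n.2
    exact ⟨(⟨a, ha⟩ : Q), QuotientGroup.eq.2 e⟩⟩)).symm

theorem sig1_mem_N {G : Type*} [Group G] {g n : G} {Z : Subgroup G} :
    n ∈ normalizer (cj g Z : Set G) ↔ g⁻¹ * n * g ∈ normalizer (Z : Set G) := by
  rw [← cj_normalizer, mem_cj]

namespace Hay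

variable {G : Type*} [Group G] [Finite G] {F : Type*} [Field F] [Fintype F] {φ : Jac F →* G} (h : Hay φ)
include h

theorem ti' {g g' u : G} (h1 : u ≠ 1) (hu : u ∈ cj g (sZ φ)) (hu' : u ∈ cj g' (sZ φ)) :
    cj g (sZ φ) = cj g' (sZ φ) := by
  have h2 := h.ti (g := g'⁻¹ * g) (mem_cj.1 hu) (fun e => h1 (by
    rw [show u = g * (g⁻¹ * u * g) * g⁻¹ by group, e]; group)) (by
      rw [show g'⁻¹ * g * (g⁻¹ * u * g) * (g'⁻¹ * g)⁻¹ = g'⁻¹ * u * g' by group]; exact mem_cj.1 hu')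
  rw [← mul_inv_cancel_left g' g, cj_mul, mem_normalizer_iff_cj.1 h2]

theorem sig1_Z {g u : G} (hn : cj g (sZ φ) ≠ sZ φ) (hu : u ∈ cj g (sZ φ)) (hu' : u ∈ sZ φ) : u = 1 :=
  by_contra fun e => hn ((h.ti' (g' := 1) e hu (by rwa [cj_one])).trans (cj_one _))

theorem sig1_comm {g n u : G} (e : g⁻¹ * n * g ∈ φ.range) (hu : u ∈ cj g (sZ φ)) : n * u = u * n := by
  have := C_comm_Z e (mem_cj.1 hu)
  calc n * u = g * (g⁻¹ * n * g * (g⁻¹ * u * g)) * g⁻¹ := by group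
    _ = u * n := by rw [this]; group

theorem free_y {g : G} (hM : cj g (sZ φ) ≤ sM φ) (hn : cj g (sZ φ) ≠ sZ φ) {d : F}
    (e : y φ d ∈ normalizer (cj g (sZ φ) : Set G)) : d = 0 := by
  obtain ⟨p, hp⟩ := CharP.exists F
  haveI : Fact p.Prime := ⟨CharP.char_is_prime F p⟩
  have h1 := h.p_NZ (p := p) (sig1_mem_N.1 e) (k := 1) (by
    rw [show g⁻¹ * y φ d * g = g⁻¹ * y φ d * g⁻¹⁻¹ by rw [inv_inv], conj_pow, pow_one, Q_pow (y_mem_Q d), mul_one,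
      mul_inv_cancel])
  by_contra hd
  refine hn (mem_normalizer_iff_cj.1 (mem_normalizer_of_cj_le fun u hu => h.cent_out (y_mem_P d) (fun e => hd ?_)
    (hM hu) (h.sig1_comm h1 hu)))
  exact (h.my_mem_M (s := 0) (c := 0) (b := 0)).1 (by simpa using e)

theorem f5 (hc : NC φ) {g : G} (hM : cj g (sZ φ) ≤ sM φ) (hn : cj g (sZ φ) ≠ sZ φ) {s c : F}
    (e : m φ s c 0 ∈ cj g (sZ φ)) : s = 0 ∧ c = 0 := by
  by_cases h0 : c = 0
  · subst h0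
    exact ⟨(h.m_eq_one.1 (h.sig1_Z hn e (m_mem_Z s))).1, rfl⟩
  exfalso
  have h2 := h.two_ne
  obtain ⟨g', h3, h4⟩ : ∃ g', cj g' (sZ φ) ≤ sM φ ∧ m φ 0 c 0 ∈ cj g' (sZ φ) := by
    refine ⟨y φ (s / (2 * c)) * g, ?_, ?_⟩
    · rw [cj_mul, ← mem_normalizer_iff_cj.1 (B_le_NM (P_le_B (y_mem_P (φ := φ) (s / (2 * c)))))]
      exact cj_mono _ hM
    · have := (conj_mem_cj (g := y φ (s / (2 * c)))).2 e
      rw [y_conj, ← cj_mul] at this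
      convert this using 2
      · field_simp; ring
      · ring
  have h5 : cj (t φ * g') (sZ φ) = cj g' (sZ φ) := by
    refine h.ti' (u := m φ 0 (-c) 0) (by simpa [h.m_eq_one] using h0) ?_ (by simpa [m_inv] using inv_mem h4)
    rw [cj_mul, ← t_conj_m]
    exact conj_mem_cj.2 h4
  have h6 := h.inverts (f := g'⁻¹ * t φ * g') (sig1_mem_N.1 (mem_normalizer_iff_cj.2 (by rw [← cj_mul, h5])))
    (fun e => by
      have h7 := t_conj_m φ 0 c 0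
      rw [h.sig1_comm e h4, mul_inv_cancel_right, h.m_inj] at h7
      exact h0 ((mul_eq_zero.1 (by linear_combination h7.2.1 : 2 * c = 0)).resolve_left h2))
    (by rw [show g'⁻¹ * t φ * g' * (g'⁻¹ * t φ * g') = g'⁻¹ * (t φ * t φ) * g' by group, t_mul_t, mul_one,
      inv_mul_cancel]; exact one_mem _)
  have h7 : ∀ s : F, s ≠ 0 → ∃ c : F, c ≠ 0 ∧ m φ 0 c 0 = g' * m φ s 0 0 * g'⁻¹ := fun s hs => by
    obtain ⟨c, e⟩ := mem_R.1 (h.mem_R_of_inv (h3 (conj_mem_cj.2 (m_mem_Z s))) (by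
      calc _ = g' * (g'⁻¹ * t φ * g' * m φ s 0 0 * (g'⁻¹ * t φ * g')⁻¹) * g'⁻¹ := by group
        _ = _ := by rw [h6 _ (m_mem_Z s)]; group))
    refine ⟨c, fun e' => hs (h.m_eq_one.1 (?_ : m φ s 0 0 = 1)).1, e⟩
    rw [e', m_zero, eq_comm, mul_inv_eq_one, mul_eq_left] at e
    exact e
  obtain ⟨s1, s2, e1, e2, e3⟩ := hc
  obtain ⟨c1, f1, f2⟩ := h7 s1 e1
  obtain ⟨c2, f3, f4⟩ := h7 s2 e2
  refine e3 (g'⁻¹ * hh φ (Units.mk0 (c2 / c1) (div_ne_zero f3 f1)) * g') ?_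
  calc _ = g'⁻¹ * (hh φ (Units.mk0 (c2 / c1) (div_ne_zero f3 f1)) * (g' * m φ s1 0 0 * g'⁻¹) *
        (hh φ (Units.mk0 (c2 / c1) (div_ne_zero f3 f1)))⁻¹) * g' := by group
    _ = _ := by
      rw [← f2, hh_conj_m, Units.val_mk0, div_mul_cancel₀ _ f1, mul_zero, f4]; group

theorem exists_V (hc : NC φ) {g : G} (hM : cj g (sZ φ) ≤ sM φ) (hn : cj g (sZ φ) ≠ sZ φ) :
    ∃ d, cj (y φ d * g) (sZ φ) ≤ sV φ := by
  have h1 : g * m φ 1 0 0 * g⁻¹ ∈ cj g (sZ φ) := conj_mem_cj.2 (m_mem_Z 1)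
  obtain ⟨s, c, b, e⟩ := mem_M.1 (hM h1)
  have hb : b ≠ 0 := fun hb => by
    subst hb
    obtain ⟨rfl, rfl⟩ := h.f5 hc hM hn (e ▸ h1)
    rw [m_zero, eq_comm, mul_inv_eq_one, mul_eq_left] at e
    exact h.one_mem_ne e
  refine ⟨c / b, h.f2V (m_mem_Z 1) h.one_mem_ne ?_⟩
  rw [show y φ (c / b) * g * m φ 1 0 0 * (y φ (c / b) * g)⁻¹ =
    y φ (c / b) * (g * m φ 1 0 0 * g⁻¹) * (y φ (c / b))⁻¹ by group, ← e, y_conj, mul_div_cancel₀ _ hb, sub_self]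
  exact m_mem_V _ _

theorem sig1_graph {g : G} (hV : cj g (sZ φ) ≤ sV φ) (hn : cj g (sZ φ) ≠ sZ φ) (b : F) :
    ∃ s, m φ s 0 b ∈ cj g (sZ φ) := by
  choose σ β e using fun s : F => mem_V.1 (hV (conj_mem_cj.2 (m_mem_Z (φ := φ) s)))
  have h1 : Function.Injective β := fun s s' e' => by
    have h2 : m φ (σ s + -σ s') 0 0 = g * m φ (s + -s') 0 0 * g⁻¹ := by
      have h3 : m φ (σ s) 0 (β s) * (m φ (σ s') 0 (β s'))⁻¹ = g * (m φ s 0 0 * (m φ s' 0 0)⁻¹) * g⁻¹ := by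
        rw [e, e]; group
      simpa [m_inv, m_mul, e'] using h3
    have h3 := h.sig1_Z hn (u := m φ (σ s + -σ s') 0 0) (by rw [h2]; exact conj_mem_cj.2 (m_mem_Z _)) (m_mem_Z _)
    rw [h2, mul_inv_eq_one, mul_eq_left, h.m_eq_one] at h3
    exact add_neg_eq_zero.1 h3.1
  obtain ⟨s, rfl⟩ := Finite.surjective_of_injective h1 b
  exact ⟨σ s, e s ▸ conj_mem_cj.2 (m_mem_Z s)⟩

theorem unique_V {g : G} (hV : cj g (sZ φ) ≤ sV φ) (hn : cj g (sZ φ) ≠ sZ φ) {d : F}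
    (e : cj (y φ d * g) (sZ φ) ≤ sV φ) : d = 0 := by
  obtain ⟨s, hs⟩ := h.sig1_graph hV hn 1
  rw [cj_mul] at e
  obtain ⟨s', b', e'⟩ := mem_V.1 (e (conj_mem_cj.2 hs))
  rw [y_conj, h.m_inj] at e'
  linear_combination e'.2.1

theorem graph {g : G} (hV : cj g (sZ φ) ≤ sV φ) (hn : cj g (sZ φ) ≠ sZ φ) (b : F) :
    ∃ s, m φ s 0 b ∈ cj g (sZ φ) := h.sig1_graph hV hn b

theorem free_T {g : G} (hV : cj g (sZ φ) ≤ sV φ) (hn : cj g (sZ φ) ≠ sZ φ) {a : Fˣ} (ha : a ^ 2 ≠ 1)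
    (e : hh φ a ∈ normalizer (cj g (sZ φ) : Set G)) : cj g (sZ φ) = sX φ := by
  refine (eq_of_le_of_card_ge (fun u hu => ?_) (by rw [card_cj, h.card_Z, h.card_X])).symm
  obtain ⟨b, rfl⟩ := mem_X.1 hu
  have h1 : (a : F) ^ 2 - 1 ≠ 0 := fun e => ha (Units.ext (by simpa using sub_eq_zero.1 e))
  obtain ⟨s, hs⟩ := h.graph hV hn (b / (a ^ 2 - 1))
  have h2 := mul_mem ((mem_normalizer_iff.1 e _).1 hs) (inv_mem hs)
  rw [hh_conj_m, m_inv, m_mul] at h2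
  convert h2 using 2
  · ring
  · ring
  · field_simp; ring

theorem faithful_T {g : G} (hV : cj g (sZ φ) ≤ sV φ) (hn : cj g (sZ φ) ≠ sZ φ) {a : Fˣ}
    (e : hh φ (a ^ 2) ∈ centralizer (cj g (sZ φ) : Set G)) : a ^ 2 = 1 := by
  obtain ⟨s, hs⟩ := h.graph hV hn 1
  have h1 := hh_conj_m φ (a ^ 2) s 0 1
  rw [← e _ hs, mul_inv_cancel_right, h.m_inj, Units.val_pow_eq_pow_val] at h1
  have h2 : ((a : F) ^ 2 - 1) * (a ^ 2 + 1) = 0 := by linear_combination -h1.2.2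
  refine Units.ext ?_
  rw [Units.val_pow_eq_pow_val]
  exact sub_eq_zero.1 ((mul_eq_zero.1 h2).resolve_right fun e => h.neg_one_nonsq a (eq_neg_of_add_eq_zero_left e))

theorem idx_ne (hc : NC φ) : φ.range.relIndex (normalizer (sZ φ : Set G)) ≠ Fintype.card F - 1 := by
  intro e
  obtain ⟨s, s', h1, h2, h3⟩ := hc
  obtain ⟨n, -, e'⟩ := trans_of_semireg (A := sZ φ) le_rfl (fun a ha h4 => by
    rw [h.cZ, h.cz ha h4]; exact inf_le_right) (by rw [h.cZ, h.card_Z, e]) (m_mem_Z s)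
    (by simpa [h.m_eq_one] using h1) (m_mem_Z s') (by simpa [h.m_eq_one] using h2)
  exact h3 n e'

theorem idx_t : (Cx (t φ)).relIndex (normalizer (sM φ : Set G) ⊓ normalizer (sZ φ : Set G)) =
    Fintype.card F ^ 2 := by
  rw [sig1_relIndex (Q := sQ φ) (le_inf (Q_le_P.trans (P_le_B.trans B_le_NM)) (Q_le_C.trans C_le_NZ)) fun n hn => ?_]
  · have h1 := Core.card_inf_mul_relIndex (Cx (t φ)) (sQ φ)
    rw [inf_comm, h.Q_inf_H, h.card_Z, h.card_Q, pow_succ'] at h1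
    exact Nat.eq_of_mul_eq_mul_left Fintype.card_pos h1
  · obtain ⟨a, ha, e⟩ := h.invol (f := n * t φ * n⁻¹)
      ((mem_normalizer_iff.1 (h.NZ_eq ▸ hn.2) _).1 (L_le_C t_mem_L))
      (by rw [conj_mul, t_mul_t, mul_one, mul_inv_cancel])
      (by rw [Ne, mul_inv_eq_one, mul_eq_left]; exact h.t_ne_one)
    refine ⟨a, ha, mem_Cx'.2 ?_⟩
    calc _ = a⁻¹ * (n * t φ * n⁻¹) * a := by group
      _ = _ := by rw [← e]; group


end Hay

end CfsgLib.Hay
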