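import Mathlib
import Cfsg.Agent.Lib.Hay.Sig1
import Cfsg.Agent.Lib.PSL2Rec.Main

/-! The action of `N(M)` on the projective line.  See `plans/HAY.md`. -/

set_option autoImplicit false

namespace CfsgLib.Hay

open Subgroup CfsgLib.W2 CfsgLib.Tech
open CfsgLib.GHA (xu hd wn xu_add xu_zero xu_neg hd_mul hd_one hd_inv)
open CfsgLib.Gold (ncl)
open scoped MatrixGroups OnePoint

/-- the points of the projective line -/
def pt {G : Type*} [Group G] {F : Type*} [Field F] (φ : Jac F →* G) (w : G) (x : OnePoint F) : Subgroup G :=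
  OnePoint.rec (sZ φ) (fun d => cj (y φ d * w) (sZ φ)) x

namespace Two

variable {G : Type*} [Group G] [Finite G] {F : Type*} [Field F] [Fintype F] {φ : Jac F →* G} {w : G}
  (h : Two φ w)
include h

theorem w_inv : w⁻¹ = w := inv_eq_of_mul_eq_one_right h.ww
theorem le_V : cj w (sZ φ) ≤ sV φ := by
  rw [← h.hay.M_inf_H]
  exact cj_le_iff.2 fun x hx => mem_inf.2 ⟨conj_mem_of_mem_normalizer h.wM (Z_le_M hx),
    mul_mem (mul_mem h.wt (V_le_H (Z_le_V hx))) (inv_mem h.wt)⟩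
theorem ne_Z : cj w (sZ φ) ≠ sZ φ := fun e => h.wZ (mem_normalizer_iff_cj.2 e)
theorem omega {g : G} (e : cj g (sZ φ) ≤ sV φ) : cj g (sZ φ) = sZ φ ∨ cj g (sZ φ) = cj w (sZ φ) :=
  (h.sig g (e.trans V_le_M)).imp_right fun ⟨d, e1⟩ => by
    rw [e1, h.hay.unique_V h.le_V h.ne_Z (d := d) (e1 ▸ e), y_zero, one_mul]
theorem ne_Z' {c : G} (hc : c ∈ normalizer (sZ φ : Set G)) : cj (c * w) (sZ φ) ≠ sZ φ := fun e =>
  h.wZ ((mul_mem_cancel_left hc).1 (mem_normalizer_iff_cj.2 e))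
theorem T_le : sT φ ≤ normalizer (cj w (sZ φ) : Set G) := fun a ha => by
  rw [mem_normalizer_iff_cj, ← cj_mul]
  refine (h.omega ?_).resolve_left (h.ne_Z' (C_le_NZ (L_le_C (T_le_L ha))))
  rw [cj_mul, ← mem_normalizer_iff_cj.1 (h.hay.mem_NV (B_le_NM (T_le_B ha)) (L_le_H (T_le_L ha)))]
  exact cj_mono _ h.le_V
theorem T'_le : cj w (sT φ) ≤ normalizer (sZ φ : Set G) := by
  have := cj_mono w h.T_le
  rwa [cj_normalizer, ← cj_mul, h.ww, cj_one] at this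

omit h in
theorem y_mem_N (d : F) : y φ d ∈ normalizer (sM φ : Set G) := B_le_NM (P_le_B (y_mem_P d))

omit h in
theorem hh_mem_N (a : Fˣ) : hh φ a ∈ normalizer (sM φ : Set G) := B_le_NM (T_le_B (hh_mem_T a))

theorem pt_inj : Function.Injective (pt φ w) := fun x x' e => by
  have hy : ∀ d, y φ d ∈ normalizer (sZ φ : Set G) := fun d => C_le_NZ (P_le_C (y_mem_P d))
  induction x using OnePoint.rec <;> induction x' using OnePoint.rec
  · rfl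
  · exact absurd e.symm (h.ne_Z' (hy _))
  · exact absurd e (h.ne_Z' (hy _))
  · rename_i d d'
    have := h.hay.free_y (h.le_V.trans V_le_M) h.ne_Z (d := -d' + d) (by
      rw [mem_normalizer_iff_cj, ← y_mul, cj_mul, ← cj_mul (y φ d), show cj (y φ d * w) _ = _ from e, ← y_inv,
        show pt φ w d' = cj (y φ d' * w) (sZ φ) from rfl, cj_mul, cj_inv_cj])
    rw [neg_add_eq_zero.1 this]

theorem pt_le (x : OnePoint F) : ∃ g, pt φ w x = cj g (sZ φ) ∧ cj g (sZ φ) ≤ sM φ := by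
  induction x using OnePoint.rec
  · exact ⟨1, (cj_one _).symm, by rw [cj_one]; exact Z_le_M⟩
  · exact ⟨_, rfl, cj_le_iff.2 fun x hx => conj_mem_of_mem_normalizer (mul_mem (y_mem_N _) h.wM) (Z_le_M hx)⟩

theorem exists_act : ∃ ρ : normalizer (sM φ : Set G) →* Equiv.Perm (OnePoint F),
    ∀ n x x', ρ n x = x' ↔ cj (n : G) (pt φ w x) = pt φ w x' := by
  have : ∀ (n : normalizer (sM φ : Set G)) x, ∃ x', pt φ w x' = cj (n : G) (pt φ w x) := fun n x => by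
    obtain ⟨g, e, hg⟩ := h.pt_le x
    rw [e, ← cj_mul]
    rcases h.sig (n * g) (by rw [cj_mul]; exact (cj_mono _ hg).trans (mem_normalizer_iff_cj.1 n.2).le) with e | ⟨d, e⟩
    exacts [⟨∞, e.symm⟩, ⟨d, e.symm⟩]
  choose f hf using this
  let _ : MulAction (normalizer (sM φ : Set G)) (OnePoint F) :=
    { smul := f
      one_smul := fun x => h.pt_inj ((hf 1 x).trans (cj_one _))
      mul_smul := fun a b x => h.pt_inj ((hf _ x).trans (by
        rw [coe_mul, cj_mul, ← hf b x]; exact (hf a _).symm)) }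
  exact ⟨MulAction.toPermHom _ _, fun n x x' => by rw [← hf, h.pt_inj.eq_iff]; rfl⟩

section act

variable {ρ : normalizer (sM φ : Set G) →* Equiv.Perm (OnePoint F)}
  (hρ : ∀ n x x', ρ n x = x' ↔ cj (n : G) (pt φ w x) = pt φ w x')
include hρ

omit h in
theorem act_inf {n : normalizer (sM φ : Set G)} : ρ n ∞ = ∞ ↔ (n : G) ∈ normalizer (sZ φ : Set G) :=
  (hρ n ∞ ∞).trans mem_normalizer_iff_cj.symm

theorem act_M {n : normalizer (sM φ : Set G)} (hn : (n : G) ∈ sM φ) : ρ n = 1 := Equiv.ext fun x => by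
  obtain ⟨g, e, hg⟩ := h.pt_le x
  rw [Equiv.Perm.one_apply, hρ, e, ← mem_normalizer_iff_cj]
  exact mem_normalizer_of_forall fun u hu => by rwa [M_comm hn (hg hu), mul_inv_cancel_right]

omit h in
theorem act_y (b d : F) : ρ ⟨_, y_mem_N b⟩ d = (b + d : F) :=
  (hρ _ _ _).2 ((cj_mul _ _ _).symm.trans (by rw [← mul_assoc, y_mul]; rfl))

theorem act_hh (a : Fˣ) (d : F) : ρ ⟨_, hh_mem_N a⟩ d = ((a : F)⁻¹ * d : F) :=
  (hρ _ _ _).2 ((cj_mul _ _ _).symm.trans (by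
    show _ = cj _ _
    rw [← hh_conj_y, ← mul_assoc, cj_mul, cj_mul _ w, cj_mul _ _⁻¹,
      mem_normalizer_iff_cj.1 (inv_mem (h.T_le (hh_mem_T a)))]))

theorem act_B {n : normalizer (sM φ : Set G)} (hn : (n : G) ∈ φ.range) :
    ∃ u ∈ sM φ, ∃ d a, n = u * y φ d * hh φ a ∧ ∀ x : F, ρ n x = (d + (a : F)⁻¹ * x : F) := by
  obtain ⟨_, hu, a, e⟩ := mem_B.1 (h.hay.mem_B_of_NM hn n.2)
  obtain ⟨s, c, b, d, rfl⟩ := mem_P.1 hu
  refine ⟨_, m_mem_M s c b, d, a, e.symm, fun x => ?_⟩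
  rw [show n = ⟨_, le_normalizer (m_mem_M s c b)⟩ * ⟨_, y_mem_N d⟩ * ⟨_, hh_mem_N a⟩ from Subtype.ext e.symm,
    map_mul, map_mul, h.act_M hρ (m_mem_M s c b), one_mul, Equiv.Perm.mul_apply, h.act_hh hρ, act_y hρ]

/-- an element of `N(Z) ∩ N(M)` centralising `w Z w⁻¹` acts as a multiplication -/
theorem act_tau {τ : normalizer (sM φ : Set G)} (h1 : (τ : G) ∈ normalizer (sZ φ : Set G))
    (h2 : (τ : G) ∈ centralizer (cj w (sZ φ) : Set G)) : ∃ a, ρ τ = ρ ⟨_, hh_mem_N a⟩ := by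
  have t0 : ρ τ (0 : F) = (0 : F) := (hρ _ _ _).2 (by
    show cj _ (cj _ _) = cj _ _
    rw [y_zero, one_mul]
    exact mem_normalizer_iff_cj.1 (centralizer_le_normalizer _ h2))
  have : ∀ d, ∃ d' : F, ∀ x : F, ρ (τ * ⟨_, y_mem_N d⟩ * τ⁻¹) x = (d' + x : F) := fun d => by
    obtain ⟨s, c, b, d', e⟩ := mem_P.1 (conj_mem_of_mem_normalizer (h.hay.mem_NP h1 τ.2) (y_mem_P d))
    refine ⟨d', fun x => ?_⟩
    rw [show τ * ⟨_, y_mem_N d⟩ * τ⁻¹ = ⟨_, le_normalizer (m_mem_M s c b)⟩ * ⟨_, y_mem_N d'⟩ from Subtype.ext e.symm,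
      map_mul, h.act_M hρ (m_mem_M s c b), one_mul, act_y hρ]
  choose θ hθ using this
  have k1 : ∀ d x x' : F, ρ τ x = x' → ρ τ (d + x : F) = (θ d + x' : F) := fun d x x' e => by
    rw [← hθ, ← e, map_mul, map_mul, map_inv, ← act_y hρ]; simp
  have k2 : ∀ d : F, ρ τ d = θ d := fun d => by simpa using k1 d 0 0 t0
  have add : ∀ d x, θ (d + x) = θ d + θ x := fun d x => OnePoint.coe_injective ((k2 _).symm.trans (k1 d x _ (k2 x)))
  have θ0 : θ 0 = 0 := OnePoint.coe_injective ((k2 0).symm.trans t0)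
  have sgn : ∀ μ : Fˣ, ∃ ε : F, ε * ε = 1 ∧ ∀ d, θ (μ * d) = ε * μ * θ d := fun μ => by
    have hC : (τ : G) * hh φ μ⁻¹ * (τ : G)⁻¹ * (hh φ μ⁻¹)⁻¹ ∈ φ.range :=
      mul_mem (conj_mem_of_mem_normalizer (h.hay.NZ_eq ▸ h1) (L_le_C (l_mem_L _))) (inv_mem (L_le_C (l_mem_L _)))
    obtain ⟨s, hs⟩ := h.hay.graph h.le_V h.ne_Z 1
    have h3 : (τ : G) * hh φ μ⁻¹ * (τ : G)⁻¹ * (hh φ μ⁻¹)⁻¹ ∈ centralizer (cj w (sZ φ) : Set G) := by
      rw [mul_assoc, mul_assoc, ← mul_assoc (hh φ μ⁻¹)]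
      refine mul_mem h2 fun u hu => ?_
      have := inv_mem h2 _ (conj_mem_of_mem_normalizer' (h.T_le (hh_mem_T μ⁻¹)) hu)
      calc _ = hh φ μ⁻¹ * ((hh φ μ⁻¹)⁻¹ * u * hh φ μ⁻¹ * (τ : G)⁻¹) * (hh φ μ⁻¹)⁻¹ := by group
        _ = _ := by rw [this]; group
    have k3 : ∀ (ε : Fˣ) d, (τ : G) * hh φ μ⁻¹ * (τ : G)⁻¹ * (hh φ μ⁻¹)⁻¹ * hh φ ε ∈ sM φ →
        θ (μ * d) = ε * μ * θ d := fun ε d e => by
      have e1 := h.act_M hρ (n := τ * ⟨_, hh_mem_N μ⁻¹⟩ * τ⁻¹ * ⟨_, hh_mem_N μ⁻¹⟩⁻¹ * ⟨_, hh_mem_N ε⟩) e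
      rw [map_mul, mul_eq_one_iff_eq_inv, ← map_inv, map_mul, map_mul, map_inv, map_inv, mul_inv_eq_iff_eq_mul,
        mul_inv_eq_iff_eq_mul, map_mul,
        show (⟨_, hh_mem_N ε⟩ : normalizer (sM φ : Set G))⁻¹ = ⟨_, hh_mem_N ε⁻¹⟩ from Subtype.ext (hh_inv φ ε)] at e1
      have e2 := congrArg (fun σ : Equiv.Perm (OnePoint F) => σ d) e1
      simp only [Equiv.Perm.mul_apply, h.act_hh hρ, k2, OnePoint.coe_eq_coe] at e2
      simpa [mul_assoc] using e2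
    rcases h.hay.cent_x hC one_ne_zero (mem_Cx.2 (h3 _ hs).symm) with e | e
    · exact ⟨1, one_mul 1, fun d => k3 1 d (by rwa [hh_one, mul_one])⟩
    · exact ⟨-1, by ring, fun d => by simpa using k3 (-1) d (by rwa [hh_neg_one])⟩
  have sq : ∀ μ d, θ (μ * μ * d) = μ * μ * θ d := fun μ d => by
    by_cases h0 : μ = 0
    · simp [h0, θ0]
    · obtain ⟨ε, e1, e2⟩ := sgn (Units.mk0 μ h0)
      simp only [Units.val_mk0] at e2
      have := e2 (μ * d)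
      rw [e2 d] at this
      rw [mul_assoc]
      linear_combination (exp := 1) this + μ * μ * θ d * e1
  have lin : ∀ x, θ x = x * θ 1 := fun x => by
    have e1 := add x ((x - 1) / 2 * ((x - 1) / 2) * 1)
    have e2 := h.hay.two_ne
    rw [show x + (x - 1) / 2 * ((x - 1) / 2) * 1 = (x + 1) / 2 * ((x + 1) / 2) * 1 by field_simp; ring, sq, sq] at e1
    have e3 : (x + 1) / 2 * ((x + 1) / 2) = x + (x - 1) / 2 * ((x - 1) / 2) := by field_simp; ring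
    linear_combination θ 1 * e3 - e1
  have θ1 : θ 1 ≠ 0 := fun e => one_ne_zero (OnePoint.coe_injective ((ρ τ).injective
    ((k2 1).trans (e ▸ t0.symm))) : (1 : F) = 0)
  refine ⟨(Units.mk0 _ θ1)⁻¹, Equiv.ext fun x => ?_⟩
  induction x using OnePoint.rec
  · rw [(act_inf hρ).2 h1, (act_inf hρ).2 (C_le_NZ (L_le_C (l_mem_L _)))]
  · rw [k2, h.act_hh hρ, lin, mul_comm]; simp

theorem act_NZ {n : normalizer (sM φ : Set G)} (hn : (n : G) ∈ normalizer (sZ φ : Set G)) :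
    ∃ b : normalizer (sM φ : Set G), (b : G) ∈ φ.range ∧ ρ b = ρ n := by
  obtain ⟨c, hc, a, e⟩ := h.nz n hn
  have h1 : w * hh φ (a ^ 2) * w⁻¹ ∈ normalizer (sM φ : Set G) := mul_mem (mul_mem h.wM (hh_mem_N _)) (inv_mem h.wM)
  have h2 : c ∈ normalizer (sM φ : Set G) := (mul_mem_cancel_right h1).1 (e ▸ n.2)
  obtain ⟨a', e'⟩ := h.act_tau hρ (τ := ⟨_, h1⟩) (h.T'_le (conj_mem_cj.2 (hh_mem_T _))) (by
    rw [← cj_centralizer, h.hay.cZ]
    exact conj_mem_cj.2 (L_le_C (l_mem_L _)))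
  exact ⟨⟨c, h2⟩ * ⟨_, hh_mem_N a'⟩, mul_mem hc (L_le_C (l_mem_L _)), by
    rw [map_mul, ← e', ← map_mul]; exact congrArg ρ (Subtype.ext e.symm)⟩

end act

theorem idx_N : (normalizer (sZ φ : Set G)).relIndex (normalizer (sM φ : Set G)) = Fintype.card F + 1 := by
  obtain ⟨ρ, hρ⟩ := h.exists_act
  let _ := MulAction.compHom (OnePoint F) ρ
  have h1 : ∀ x, ∃ n, ρ n ∞ = x := fun x => by
    induction x using OnePoint.rec
    exacts [⟨1, by simp⟩, ⟨⟨_, mul_mem (y_mem_N _) h.wM⟩, (hρ _ _ _).2 rfl⟩]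
  have : MulAction.IsPretransitive (normalizer (sM φ : Set G)) (OnePoint F) := ⟨fun x x' => by
    obtain ⟨n, rfl⟩ := h1 x
    obtain ⟨n', rfl⟩ := h1 x'
    exact ⟨n' * n⁻¹, show ρ (n' * n⁻¹) _ = _ by simp⟩⟩
  have h2 := MulAction.index_stabilizer_of_transitive (normalizer (sM φ : Set G)) (∞ : OnePoint F)
  rw [show MulAction.stabilizer (normalizer (sM φ : Set G)) (∞ : OnePoint F) =
    (normalizer (sZ φ : Set G)).subgroupOf _ from Subgroup.ext fun n => act_inf hρ] at h2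
  exact h2.trans (Finite.card_option.trans (by rw [Nat.card_eq_fintype_card]))

theorem exists_pgl' : ∃ π : normalizer (sM φ : Set G) →* Matrix.ProjGenLinGroup (Fin 2) F,
    Function.Surjective π ∧ (∀ n, π n = 1 → (n : G) ∈ normalizer (sZ φ : Set G)) ∧
      (∀ n : normalizer (sM φ : Set G), (n : G) ∈ sM φ ↔ π n = 1 ∧ (n : G) ∈ φ.range) ∧
      ∀ n : normalizer (sM φ : Set G), (n : G) ∈ normalizer (sZ φ : Set G) →
        ∃ b : normalizer (sM φ : Set G), (b : G) ∈ φ.range ∧ π b = π n := by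
  obtain ⟨ρ, hρ⟩ := h.exists_act
  have A : PSL2Rec.AffLine ρ.range F := ⟨fun g hg => Subtype.ext (Equiv.ext hg), fun b =>
    ⟨⟨_, ⟨_, y_mem_N b⟩, rfl⟩, (act_inf hρ).2 (C_le_NZ (P_le_C (y_mem_P b))), fun x => add_comm b x ▸ act_y hρ b x⟩, ?_,
    ⟨⟨_, ⟨w, h.wM⟩, rfl⟩, fun e => h.wZ ((act_inf hρ).1 e)⟩⟩
  · obtain ⟨ι⟩ := A.iso_pgl (eq_top_iff.2 fun a _ => ⟨⟨_, ⟨_, hh_mem_N a⁻¹⟩, rfl⟩,
      (act_inf hρ).2 (C_le_NZ (L_le_C (l_mem_L _))), fun x => (h.act_hh hρ a⁻¹ x).trans (by simp)⟩)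
      fun e => absurd e h.hay.two_ne
    have k : ∀ a b, ι.toMonoidHom.comp ρ.rangeRestrict a = ι.toMonoidHom.comp ρ.rangeRestrict b ↔ ρ a = ρ b :=
      fun a b => ι.injective.eq_iff.trans Subtype.ext_iff
    have k1 : ∀ a, ι.toMonoidHom.comp ρ.rangeRestrict a = 1 ↔ ρ a = 1 := fun a => by
      rw [← map_one ρ, ← k, map_one]
    refine ⟨_, ι.surjective.comp ρ.rangeRestrict_surjective, fun n e => (act_inf hρ).1 (by rw [(k1 n).1 e]; rfl),
      fun n => ⟨fun hn => ⟨(k1 n).2 (h.act_M hρ hn), M_le_C hn⟩, fun ⟨h1, h2⟩ => ?_⟩,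
      fun n hn => (h.act_NZ hρ hn).imp fun b hb => ⟨hb.1, (k _ _).2 hb.2⟩⟩
    obtain ⟨u, hu, d, a, e, h3⟩ := h.act_B hρ h2
    rw [(k1 n).1 h1] at h3
    have e0 : d = 0 := by simpa using (h3 0).symm
    have e1 : a = 1 := Units.ext (by simpa [e0] using (h3 1).symm)
    rwa [e, e0, e1, y_zero, hh_one, mul_one, mul_one]
  · rintro ⟨_, n, rfl⟩ e
    obtain ⟨b, hb, e1⟩ := h.act_NZ hρ ((act_inf hρ).1 e)
    obtain ⟨-, -, d, a, -, h3⟩ := h.act_B hρ hb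
    exact ⟨_, d, inv_ne_zero a.ne_zero, fun x => add_comm d _ ▸ (show ρ n x = _ from e1 ▸ h3 x)⟩

theorem exists_pgl : ∃ π : normalizer (sM φ : Set G) →* Matrix.ProjGenLinGroup (Fin 2) F,
    Function.Surjective π ∧ (∀ n, π n = 1 → (n : G) ∈ normalizer (sZ φ : Set G)) ∧
      ∀ n : normalizer (sM φ : Set G), (n : G) ∈ sM φ ↔ π n = 1 ∧ (n : G) ∈ φ.range :=
  h.exists_pgl'.imp fun _ e => ⟨e.1, e.2.1, e.2.2.1⟩

end Two

end CfsgLib.Hay
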