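import Mathlib
import Cfsg.Agent.Lib.Hay.Pgl1
import Cfsg.Agent.Lib.Coprime.Gaschutz
import Cfsg.Agent.Lib.Dickson.Subfield
import Cfsg.Agent.Lib.Transfer.Cocycle

/-! The complement of `M` in `N(M)`.  See `plans/HAY.md`. -/

set_option autoImplicit false
set_option linter.dupNamespace false

namespace CfsgLib.Hay

open Subgroup CfsgLib.W2 CfsgLib.Tech
open CfsgLib.GHA (xu hd wn xu_add xu_zero xu_neg hd_mul hd_one hd_inv)
open CfsgLib.Gold (ncl)
open scoped MatrixGroups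

variable {G : Type*} [Group G] [Finite G] {F : Type*} [Field F] [Fintype F] {φ : Jac F →* G} {w : G}

/-- `N(Z) / C` is cyclic of order `(q - 1) / 2` -/
theorem Two.exists_chi (h : Two φ w) :
    ∃ χ : normalizer (sZ φ : Set G) →* Multiplicative (ZMod ((Fintype.card F - 1) / 2)),
      (∀ n, χ n = 1 ↔ (n : G) ∈ φ.range) ∧ ∀ x, ∃ n, χ n = x ∧ (n : G) ∈ normalizer (sM φ : Set G) := by
  have : (φ.range.subgroupOf (normalizer (sZ φ : Set G))).Normal :=
    normal_subgroupOf_of_le_normalizer h.hay.NZ_eq.le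
  have hm : ∀ a : Fˣ, w * hh φ (a ^ 2) * w⁻¹ ∈ normalizer (sZ φ : Set G) := fun a =>
    h.T'_le (conj_mem_cj.2 (hh_mem_T _))
  let ψ : Fˣ →* _ ⧸ φ.range.subgroupOf (normalizer (sZ φ : Set G)) := (QuotientGroup.mk' _).comp
    (MonoidHom.mk' (fun a => ⟨_, hm a⟩) fun a b => Subtype.ext (by simp [mul_pow, ← hh_mul]))
  have sj : Function.Surjective ψ := fun x => by
    obtain ⟨n, rfl⟩ := QuotientGroup.mk_surjective x
    obtain ⟨c, hc, a, e⟩ := h.nz n n.2
    rw [show n = ⟨c, C_le_NZ hc⟩ * ⟨_, hm a⟩ from Subtype.ext e, QuotientGroup.mk_mul,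
      (QuotientGroup.eq_one_iff _).2 (show (⟨c, C_le_NZ hc⟩ : normalizer (sZ φ : Set G)) ∈ φ.range.subgroupOf _ from hc),
      one_mul]
    exact ⟨a, rfl⟩
  have kr : ψ.ker = zpowers (-1) := Subgroup.ext fun a => by
    rw [MonoidHom.mem_ker, show ψ a = 1 ↔ w * hh φ (a ^ 2) * w⁻¹ ∈ φ.range from QuotientGroup.eq_one_iff _]
    refine ⟨fun e => ?_, fun e => ?_⟩
    · have := h.hay.faithful_T h.le_V h.ne_Z (a := a) (by
        rw [← cj_centralizer, h.hay.cZ, mem_cj, h.w_inv]; rwa [h.w_inv] at e)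
      rcases (Units.eq_or_eq_neg_of_sq_eq_sq a 1 (by rw [this, one_pow])) with rfl | rfl
      exacts [one_mem _, mem_zpowers _]
    · rcases mem_zp (by simp) e with rfl | rfl <;> simp
  have h2 : orderOf (-1 : Fˣ) = 2 := ord_two (by simp) fun e =>
    h.hay.two_ne (by have := congrArg Units.val e; simp only [Units.val_neg, Units.val_one] at this; linear_combination -this)
  have h3 := ψ.ker.card_mul_index
  rw [index_ker, MonoidHom.range_eq_top.2 sj, card_top, kr, Nat.card_zpowers, h2, Nat.card_units,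
    Nat.card_eq_fintype_card (α := F)] at h3
  have ι := zmodCyclicMulEquiv (isCyclic_of_surjective ψ sj)
  rw [show Nat.card _ = (Fintype.card F - 1) / 2 by omega] at ι
  refine ⟨ι.symm.toMonoidHom.comp (QuotientGroup.mk' _), fun n =>
    (map_eq_one_iff _ ι.symm.injective).trans (QuotientGroup.eq_one_iff _), fun x => ?_⟩
  obtain ⟨a, e⟩ := sj (ι x)
  exact ⟨⟨_, hm a⟩, ι.symm_apply_eq.2 e, mul_mem (mul_mem h.wM (Two.hh_mem_N _)) (inv_mem h.wM)⟩

/-- `M` has a complement in `N(M)` -/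
theorem Hay.pgl2_compl (h : Hay φ) : ∃ J : Subgroup (normalizer (sM φ : Set G)),
    IsComplement' ((sM φ).subgroupOf _) J := by
  obtain ⟨p, hp⟩ := CharP.exists F
  obtain ⟨n, pp, e⟩ := FiniteField.card F p
  have := Fact.mk pp
  have : IsMulCommutative ((sM φ).subgroupOf (normalizer (sM φ : Set G))) :=
    ⟨⟨fun a b => Subtype.ext (Subtype.ext (M_comm a.2 b.2))⟩⟩
  let Y : Multiplicative F →* normalizer (sM φ : Set G) :=
    MonoidHom.mk' (fun d => ⟨_, Two.y_mem_N d.toAdd⟩) fun a b => Subtype.ext (y_mul φ _ _).symm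
  refine Coprime.gaschutz_exists (U := (sP φ).subgroupOf _) (A := Y.range) ?_ (eq_bot_iff.2 ?_) (le_antisymm
    (sup_le (subgroupOf_mono _ M_le_P) (by rintro _ ⟨d, rfl⟩; exact y_mem_P _)) fun u hu => ?_)
  · rw [Nat.card_congr (subgroupOfEquivOfLe le_normalizer).toEquiv, h.card_M, e, ← pow_mul]
    exact ((Nat.Prime.coprime_iff_not_dvd pp).2
      ((h.syl_P p).of_le (P_le_B.trans B_le_NM) le_top).not_dvd).pow_left _
  · rintro _ ⟨⟨d, rfl⟩, hd⟩
    exact Subtype.ext (show y φ d.toAdd = 1 by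
      rw [(h.my_mem_M (s := 0) (c := 0) (b := 0) (d := d.toAdd)).1 (by rw [m_zero, one_mul]; exact hd), y_zero])
  · obtain ⟨s, c, b, d, e⟩ := mem_P.1 hu
    rw [show u = ⟨_, le_normalizer (m_mem_M s c b)⟩ * Y (.ofAdd d) from Subtype.ext e.symm]
    exact mul_mem_sup (m_mem_M s c b) ⟨_, rfl⟩

theorem Two.complement (h : Two φ w) : ∃ J : Subgroup G, J ≤ normalizer (sM φ : Set G) ∧
    sM φ ⊔ J = normalizer (sM φ : Set G) ∧ sM φ ⊓ J = ⊥ ∧
    Nonempty (J ≃* (Matrix.ProjGenLinGroup (Fin 2) F ×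
      Multiplicative (ZMod ((Fintype.card F - 1) / 2)))) := by
  obtain ⟨π, sj, kZ, kM, kB⟩ := h.exists_pgl'
  obtain ⟨χ, kχ, sχ⟩ := h.exists_chi
  obtain ⟨J, hJ⟩ := h.hay.pgl2_compl
  let E : Subgroup (normalizer (sM φ : Set G)) :=
    (centralizer ↑(π.ker.map (QuotientGroup.mk' ((sM φ).subgroupOf _)))).comap
      (QuotientGroup.mk' ((sM φ).subgroupOf _))
  have mE : ∀ n, n ∈ E ↔ ∀ k, π k = 1 → ((k⁻¹ * (n⁻¹ * k * n) :) : G) ∈ sM φ := fun n => by
    refine ⟨fun e k hk => ?_, fun e => ?_⟩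
    · have := e _ ⟨k, hk, rfl⟩
      rw [← map_mul, ← map_mul, eq_comm, QuotientGroup.mk'_apply, QuotientGroup.mk'_apply, QuotientGroup.eq] at this
      simpa [mul_assoc, mem_subgroupOf] using this
    · rintro _ ⟨k, hk, rfl⟩
      rw [← map_mul, ← map_mul, eq_comm, QuotientGroup.mk'_apply, QuotientGroup.mk'_apply, QuotientGroup.eq]
      simpa [mul_assoc, mem_subgroupOf] using e k hk
  have : (π.ker.map (QuotientGroup.mk' ((sM φ).subgroupOf _))).Normal :=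
    Normal.map inferInstance _ (QuotientGroup.mk'_surjective _)
  have nE : E.Normal := inferInstance
  have UE : ∀ n : normalizer (sM φ : Set G), (n : G) ∈ normalizer (sZ φ : Set G) → n ∈ E := fun n hn =>
    (mE n).2 fun k hk => (kM _).2 ⟨by simp [hk], (kχ (⟨k, kZ k hk⟩⁻¹ * (⟨n, hn⟩⁻¹ * ⟨k, kZ k hk⟩ * ⟨n, hn⟩))).1 (by simp)⟩
  have hy : ∀ d, y φ d ∈ normalizer (sZ φ : Set G) := fun d => C_le_NZ (P_le_C (y_mem_P d))
  have sig : ∀ n : normalizer (sM φ : Set G), (n : G) ∉ normalizer (sZ φ : Set G) →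
      ∃ d, cj (n : G) (sZ φ) = cj (y φ d * w) (sZ φ) := fun n hn =>
    (h.sig n (cj_le_iff.2 fun x hx => conj_mem_of_mem_normalizer n.2 (Z_le_M hx))).resolve_left
      fun e => hn (mem_normalizer_iff_cj.2 e)
  have ET : ∀ n, n ∈ E := fun n => by
    by_cases hn : (n : G) ∈ normalizer (sZ φ : Set G)
    · exact UE n hn
    have h0 := nE.conj_mem _ (UE ⟨_, y_mem_N 1⟩ (hy 1)) ⟨w, h.wM⟩
    generalize he : (⟨w, h.wM⟩ * ⟨_, y_mem_N 1⟩ * ⟨w, h.wM⟩⁻¹ : normalizer (sM φ : Set G)) = e at h0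
    obtain ⟨d, e1⟩ := sig n hn
    obtain ⟨d0, e0⟩ := sig e fun h1 => one_ne_zero (h.hay.free_y (h.le_V.trans V_le_M) h.ne_Z (d := 1) (by
      rw [← cj_normalizer, mem_cj, h.w_inv]
      rw [← he] at h1
      simpa [h.w_inv] using h1))
    refine (E.mul_mem_cancel_left (inv_mem (mul_mem (UE ⟨_, y_mem_N (d + -d0)⟩ (hy _)) h0))).1 (UE _ ?_)
    rw [mem_normalizer_iff_cj, coe_mul, cj_mul, e1, coe_inv, coe_mul]
    apply cj_injective (y φ (d + -d0) * e)
    rw [cj_cj_inv, cj_mul _ (e : G), e0, ← cj_mul, ← mul_assoc, y_mul, neg_add_cancel_right]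
  let _ := Fintype.ofFinite (_ ⧸ (normalizer (sZ φ : Set G)).subgroupOf (normalizer (sM φ : Set G)))
  let χ' : (normalizer (sZ φ : Set G)).subgroupOf (normalizer (sM φ : Set G)) →* _ :=
    χ.comp (MonoidHom.mk' (fun n => ⟨n, n.2⟩) fun _ _ => rfl)
  have hV : ∀ k (hk : π k = 1), Transfer.tr χ' k = χ ⟨k, kZ k hk⟩ ^ (Fintype.card F + 1) := fun k hk => by
    rw [Transfer.tr_apply, ← h.idx_N, relIndex, index, Nat.card_eq_fintype_card]
    refine Finset.prod_eq_pow_card fun q _ => ?_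
    obtain ⟨g, rfl⟩ := QuotientGroup.mk_surjective q
    have h1 := kZ (g⁻¹ * k * g) (by simp [hk])
    rw [Transfer.cosetCocycle_mk χ' (g := k) (t := g) h1, eq_comm, ← inv_mul_eq_one, ← map_inv]
    exact (map_mul χ ⟨k, kZ k hk⟩⁻¹ ⟨_, h1⟩).symm.trans ((kχ _).2 (M_le_C ((mE g).1 (ET g) k hk)))
  have cop : (Nat.card (Multiplicative (ZMod ((Fintype.card F - 1) / 2)))).Coprime (Fintype.card F + 1) := by
    have := h.hay.q4
    obtain ⟨j, e⟩ : ∃ j, Fintype.card F = 4 * j + 3 := ⟨Fintype.card F / 4, by omega⟩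
    rw [Nat.card_congr Multiplicative.toAdd, Nat.card_zmod, e, show (4 * j + 3 - 1) / 2 = 2 * j + 1 by omega,
      show 4 * j + 3 + 1 = 2 + (2 * j + 1) * 2 by ring, Nat.coprime_add_mul_left_right]
    simp
  have ker : ∀ n, π.prod (Transfer.tr χ') n = 1 ↔ (n : G) ∈ sM φ := fun n => by
    rw [kM, MonoidHom.prod_apply, Prod.mk_eq_one]
    refine and_congr_right fun hn => ?_
    rw [hV n hn, ← kχ ⟨n, kZ n hn⟩]
    exact ⟨fun e => (powCoprime cop).injective (e.trans (one_pow _).symm), fun e => by rw [e, one_pow]⟩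
  refine ⟨J.map (normalizer (sM φ : Set G)).subtype, map_subtype_le _, ?_, ?_,
    ⟨(J.equivMapOfInjective _ (subtype_injective _)).symm.trans (MulEquiv.ofBijective
      ((π.prod (Transfer.tr χ')).comp J.subtype) ⟨(injective_iff_map_eq_one _).2 fun j hj => ?_, fun ⟨g, z⟩ => ?_⟩)⟩⟩
  · have := congrArg (map (normalizer (sM φ : Set G)).subtype) hJ.sup_eq_top
    rwa [Subgroup.map_sup, map_subgroupOf_eq_of_le le_normalizer, ← MonoidHom.range_eq_map, range_subtype] at this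
  · rw [eq_bot_iff]
    rintro _ ⟨h1, j, hj, rfl⟩
    exact congrArg Subtype.val (disjoint_def.1 hJ.disjoint (show j ∈ (sM φ).subgroupOf _ from h1) hj)
  · exact Subtype.ext (disjoint_def.1 hJ.disjoint (show (j : normalizer (sM φ : Set G)) ∈ (sM φ).subgroupOf _ from (ker _).1 hj) j.2)
  · obtain ⟨n, rfl⟩ := sj g
    obtain ⟨x, hx⟩ := (powCoprime cop).surjective (z * (Transfer.tr χ' n)⁻¹)
    obtain ⟨τ, rfl, h1⟩ := sχ x
    obtain ⟨b, hb, e⟩ := kB ⟨τ, h1⟩ τ.2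
    have hk : π (b⁻¹ * ⟨τ, h1⟩) = 1 := by rw [map_mul, map_inv, e, inv_mul_cancel]
    obtain ⟨⟨u, j⟩, e1⟩ := hJ.2 (b⁻¹ * ⟨τ, h1⟩ * n)
    refine ⟨⟨j, j.2⟩, ?_⟩
    have e2 := congrArg (π.prod (Transfer.tr χ')) e1
    rw [map_mul, (ker _).2 u.2, one_mul, map_mul, MonoidHom.prod_apply _ _ (_ * _), hk, hV _ hk,
      show (⟨_, kZ _ hk⟩ : normalizer (sZ φ : Set G)) = ⟨b, C_le_NZ hb⟩⁻¹ * τ from rfl, map_mul, map_inv, (kχ _).2 hb,
      inv_one, one_mul, show χ τ ^ _ = _ from hx] at e2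
    exact e2.trans (by simp)

end CfsgLib.Hay
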