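import Mathlib
import Cfsg.Agent.Lib.Hay.Sig1

/-! At most two conjugates of `Z` lie in `V`.  See `plans/HAY.md`. -/

set_option autoImplicit false

namespace CfsgLib.Hay

open Subgroup CfsgLib.W2 CfsgLib.Tech
open CfsgLib.GHA (xu hd wn xu_add xu_zero xu_neg hd_mul hd_one hd_inv)
open CfsgLib.Gold (ncl)
open scoped MatrixGroups

variable {G : Type*} [Group G] [Finite G] {F : Type*} [Field F] [Fintype F] {φ : Jac F →* G}

omit [Finite G] in
theorem sig2_ncard_cj (M H : Subgroup G) :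
    {K | ∃ a ∈ M, cj a H = K}.ncard = (normalizer (H : Set G)).relIndex M := by
  let _ : MulAction M (Subgroup G) :=
    { smul := fun a K => cj (a : G) K
      one_smul := cj_one
      mul_smul := fun a b K => cj_mul (a : G) (b : G) K }
  have h2 : MulAction.orbit M H = {K | ∃ a ∈ M, cj a H = K} :=
    Set.ext fun K => ⟨fun ⟨a, h⟩ => ⟨a, a.2, h⟩, fun ⟨a, ha, h⟩ => ⟨⟨a, ha⟩, h⟩⟩
  have h3 : MulAction.stabilizer M H = (normalizer (H : Set G)).subgroupOf M :=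
    Subgroup.ext fun a => (mem_normalizer_iff_cj (g := (a : G))).symm
  rw [← h2, ← MulAction.index_stabilizer, h3]
  rfl

omit [Finite G] in
theorem sig2_free (T : Subgroup G) (S : Set (Subgroup G)) (hS : ∀ a ∈ T, ∀ W ∈ S, cj a W ∈ S)
    (hf : ∀ a ∈ T, ∀ W ∈ S, cj a W = W → a = 1) : Nat.card T ∣ S.ncard := by
  let _ : MulAction T S :=
    { smul := fun a W => ⟨cj a W, hS a a.2 W W.2⟩
      one_smul := fun W => Subtype.ext (cj_one _)
      mul_smul := fun a b W => Subtype.ext (cj_mul (a : G) (b : G) W) }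
  change _ ∣ Nat.card S
  rw [Nat.card_congr (MulAction.selfEquivOrbitsQuotientProd (G := T) (X := S) fun W => eq_bot_iff.2 fun a ha =>
    Subtype.ext (hf a a.2 W W.2 (congrArg Subtype.val ha))), Nat.card_prod]
  exact Dvd.intro_left _ rfl

theorem sig2_arith {k n : ℕ} (hn : Odd n) (h1 : k + 1 ∣ 2 * n) (h2 : n ∣ k ∨ n ∣ k - 1) : k ≤ 1 := by
  have h0 := hn.pos
  have h3 := Nat.le_of_dvd (by omega) h1
  by_contra h4
  rcases h2 with ⟨j, e⟩ | ⟨j, e⟩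
  · obtain rfl : j = 1 := by
      rcases j with _ | _ | j
      · omega
      · rfl
      · nlinarith
    have h5 : k + 1 ∣ 2 := (Nat.dvd_add_right h1).1 ⟨2, by omega⟩
    have := Nat.le_of_dvd two_pos h5
    omega
  · obtain rfl : j = 1 := by
      rcases j with _ | _ | j
      · omega
      · rfl
      · have : k = n * (j + 1 + 1) + 1 := by omega
        nlinarith
    have h5 : k + 1 ∣ 4 := (Nat.dvd_add_right h1).1 ⟨2, by omega⟩
    have := Nat.le_of_dvd (by norm_num) h5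
    obtain ⟨r, hr⟩ := hn
    obtain rfl : k = 2 := by omega
    norm_num at h5

theorem Hay.omega_two (h : Hay φ) (hc : NC φ) {g g' : G} (hV : cj g (sZ φ) ≤ sV φ)
    (hn : cj g (sZ φ) ≠ sZ φ) (hV' : cj g' (sZ φ) ≤ sV φ) (hn' : cj g' (sZ φ) ≠ sZ φ) :
    cj g (sZ φ) = cj g' (sZ φ) := by
  obtain ⟨p, hp⟩ := CharP.exists F
  haveI : Fact p.Prime := ⟨CharP.char_is_prime F p⟩
  have cz : ∀ c ∈ φ.range, cj c (sZ φ) = sZ φ := fun c hc => mem_normalizer_iff_cj.1 (C_le_NZ hc)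
  have ne : ∀ c ∈ φ.range, ∀ W, W ≠ sZ φ → cj c W ≠ sZ φ := fun c hc W h1 e =>
    h1 (cj_injective c (e.trans (cz c hc).symm))
  have le : ∀ {A W : Subgroup G} {c : G}, c ∈ normalizer (A : Set G) → W ≤ A → cj c W ≤ A := fun h1 h2 =>
    (cj_mono _ h2).trans (mem_normalizer_iff_cj.1 h1).le
  have yC : ∀ d, y φ d ∈ φ.range := fun d => P_le_C (y_mem_P d)
  set S := {W | (∃ g, cj g (sZ φ) = W) ∧ W ≤ sM φ ∧ W ≠ sZ φ} with hS
  set O := {W | (∃ g, cj g (sZ φ) = W) ∧ W ≤ sV φ ∧ W ≠ sZ φ} with hO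
  set N := normalizer (sM φ : Set G)
  have h1 : (normalizer (sZ φ : Set G)).relIndex N = S.ncard + 1 := by
    rw [← sig2_ncard_cj, ← Set.ncard_insert_of_notMem (a := sZ φ) fun e => e.2.2 rfl]
    refine congrArg _ (Set.ext fun W => ⟨?_, ?_⟩)
    · rintro ⟨a, ha, rfl⟩
      exact (em _).imp id fun e => ⟨⟨a, rfl⟩, le ha Z_le_M, e⟩
    · rintro (rfl | ⟨⟨a, rfl⟩, e, -⟩)
      · exact ⟨1, one_mem _, cj_one _⟩
      · obtain ⟨c, h1, h2⟩ := h.f3 e
        exact ⟨_, h2, by rw [cj_mul, cz c h1]⟩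
  have h2 : (normalizer (sZ φ : Set G)).relIndex (N ⊓ Cx (t φ)) = O.ncard + 1 := by
    rw [← sig2_ncard_cj, ← Set.ncard_insert_of_notMem (a := sZ φ) fun e => e.2.2 rfl]
    refine congrArg _ (Set.ext fun W => ⟨?_, ?_⟩)
    · rintro ⟨a, ha, rfl⟩
      exact (em _).imp id fun e => ⟨⟨a, rfl⟩, le (h.mem_NV ha.1 ha.2) Z_le_V, e⟩
    · rintro (rfl | ⟨⟨a, rfl⟩, e, -⟩)
      · exact ⟨1, one_mem _, cj_one _⟩
      · obtain ⟨c, h1, h2⟩ := h.f3V e
        exact ⟨_, h2, by rw [cj_mul, cz c h1]⟩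
  have h3 : S.ncard = Fintype.card F * O.ncard := by
    rw [← Nat.card_eq_fintype_card, ← Set.ncard_univ, ← Set.ncard_prod,
      ← Set.InjOn.ncard_image (f := fun x : F × Subgroup G => cj (y φ x.1) x.2)]
    · refine congrArg _ (Set.ext fun W => ⟨?_, ?_⟩)
      · rintro ⟨⟨a, rfl⟩, e1, e2⟩
        obtain ⟨d, e⟩ := h.exists_V hc e1 e2
        refine ⟨(-d, cj (y φ d * a) (sZ φ)), ⟨trivial, ⟨_, rfl⟩, e, ?_⟩, ?_⟩
        · rw [cj_mul]; exact ne _ (yC d) _ e2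
        · simp only
          rw [← cj_mul, ← y_inv, inv_mul_cancel_left]
      · rintro ⟨⟨d, _⟩, ⟨-, ⟨a, rfl⟩, e1, e2⟩, rfl⟩
        exact ⟨⟨_, cj_mul _ _ _⟩, le (B_le_NM (P_le_B (y_mem_P d))) (e1.trans V_le_M), ne _ (yC d) _ e2⟩
    · rintro ⟨d, _⟩ ⟨-, ⟨a, rfl⟩, e1, e2⟩ ⟨d', W⟩ ⟨-, -, e3, -⟩ e
      simp only at e e3
      have e4 : cj (y φ (-d' + d) * a) (sZ φ) = W := by
        rw [← y_mul, mul_assoc, cj_mul, cj_mul, e, ← y_inv, cj_inv_cj]
      obtain rfl : d' = d := neg_add_eq_zero.1 (h.unique_V e1 e2 (e4 ▸ e3))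
      rw [cj_injective _ e]
  have h4 := Core.card_inf_mul_relIndex (normalizer (sZ φ : Set G)) N
  have h5 := Core.card_inf_mul_relIndex (Cx (t φ)) (N ⊓ normalizer (sZ φ : Set G))
  have h6 := Core.card_inf_mul_relIndex (normalizer (sZ φ : Set G)) (N ⊓ Cx (t φ))
  have h7 := card_dvd_of_le (inf_le_left : N ⊓ Cx (t φ) ≤ N)
  rw [← h4, ← h6, inf_comm _ N, ← h5, h.idx_t, h1, h2, mul_assoc, show normalizer (sZ φ : Set G) ⊓ (N ⊓ Cx (t φ)) =
    Cx (t φ) ⊓ (N ⊓ normalizer (sZ φ : Set G)) by ac_rfl] at h7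
  replace h7 := Nat.dvd_of_mul_dvd_mul_left Nat.card_pos h7
  have vN : sV φ ≤ N ⊓ Cx (t φ) := le_inf (V_le_M.trans le_normalizer) V_le_H
  have h8 : ¬ p ∣ O.ncard + 1 := fun e => ((h.syl_V p).of_le vN inf_le_right).not_dvd (by
    rw [← relIndex_mul_relIndex _ _ _ (le_inf (V_le_M.trans (M_le_C.trans C_le_NZ)) vN) inf_le_right,
      inf_relIndex_right, h2]
    exact e.mul_left _)
  obtain ⟨n, hp', hq⟩ := FiniteField.card F p
  have h9 : O.ncard + 1 ∣ S.ncard + 1 := Nat.Coprime.dvd_of_dvd_mul_left (by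
    rw [hq, ← pow_mul]
    exact ((Nat.Prime.coprime_iff_not_dvd hp').2 h8).symm.pow_right _) h7
  have h10 := h.card_Tb
  have h11 : O.ncard + 1 ∣ 2 * Nat.card (sTb φ) := (Nat.dvd_add_right h9).1 ⟨Fintype.card F, by
    rw [h3, ← h10]; ring⟩
  have h12 := sig2_free (sTb φ) (O \ {sX φ}) (fun a ha W hW => by
    obtain ⟨⟨⟨b, rfl⟩, e1, e2⟩, e3⟩ := hW
    have a1 := Tb_le_T ha
    refine ⟨⟨⟨_, cj_mul _ _ _⟩, le (h.mem_NV (B_le_NM (T_le_B a1)) (L_le_H (T_le_L a1))) e1,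
      ne _ (L_le_C (T_le_L a1)) _ e2⟩, fun e => e3 (cj_injective a ?_)⟩
    exact e.trans (mem_normalizer_iff_cj.1 (T_le_NX a1)).symm) (by
      rintro _ ⟨a, rfl⟩ _ ⟨⟨⟨b, rfl⟩, e1, e2⟩, e3⟩ e
      have e4 : (a ^ 2) ^ 2 = 1 := by_contra fun e4 => e3 (h.free_T e1 e2 e4 (mem_normalizer_iff_cj.2 e))
      have e5 : ((a : F) ^ 2 - 1) * (a ^ 2 + 1) = 0 := by
        have := congrArg Units.val e4
        push_cast at this
        linear_combination this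
      rw [show a ^ 2 = 1 from Units.ext (by
        rw [Units.val_pow_eq_pow_val]
        exact sub_eq_zero.1 ((mul_eq_zero.1 e5).resolve_right fun e =>
          h.neg_one_nonsq a (eq_neg_of_add_eq_zero_left e))), hh_one])
  refine (Set.ncard_le_one (Set.toFinite O)).1 (sig2_arith (Nat.odd_iff.2 (by have := h.q4; omega)) h11 ?_)
    _ ⟨⟨g, rfl⟩, hV, hn⟩ _ ⟨⟨g', rfl⟩, hV', hn'⟩
  by_cases e : sX φ ∈ O
  · exact .inr (Set.ncard_diff_singleton_of_mem e ▸ h12)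
  · exact .inl (Set.diff_singleton_eq_self e ▸ h12)


end CfsgLib.Hay
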