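import Mathlib
import Cfsg.Agent.Lib.Hay.Sig2
import Cfsg.Agent.Lib.Frob.FPF

/-! The involution `w`.  See `plans/HAY.md`. -/

set_option autoImplicit false

namespace CfsgLib.Hay

open Subgroup CfsgLib.W2 CfsgLib.Tech
open CfsgLib.GHA (xu hd wn xu_add xu_zero xu_neg hd_mul hd_one hd_inv)
open CfsgLib.Gold (ncl)
open scoped MatrixGroups

variable {G : Type*} [Group G] [Finite G] {F : Type*} [Field F] [Fintype F] {φ : Jac F →* G}

theorem sig3_exists_sq_ne (h : 3 < Fintype.card F) : ∃ a : Fˣ, a ^ 2 ≠ 1 := by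
  classical
  obtain ⟨a, ha⟩ := IsCyclic.exists_ofOrder_eq_natCard (α := Fˣ)
  refine ⟨a, fun e => ?_⟩
  have := Nat.le_of_dvd two_pos (orderOf_dvd_of_pow_eq_one e)
  rw [ha, Nat.card_eq_fintype_card, Fintype.card_units] at this
  omega

theorem Hay.sig3_sq_ne (h : Hay φ) {w : G} (h1 : w ∈ normalizer (sM φ : Set G)) (h2 : w ∈ Cx (t φ)) :
    w * w ≠ t φ := fun e => by
  have h3 : orderOf w = 2 ^ (1 + 1) := orderOf_eq_prime_pow (by rw [pow_one, pow_two, e]; exact h.t_ne_one)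
    (by rw [pow_succ, pow_mul, pow_one, pow_two w, e, pow_two, t_mul_t])
  have h4 := Frob.card_modEq_one_of_fpf (zpowers_le.2 (h.mem_NR h1 h2)) fun v hv h5 => by
    have h6 : Cx v ≤ Cx (t φ) := fun x hx => by
      obtain ⟨i, rfl⟩ := hv
      have hx : w ^ i ∈ Cx x := Cx_comm.1 hx
      have k : ∀ j : ℤ, w ^ (2 * j) = 1 ∨ w ^ (2 * j) = t φ := fun j =>
        mem_zp (t_mul_t φ) ⟨j, by rw [zpow_mul, zpow_two, e]⟩
      rw [Cx_comm]
      obtain ⟨j, rfl | rfl⟩ := Int.even_or_odd' i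
      · exact (k j).resolve_left h5 ▸ hx
      · have h7 := mul_mem hx hx
        rwa [← zpow_add, show 2 * j + 1 + (2 * j + 1) = 2 * j * 2 + 2 by ring, zpow_add, zpow_mul, zpow_two,
          zpow_two, e, show w ^ (2 * j) * w ^ (2 * j) = 1 by rcases k j with e | e <;> simp [e, t_mul_t],
          one_mul] at h7
    refine eq_bot_iff.2 fun x hx => ?_
    obtain ⟨c, rfl⟩ := mem_R.1 hx.1
    obtain ⟨s, b, e'⟩ := mem_V.1 (h.M_inf_H.le ⟨m_mem_M 0 c 0, h6 hx.2⟩)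
    rw [← (h.m_inj.1 e').2.1, m_zero]
    exact one_mem _
  rw [Nat.card_zpowers, h3, h.card_R] at h4
  have := h.q4
  unfold Nat.ModEq at h4
  omega

theorem Hay.exists_two (h : Hay φ) (hc : NC φ)
    (hn : ¬ normalizer (sM φ : Set G) ≤ normalizer (sZ φ : Set G)) : ∃ w, Two φ w := by
  obtain ⟨n, n1, n2⟩ := SetLike.not_le_iff_exists.1 hn
  have ne : ∀ c ∈ φ.range, ∀ g, cj g (sZ φ) ≠ sZ φ → cj (c * g) (sZ φ) ≠ sZ φ := fun c hc g h1 e =>
    h1 (mem_normalizer_iff_cj.1 ((mul_mem_cancel_left (C_le_NZ hc)).1 (mem_normalizer_iff_cj.2 e)))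
  have le : ∀ {A W : Subgroup G} {c : G}, c ∈ normalizer (A : Set G) → W ≤ A → cj c W ≤ A := fun h1 h2 =>
    (cj_mono _ h2).trans (mem_normalizer_iff_cj.1 h1).le
  have yC : ∀ d, y φ d ∈ φ.range := fun d => P_le_C (y_mem_P d)
  set K := normalizer (sM φ : Set G) ⊓ Cx (t φ)
  have kV : ∀ g ∈ K, cj g (sZ φ) ≤ sV φ := fun g hg => le (h.mem_NV hg.1 hg.2) Z_le_V
  have k1 : ∀ g ∈ K, g ∉ normalizer (sZ φ : Set G) → ∀ g' ∈ K, g' ∉ normalizer (sZ φ : Set G) →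
      cj g (sZ φ) = cj g' (sZ φ) := fun g h1 h2 g' h3 h4 => h.omega_two hc (kV g h1)
        (mt mem_normalizer_iff_cj.2 h2) (kV g' h3) (mt mem_normalizer_iff_cj.2 h4)
  have k2 : ∀ g ∈ K, g ∉ normalizer (sZ φ : Set G) → g * g ∈ normalizer (sZ φ : Set G) := fun g h1 h2 =>
    by_contra fun h3 => h2 (mem_normalizer_iff_cj.2 (cj_injective g (by
      rw [← cj_mul]; exact k1 _ (mul_mem h1 h1) h3 g h1 h2)))
  obtain ⟨w, w1, w2, k, w3⟩ : ∃ w ∈ K, w ∉ normalizer (sZ φ : Set G) ∧ ∃ k, w ^ 2 ^ k = 1 := by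
    have h1 := mt mem_normalizer_iff_cj.2 n2
    obtain ⟨d, e⟩ := h.exists_V hc (le n1 Z_le_M) h1
    obtain ⟨c, c1, c2⟩ := h.f3V e
    have h2 : y φ d * n * c ∉ normalizer (sZ φ : Set G) := fun e =>
      ne _ (yC d) _ h1 (mem_normalizer_iff_cj.1 ((mul_mem_cancel_right (C_le_NZ c1)).1 e))
    obtain ⟨k, o, ⟨j, rfl⟩, e⟩ := Nat.exists_eq_two_pow_mul_odd (orderOf_pos (y φ d * n * c)).ne'
    refine ⟨(y φ d * n * c) ^ (2 * j + 1), pow_mem c2 _, fun e => h2 ?_, k, by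
      rw [← pow_mul, mul_comm, ← e, pow_orderOf_eq_one]⟩
    rwa [pow_succ, pow_mul, pow_two, mul_mem_cancel_left (pow_mem (k2 _ c2 h2) j)] at e
  have w4 : w⁻¹ ∉ normalizer (sZ φ : Set G) := mt inv_mem_iff.1 w2
  have k3 : ∀ g ∈ K, g ∉ normalizer (sZ φ : Set G) → ∀ a, hh φ a ∈ normalizer (cj g (sZ φ) : Set G) :=
    fun g h1 h2 a => mem_normalizer_iff_cj.2 (by
      rw [← cj_mul]
      exact k1 _ (mul_mem ⟨B_le_NM (T_le_B (hh_mem_T a)), L_le_H (T_le_L (hh_mem_T a))⟩ h1)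
        (mt (mul_mem_cancel_left (C_le_NZ (L_le_C (T_le_L (hh_mem_T a))))).1 h2) g h1 h2)
  have h1 : cj w (sTb φ) ≤ normalizer (sZ φ : Set G) := cj_le_iff.2 (by
    rintro _ ⟨a, rfl⟩
    simpa using sig1_mem_N.1 (k3 _ (inv_mem w1) w4 (a ^ 2)))
  have h2 : φ.range.relIndex (cj w (sTb φ)) = Nat.card (sTb φ) := by
    rw [← card_cj w, ← Core.card_inf_mul_relIndex φ.range (cj w (sTb φ)), show φ.range ⊓ cj w (sTb φ) = ⊥ from
      eq_bot_iff.2 ?_, card_bot, one_mul]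
    rintro _ ⟨e, _, ⟨a, rfl⟩, rfl⟩
    have h3 := h.faithful_T (kV _ (inv_mem w1)) (mt mem_normalizer_iff_cj.2 w4) (a := a) fun u hu =>
      (h.sig1_comm (by simpa using e) hu).symm
    simp [h3]
  have h3 := h.card_Tb
  have h4 : φ.range.relIndex (normalizer (sZ φ : Set G)) = Nat.card (sTb φ) := by
    refine le_antisymm ?_ (h2 ▸ relIndex_le_of_le_right h1 index_ne_zero_of_finite)
    obtain ⟨j, e⟩ := h.idx_dvd (N := normalizer (sZ φ : Set G)) le_rfl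
    have h5 := h.idx_ne hc
    have h6 : 0 < Nat.card (sTb φ) := Nat.card_pos
    rcases j with _ | _ | j
    · omega
    · omega
    · nlinarith [show Fintype.card F - 1 = 2 * Nat.card (sTb φ) by omega]
  have h5 : w * w ∈ φ.range := by
    haveI := normal_subgroupOf_of_le_normalizer h.NZ_eq.le
    have h6 : (w * w) ^ Nat.card (sTb φ) ∈ φ.range :=
      h4 ▸ pow_index_mem (H := φ.range.subgroupOf (normalizer (sZ φ : Set G))) ⟨_, k2 w w1 w2⟩
    refine mem_of_coprime_pow (a := 2 ^ k) (Nat.Coprime.pow_left k (Nat.coprime_two_left.2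
      (Nat.odd_iff.2 (by have := h.q4; omega)))) ?_ h6
    rw [(Commute.refl w).mul_pow, w3, one_mul]
    exact one_mem _
  refine ⟨w, h, w1.1, w1.2, (h.two_B (h.mem_B_of_NM h5 (mul_mem w1 w1).1) (mul_mem w1 w1).2 (k := k) (by
    rw [(Commute.refl w).mul_pow, w3, one_mul])).resolve_right (h.sig3_sq_ne w1.1 w1.2), w2, fun g hg => ?_,
    fun g hg => ?_, fun h6 => ?_⟩
  · refine (em _).imp id fun e => ?_
    obtain ⟨d, e'⟩ := h.exists_V hc hg e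
    refine ⟨-d, ?_⟩
    rw [cj_mul, ← h.omega_two hc e' (ne _ (yC d) _ e) (kV w w1) (mt mem_normalizer_iff_cj.2 w2), ← cj_mul, ← y_inv,
      inv_mul_cancel_left]
  · obtain ⟨c, c1, _, ⟨_, ⟨a, rfl⟩, rfl⟩, e⟩ := mem_of_relIndex_le h1 h.NZ_eq.le (h4.trans h2.symm).le hg
    exact ⟨c, c1.2, a, e⟩
  · obtain ⟨a, ha⟩ := sig3_exists_sq_ne h6
    exact h.free_T (kV w w1) (mt mem_normalizer_iff_cj.2 w2) ha (k3 w w1 w2 a)


end CfsgLib.Hay
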