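import Mathlib
import Cfsg.Agent.Lib.Hay.Mod

/-! From the statements to the embedding `φ`.  See `plans/HAY.md`. -/

set_option autoImplicit false

namespace CfsgLib.Hay

open Subgroup CfsgLib.W2 CfsgLib.Tech

variable {G : Type*} [Group G] [Finite G] {F : Type*} [Field F] [Fintype F]

omit [Finite G] in
theorem exists_hay (hq : Fintype.card F % 4 = 3) {p : ℕ} [Fact p.Prime] [CharP F p] {x : Cfsg.PSp 2 F}
    (hx : orderOf x = p) (U : Sylow p (Cfsg.PSp 2 F)) (hU : x ∈ (U : Subgroup (Cfsg.PSp 2 F)))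
    (hc : ∀ u ∈ (U : Subgroup (Cfsg.PSp 2 F)), u * x = x * u) {α : G} (e : Cx α ≃* Cx x)
    (hb : ∀ z ∈ Cx α, z ≠ 1 → (∀ c ∈ Cx α, c * z = z * c) → Cx z = Cx α) :
    ∃ φ : Jac F →* G, Hay φ ∧ φ.range = Cx α := by
  obtain ⟨f⟩ := model hq (fun e1 => (Fact.out : p.Prime).ne_one (by rw [← hx, e1, orderOf_one])) U hU hc
  let φ := (Cx α).subtype.comp (e.trans f).symm.toMonoidHom
  have hi : Function.Injective φ := Subtype.val_injective.comp (e.trans f).symm.injective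
  have hr : φ.range = Cx α := by
    rw [MonoidHom.range_comp, MonoidHom.range_eq_top.2 (e.trans f).symm.surjective, ← MonoidHom.range_eq_map,
      range_subtype]
  refine ⟨φ, ⟨hi, fun s hs => ?_, hq⟩, hr⟩
  rw [hr]
  refine hb _ (hr ▸ ⟨_, rfl⟩) (fun e1 => hs ?_) fun c hc' => C_comm_Z (hr ▸ hc') (m_mem_Z s)
  exact congrArg Jac.s (hi (e1.trans φ.map_one.symm))

/-- the embedding adapted to a given Sylow subgroup -/
theorem Hay.adapt {φ : Jac F →* G} (h : Hay φ) {p : ℕ} [Fact p.Prime] [CharP F p] (P : Sylow p G)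
    {M : Subgroup G} (hM : M ≤ P) (hab : ∀ u ∈ M, ∀ v ∈ M, u * v = v * u)
    (hc : Nat.card M = Fintype.card F ^ 3) :
    ∃ (g : G) (ψ : Jac F →* G), Hay ψ ∧ ψ.range = cj g φ.range ∧ sP ψ = P ∧ sM ψ = M := by
  obtain ⟨g, -, e⟩ := (h.syl_P p).exists_cj_eq (IsSylowIn.of_sylow_top P)
  have h' := h.conj g
  have e' := (P_conj φ g).trans e
  refine ⟨g, _, h', MonoidHom.range_comp _ _, e', (eq_of_le_of_card_ge (h'.le_M (e' ▸ hM) hab ?_) ?_).symm⟩
  · rw [hc]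
    exact Nat.pow_lt_pow_right Fintype.one_lt_card (by norm_num)
  · rw [hc, h'.card_M]

theorem Hay.nc {φ : Jac F →* G} (h : Hay φ) {p : ℕ} [Fact p.Prime] [CharP F p] {u v : G} {P Q : Sylow p G}
    (hu : orderOf u = p) (hv : orderOf v = p) (huP : u ∈ (P : Subgroup G))
    (hP : ∀ y ∈ (P : Subgroup G), y * u = u * y) (hvQ : v ∈ (Q : Subgroup G))
    (hQ : ∀ y ∈ (Q : Subgroup G), y * v = v * y) (hn : ∀ g : G, g * u * g⁻¹ ≠ v) : NC φ := by
  have key : ∀ {u : G} {P : Sylow p G}, orderOf u = p → u ∈ (P : Subgroup G) →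
      (∀ y ∈ (P : Subgroup G), y * u = u * y) → ∃ g s, s ≠ 0 ∧ g * m φ s 0 0 * g⁻¹ = u := by
    intro u P hu huP hP
    obtain ⟨g, -, e⟩ := (h.syl_P p).exists_cj_eq (IsSylowIn.of_sylow_top P)
    obtain ⟨s, hs⟩ := mem_Z.1 (h.center_P (u := g⁻¹ * u * g) (P_le_C (mem_cj.1 (e ▸ huP))) fun v hv => by
      have := hP _ (e ▸ conj_mem_cj.2 hv : g * v * g⁻¹ ∈ (P : Subgroup G))
      calc _ = g⁻¹ * (g * v * g⁻¹ * u) * g := by group
        _ = _ := by rw [this]; group)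
    refine ⟨g, s, fun e0 => (Fact.out : p.Prime).ne_one ?_, by rw [hs]; group⟩
    rw [e0, m_zero] at hs
    rw [← hu, orderOf_eq_one_iff]
    calc u = g * (g⁻¹ * u * g) * g⁻¹ := by group
      _ = 1 := by rw [← hs]; group
  obtain ⟨g, s, hs, rfl⟩ := key hu huP hP
  obtain ⟨g', s', hs', rfl⟩ := key hv hvQ hQ
  exact ⟨s, s', hs, hs', fun k e => hn (g' * k * g⁻¹) (by rw [← e]; group)⟩

omit [Finite G] in
theorem three_of_card {n : ℕ} (hn : Odd n) (h1 : 1 < n) (hF : Fintype.card F = 3 ^ n) : Three F := by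
  obtain ⟨k, rfl⟩ := hn
  refine ⟨?_, ?_, ?_⟩
  · have := FiniteField.cast_card_eq_zero F
    rw [hF] at this
    exact_mod_cast pow_eq_zero_iff (n := 2 * k + 1) (by omega) |>.1 (by exact_mod_cast this)
  · exact hF ▸ Nat.pow_le_pow_right (n := 3) (by norm_num) (show 3 ≤ 2 * k + 1 by omega)
  · rw [hF, pow_succ, pow_mul, Nat.mul_mod, Nat.pow_mod]; simp

end CfsgLib.Hay
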